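import Mathlib
import Cfsg.Agent.H490.Der_m3
import Cfsg.Agent.H500.AS.Seven
import Cfsg.Agent.H465.LTwo_m3
import Cfsg.Agent.S0252
import Cfsg.Agent.S0253
import Cfsg.Agent.S0254
import Cfsg.Agent.S0255
import Cfsg.Agent.Lib.SolvableNormalP
import Cfsg.Agent.H465.AltPE
import Cfsg.Agent.H965.SURow_m3
import Cfsg.Agent.H225.AxB
import Cfsg.Agent.LieClassical.OrthTrans
import Cfsg.Agent.H518.SURow_m3
import Cfsg.Agent.H518.SUOrth
import Cfsg.Agent.S2143
import Cfsg.Agent.S2144
import Cfsg.Agent.S2147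
import Cfsg.Agent.H500.AS.Index
import Cfsg.Agent.S2145
import Cfsg.Agent.S2146
import Cfsg.Agent.H149.PGOGoal
import Cfsg.Agent.ClassicalGeometry.SpinorSign
import Cfsg.Agent.S0790
import Cfsg.Agent.S2142
import Cfsg.Agent.S2141
import Cfsg.Agent.S2140
import Cfsg.Agent.H541.CntPsu
import Cfsg.Agent.S0256
import Cfsg.Agent.S0271
import Cfsg.Agent.S0245
import Cfsg.Agent.TwoFusion.StarLemma
import Cfsg.Agent.H198.SympGamma
import Cfsg.Agent.UGT.U2.Rec.Congr
import Cfsg.Agent.FastGrp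
import Cfsg.Agent.Prune
set_option linter.all false

section
prune_inst 0x7fbca8f8abb801dfdfff7e7fa698cdfc38901fffa6dff9433fe021ef0b9f030009c5238d09e010fe1ec2401400a87803fb7eeeffe26bd87ffffd1ff41ffbee0fe5f7b508119488340f340ffe03f0778e7f3fffffffffffffffffffffffffffaeffbfffffffff

-- part: H791/AS/LTwoII_mg
section
prune_inst 0x4115041000be2000000000004002000101000000000000800008000040000e000008200400000000002000001000500081100000000400000040000000005010000000000a0480000000010000000000000000000000000000000000000010000000000000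
set_option linter.all false
open scoped Cfsg.Agent.FastGrp

-- part: H791/AS/Mat2
section
/-!
# `2 × 2` matrices (helper791, TEAM GEN, S3943)

* `comm_iff` : the commutant of a nonscalar matrix;
* `order_eq` : the order of an irreducible element of `SL₂(F)` depends only on its trace;
* `card_fix_le` : fixed points of semilinear maps;
* `card_U`, `card_inv_le`, `card_semi_le` : counting elements of given trace.
-/

set_option autoImplicit false
set_option linter.unusedSectionVars false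

namespace Cfsg.Agent.H791.AS

open Matrix Module

universe u v

variable {F : Type u} [Field F]

/-- the polynomial `X² - tX + 1` has no root -/
def Irr (t : F) : Prop := ∀ x : F, x ^ 2 - t * x + 1 ≠ 0

theorem trace_two' (s : Matrix (Fin 2) (Fin 2) F) : s.trace = s 0 0 + s 1 1 := by
  rw [Matrix.trace_fin_two]

/-- Cayley–Hamilton -/
theorem sq_eq {s : Matrix (Fin 2) (Fin 2) F} {t : F} (ht : s.trace = t) (hd : s.det = 1) :
    s * s = t • s - 1 := by
  rw [trace_two'] at ht
  rw [Matrix.det_fin_two] at hd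
  ext i j
  (revert i j; simp only [Matrix.mul_apply, Fin.sum_univ_two, _root_.Fin.forall_fin_succ, Fin.isValue, _root_.Matrix.sub_apply, _root_.Matrix.smul_apply, _root_.smul_eq_mul, _root_.Fin.succ_zero_eq_one, _root_.IsEmpty.forall_iff, _root_.Matrix.one_apply_eq, Nat.reduceAdd, _root_.ne_eq, _root_.zero_ne_one, _root_.not_false_eq_true, _root_.Matrix.one_apply_ne, _root_.sub_zero, _root_.Fin.succ_ne_zero, _root_.and_true, _root_.true_and]) <;> (repeat' with_reducible apply And.intro)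
  · linear_combination (s 0 0) * ht - hd
  · linear_combination (s 0 1) * ht
  · linear_combination (s 1 0) * ht
  · linear_combination (s 1 1) * ht - hd

/-- the commutant of a nonscalar matrix -/
theorem exists_of_comm {z w : Matrix (Fin 2) (Fin 2) F} (hz : ∀ c : F, z ≠ c • 1) (h : w * z = z * w) :
    ∃ γ δ : F, w = γ • 1 + δ • z := by
  have e00 := congrFun (congrFun h 0) 0
  have e01 := congrFun (congrFun h 0) 1
  have e10 := congrFun (congrFun h 1) 0
  simp only [Matrix.mul_apply, Fin.sum_univ_two] at e00 e01 e10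
  by_cases h1 : z 0 1 = 0
  · by_cases h2 : z 1 0 = 0
    · have h3 : z 0 0 - z 1 1 ≠ 0 := by
        intro h3
        apply hz (z 0 0)
        ext i j
        (revert i j; simp only [h1, h2, _root_.Fin.forall_fin_succ, Fin.isValue, _root_.Matrix.smul_apply, _root_.smul_eq_mul, _root_.Fin.succ_zero_eq_one, _root_.IsEmpty.forall_iff, _root_.Matrix.one_apply_eq, _root_.mul_one, Nat.reduceAdd, _root_.ne_eq, _root_.zero_ne_one, _root_.not_false_eq_true, _root_.Matrix.one_apply_ne, _root_.MulZeroClass.mul_zero, _root_.Fin.succ_ne_zero, _root_.and_true, _root_.true_and]) <;> (repeat' with_reducible apply And.intro)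
        linear_combination -h3
      have h4 : w 0 1 = 0 := by
        have : w 0 1 * (z 0 0 - z 1 1) = 0 := by rw [h1] at e01; linear_combination -e01
        exact (mul_eq_zero.1 this).resolve_right h3
      have h5 : w 1 0 = 0 := by
        have : w 1 0 * (z 0 0 - z 1 1) = 0 := by rw [h2] at e10; linear_combination e10
        exact (mul_eq_zero.1 this).resolve_right h3
      refine ⟨(w 1 1 * z 0 0 - w 0 0 * z 1 1) / (z 0 0 - z 1 1), (w 0 0 - w 1 1) / (z 0 0 - z 1 1), ?_⟩
      ext i j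
      fin_cases i <;> fin_cases j <;> simp [h1, h2, h4, h5]
      · field_simp; ring
      · field_simp; ring
    · refine ⟨w 0 0 - w 1 0 / z 1 0 * z 0 0, w 1 0 / z 1 0, ?_⟩
      rw [h1] at e00 e01
      have h4 : w 0 1 = 0 := by
        have : w 0 1 * z 1 0 = 0 := by linear_combination e00
        exact (mul_eq_zero.1 this).resolve_right h2
      ext i j
      (revert i j; simp only [h1, h4, _root_.Fin.forall_fin_succ, Fin.isValue, _root_.Matrix.add_apply, _root_.Matrix.smul_apply, _root_.smul_eq_mul, _root_.Fin.succ_zero_eq_one, _root_.IsEmpty.forall_iff, _root_.Matrix.one_apply_eq, _root_.mul_one, _root_.sub_add_cancel, Nat.reduceAdd, _root_.ne_eq, _root_.zero_ne_one, _root_.not_false_eq_true, _root_.Matrix.one_apply_ne, _root_.MulZeroClass.mul_zero, _root_.add_zero, _root_.Fin.succ_ne_zero, _root_.zero_add, _root_.and_true, _root_.true_and]) <;> (repeat' with_reducible apply And.intro)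
      · field_simp
      · field_simp
        linear_combination e10
  · refine ⟨w 0 0 - w 0 1 / z 0 1 * z 0 0, w 0 1 / z 0 1, ?_⟩
    ext i j
    (revert i j; simp only [_root_.Fin.forall_fin_succ, Fin.isValue, _root_.Matrix.add_apply, _root_.Matrix.smul_apply, _root_.smul_eq_mul, _root_.Fin.succ_zero_eq_one, _root_.IsEmpty.forall_iff, _root_.Matrix.one_apply_eq, _root_.mul_one, _root_.sub_add_cancel, Nat.reduceAdd, _root_.ne_eq, _root_.zero_ne_one, _root_.not_false_eq_true, _root_.Matrix.one_apply_ne, _root_.MulZeroClass.mul_zero, _root_.zero_add, _root_.Fin.succ_ne_zero, _root_.and_true, _root_.true_and]) <;> (repeat' with_reducible apply And.intro)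
    · field_simp
    · field_simp
      linear_combination -e00
    · field_simp
      linear_combination -e01

theorem comm_of {z w s : Matrix (Fin 2) (Fin 2) F} (hz : ∀ c : F, z ≠ c • 1) (hw : w * z = z * w)
    (hs : s * z = z * s) : w * s = s * w := by
  obtain ⟨γ, δ, rfl⟩ := exists_of_comm hz hw
  rw [add_mul, mul_add, smul_mul_assoc, smul_mul_assoc, mul_smul_comm, mul_smul_comm, one_mul, mul_one, hs]

theorem det_lin {s : Matrix (Fin 2) (Fin 2) F} {t : F} (ht : s.trace = t) (hd : s.det = 1) (α β : F) :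
    (α • (1 : Matrix (Fin 2) (Fin 2) F) + β • s).det = α ^ 2 + α * β * t + β ^ 2 := by
  rw [trace_two'] at ht
  rw [Matrix.det_fin_two] at hd
  rw [Matrix.det_fin_two]
  simp
  linear_combination (α * β) * ht + β ^ 2 * hd

theorem trace_lin {s : Matrix (Fin 2) (Fin 2) F} {t : F} (ht : s.trace = t) (α β : F) :
    (α • (1 : Matrix (Fin 2) (Fin 2) F) + β • s).trace = 2 * α + β * t := by
  rw [trace_two'] at ht
  rw [trace_two']
  simp only [_root_.Fin.isValue, _root_.Matrix.add_apply, _root_.Matrix.smul_apply, _root_.Matrix.one_apply_eq, _root_.smul_eq_mul, _root_.mul_one]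
  linear_combination β * ht

theorem norm_ne_zero {t : F} (hi : Irr t) {α β : F} (h : α ^ 2 + α * β * t + β ^ 2 = 0) : α = 0 ∧ β = 0 := by
  by_cases hβ : β = 0
  · rw [hβ] at h
    refine ⟨?_, hβ⟩
    have : α ^ 2 = 0 := by linear_combination h
    exact pow_eq_zero_iff (two_ne_zero) |>.1 this
  · exfalso
    apply hi (-(α / β))
    field_simp
    linear_combination h

theorem not_scalar {s : Matrix (Fin 2) (Fin 2) F} {t : F} (hi : Irr t) (ht : s.trace = t) (hd : s.det = 1) :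
    ∀ c : F, s ≠ c • 1 := by
  rintro c rfl
  have h1 := det_lin (s := c • (1 : Matrix (Fin 2) (Fin 2) F)) ht hd (-c) 1
  have h2 : (-c) • (1 : Matrix (Fin 2) (Fin 2) F) + (1 : F) • (c • (1 : Matrix (Fin 2) (Fin 2) F)) = 0 := by
    rw [one_smul, neg_smul, neg_add_cancel]
  rw [h2, Matrix.det_zero] at h1
  have := (norm_ne_zero hi h1.symm).2
  exact one_ne_zero this

/-- linear independence -/
theorem lin_inj {s : Matrix (Fin 2) (Fin 2) F} (hs : ∀ c : F, s ≠ c • 1) {α β α' β' : F}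
    (h : α • (1 : Matrix (Fin 2) (Fin 2) F) + β • s = α' • 1 + β' • s) : α = α' ∧ β = β' := by
  have hβ : β = β' := by
    by_contra hne
    have h1 : β - β' ≠ 0 := sub_ne_zero.2 hne
    apply hs ((β - β')⁻¹ * (α' - α))
    have h2 : (β - β') • s = (α' - α) • (1 : Matrix (Fin 2) (Fin 2) F) := by
      rw [sub_smul, sub_smul]
      have := h
      rw [← sub_eq_zero] at this ⊢
      rw [← this]
      abel
    rw [mul_smul, ← h2, smul_smul, inv_mul_cancel₀ h1, one_smul]
  refine ⟨?_, hβ⟩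
  rw [hβ] at h
  have h2 := add_right_cancel h
  have h3 := congrFun (congrFun h2 0) 0
  simpa using h3

/-- two elements of `F[s]` with the same trace and determinant one -/
theorem two_roots {t τ : F} (hi : Irr t) {γ δ γ' δ' : F} (h1 : 2 * γ + δ * t = τ) (h2 : γ ^ 2 + γ * δ * t + δ ^ 2 = 1) (h1' : 2 * γ' + δ' * t = τ)
    (h2' : γ' ^ 2 + γ' * δ' * t + δ' ^ 2 = 1) : (γ = γ' ∧ δ = δ') ∨ (γ = τ - γ' ∧ δ = -δ') := by
  have key : ((γ - γ') ^ 2 + (γ - γ') * (δ - δ') * t + (δ - δ') ^ 2) *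
      ((γ + γ' - τ) ^ 2 + (γ + γ' - τ) * (δ + δ') * t + (δ + δ') ^ 2) = 0 := by
    -- the product of the two elements is zero
    have p1 : (γ - γ') * (γ + γ' - τ) - (δ - δ') * (δ + δ') = 0 := by
      have e1 : γ ^ 2 - δ ^ 2 - τ * γ + 1 = 0 := by
        linear_combination γ * h1 - h2
      have e1' : γ' ^ 2 - δ' ^ 2 - τ * γ' + 1 = 0 := by
        linear_combination γ' * h1' - h2'
      linear_combination e1 - e1'
    have p2 : (γ - γ') * (δ + δ') + (δ - δ') * (γ + γ' - τ) + (δ - δ') * (δ + δ') * t = 0 := by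
      have e2 : 2 * γ * δ + δ ^ 2 * t - τ * δ = 0 := by linear_combination δ * h1
      have e2' : 2 * γ' * δ' + δ' ^ 2 * t - τ * δ' = 0 := by linear_combination δ' * h1'
      linear_combination e2 - e2'
    have e := (show ((γ - γ') ^ 2 + (γ - γ') * (δ - δ') * t + (δ - δ') ^ 2) *
      ((γ + γ' - τ) ^ 2 + (γ + γ' - τ) * (δ + δ') * t + (δ + δ') ^ 2) =
      ((γ - γ') * (γ + γ' - τ) - (δ - δ') * (δ + δ')) ^ 2 +
      ((γ - γ') * (γ + γ' - τ) - (δ - δ') * (δ + δ')) *
        ((γ - γ') * (δ + δ') + (δ - δ') * (γ + γ' - τ) + (δ - δ') * (δ + δ') * t) * t +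
      ((γ - γ') * (δ + δ') + (δ - δ') * (γ + γ' - τ) + (δ - δ') * (δ + δ') * t) ^ 2 by ring)
    rw [e, p1, p2]
    ring
  rcases mul_eq_zero.1 key with h | h
  · left
    obtain ⟨h3, h4⟩ := norm_ne_zero hi h
    exact ⟨sub_eq_zero.1 h3, sub_eq_zero.1 h4⟩
  · right
    obtain ⟨h3, h4⟩ := norm_ne_zero hi h
    exact ⟨by linear_combination h3, by linear_combination h4⟩

/-! ### the order -/

/-- `s ^ n = α n + β n s` -/
def seq (t : F) : ℕ → F × F
  | 0 => (1, 0)
  | n + 1 => (-(seq t n).2, (seq t n).1 + (seq t n).2 * t)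

theorem pow_seq {s : Matrix (Fin 2) (Fin 2) F} {t : F} (ht : s.trace = t) (hd : s.det = 1) (n : ℕ) :
    s ^ n = (seq t n).1 • (1 : Matrix (Fin 2) (Fin 2) F) + (seq t n).2 • s := by
  induction n with
  | zero => simp [seq]
  | succ n ih =>
    rw [pow_succ, ih, add_mul, smul_mul_assoc, smul_mul_assoc, one_mul, sq_eq ht hd]
    simp only [seq]
    module

theorem order_eq {s s' : Matrix.SpecialLinearGroup (Fin 2) F} {t : F} (hi : Irr t)
    (ht : (s : Matrix (Fin 2) (Fin 2) F).trace = t) (ht' : (s' : Matrix (Fin 2) (Fin 2) F).trace = t) :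
    orderOf s = orderOf s' := by
  have key : ∀ s : Matrix.SpecialLinearGroup (Fin 2) F, (s : Matrix (Fin 2) (Fin 2) F).trace = t → ∀ n : ℕ,
      s ^ n = 1 ↔ seq t n = (1, 0) := by
    intro s ht n
    have h1 := pow_seq ht s.2 n
    have h2 := not_scalar hi ht s.2
    constructor
    · intro h
      have h3 : (s : Matrix (Fin 2) (Fin 2) F) ^ n = 1 := by
        have e := Matrix.SpecialLinearGroup.coe_pow s n
        rw [h] at e
        exact e.symm
      rw [h3] at h1
      have h4 : (1 : F) • (1 : Matrix (Fin 2) (Fin 2) F) + (0 : F) • (s : Matrix (Fin 2) (Fin 2) F) =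
          (seq t n).1 • (1 : Matrix (Fin 2) (Fin 2) F) + (seq t n).2 • (s : Matrix (Fin 2) (Fin 2) F) := by
        rw [← h1, one_smul, zero_smul, add_zero]
      obtain ⟨h5, h6⟩ := lin_inj h2 h4
      exact Prod.ext h5.symm h6.symm
    · intro h
      apply Subtype.ext
      rw [h, one_smul, zero_smul, add_zero] at h1
      exact (Matrix.SpecialLinearGroup.coe_pow s n).trans h1
  rw [orderOf_eq_orderOf_iff]
  intro n
  rw [key s ht, key s' ht']

/-! ### counting -/

/-- the elements of `SL₂(F)` of trace `t` -/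
def U (t : F) : Set (Matrix.SpecialLinearGroup (Fin 2) F) := {s | (s : Matrix (Fin 2) (Fin 2) F).trace = t}

theorem mem_U {t : F} {s : Matrix.SpecialLinearGroup (Fin 2) F} : s ∈ U t ↔ (s : Matrix (Fin 2) (Fin 2) F).trace = t :=
  Iff.rfl

theorem prod_ne {t x : F} (hi : Irr t) : x * (t - x) - 1 ≠ 0 := by
  intro h
  exact hi x (by linear_combination -h)

theorem entry {t : F} {s : Matrix.SpecialLinearGroup (Fin 2) F} (hs : s ∈ U t) :
    s.1 1 1 = t - s.1 0 0 ∧ s.1 0 1 * s.1 1 0 = s.1 0 0 * (t - s.1 0 0) - 1 := by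
  have h1 : s.1 0 0 + s.1 1 1 = t := by rw [← trace_two']; exact hs
  have h2 := s.2
  rw [Matrix.det_fin_two] at h2
  refine ⟨by linear_combination h1, ?_⟩
  linear_combination (s.1 0 0) * h1 - h2

theorem ext_U {t : F} (hi : Irr t) {s s' : Matrix.SpecialLinearGroup (Fin 2) F} (hs : s ∈ U t) (hs' : s' ∈ U t)
    (h0 : s.1 0 0 = s'.1 0 0) (h1 : s.1 0 1 = s'.1 0 1) : s = s' := by
  obtain ⟨e1, e2⟩ := entry hs
  obtain ⟨e1', e2'⟩ := entry hs'
  have hne : s.1 0 1 ≠ 0 := by
    intro h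
    rw [h, zero_mul] at e2
    exact prod_ne hi e2.symm
  apply Subtype.ext
  ext i j
  fin_cases i <;> fin_cases j
  · exact h0
  · exact h1
  · change s.1 1 0 = s'.1 1 0
    apply mul_left_cancel₀ hne
    rw [e2, h1, e2', h0]
  · change s.1 1 1 = s'.1 1 1
    rw [e1, e1', h0]

variable [Finite F]

theorem card_U {t : F} (hi : Irr t) : Nat.card F * (Nat.card F - 1) ≤ (U t).ncard := by
  classical
  let f : F × Fˣ → Matrix.SpecialLinearGroup (Fin 2) F := fun a =>
    ⟨!![a.1, (a.2 : F); (a.1 * (t - a.1) - 1) * ((a.2⁻¹ : Fˣ) : F), t - a.1], by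
      rw [Matrix.det_fin_two_of]
      have : (a.2 : F) * ((a.2⁻¹ : Fˣ) : F) = 1 := by rw [← Units.val_mul, mul_inv_cancel, Units.val_one]
      linear_combination -(a.1 * (t - a.1) - 1) * this⟩
  have hf : ∀ a, f a ∈ U t := by
    intro a
    rw [mem_U, trace_two']
    change a.1 + (t - a.1) = t
    ring
  have hinj : Function.Injective f := by
    intro a b h
    have h1 : (f a).1 = (f b).1 := congrArg Subtype.val h
    have e0 : a.1 = b.1 := congrFun (congrFun h1 0) 0
    have e1 : (a.2 : F) = (b.2 : F) := congrFun (congrFun h1 0) 1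
    exact Prod.ext e0 (Units.ext e1)
  have h1 : (Set.range f).ncard = Nat.card F * (Nat.card F - 1) := by
    rw [← Set.image_univ, Set.ncard_image_of_injective _ hinj, Set.ncard_univ, Nat.card_prod, Nat.card_units]
  rw [← h1]
  refine Set.ncard_le_ncard ?_ (Set.toFinite _)
  rintro _ ⟨a, rfl⟩
  exact hf a

/-- elements commuting with a nonscalar matrix -/
theorem card_comm_le {t : F} (hi : Irr t) {B : Matrix (Fin 2) (Fin 2) F} (hB : ∀ c : F, B ≠ c • 1) :
    {s ∈ U t | B * s.1 = s.1 * B}.ncard ≤ 2 := by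
  rcases Set.eq_empty_or_nonempty {s ∈ U t | B * s.1 = s.1 * B} with h | ⟨s0, hs0, hs0'⟩
  · rw [h, Set.ncard_empty]; omega
  refine (Set.ncard_le_ncard (t := {s0, s0⁻¹}) ?_ (Set.toFinite _)).trans
    ((Set.ncard_insert_le _ _).trans (by rw [Set.ncard_singleton]))
  rintro s ⟨hs, hs'⟩
  have h1 : s.1 * s0.1 = s0.1 * s.1 := comm_of hB hs'.symm hs0'.symm
  obtain ⟨γ, δ, h2⟩ := exists_of_comm (not_scalar hi hs0 s0.2) h1
  have h3 : 2 * γ + δ * t = t := by
    have h4 : (γ • (1 : Matrix (Fin 2) (Fin 2) F) + δ • s0.1).trace = t := by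
      rw [← h2]; exact hs
    rwa [trace_lin hs0] at h4
  have h5 : γ ^ 2 + γ * δ * t + δ ^ 2 = 1 := by
    rw [← det_lin hs0 s0.2, ← h2]
    exact s.2
  rcases two_roots hi h3 h5 (γ' := 0) (δ' := 1) (by ring) (by ring) with ⟨rfl, rfl⟩ | ⟨rfl, rfl⟩
  · left
    apply Subtype.ext
    rw [h2, zero_smul, zero_add, one_smul]
  · right
    rw [Set.mem_singleton_iff]
    apply Subtype.ext
    rw [h2, Matrix.SpecialLinearGroup.coe_inv, Matrix.adjugate_fin_two]
    obtain ⟨e1, -⟩ := entry hs0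
    ext i j
    (revert i j; simp only [_root_.Fin.forall_fin_succ, _root_.sub_zero, _root_.neg_smul, _root_.one_smul, _root_.Matrix.add_apply, _root_.Matrix.smul_apply, _root_.smul_eq_mul, _root_.Matrix.neg_apply, Fin.isValue, _root_.Matrix.of_apply, _root_.Matrix.cons_val', _root_.Matrix.cons_val_fin_one, _root_.Matrix.cons_val_zero, _root_.Matrix.cons_val_succ, _root_.Fin.succ_zero_eq_one, _root_.IsEmpty.forall_iff, _root_.Matrix.one_apply_eq, _root_.mul_one, Nat.reduceAdd, _root_.ne_eq, _root_.zero_ne_one, _root_.not_false_eq_true, _root_.Matrix.one_apply_ne, _root_.MulZeroClass.mul_zero, _root_.zero_add, _root_.Fin.succ_ne_zero, _root_.neg_inj, _root_.and_true, _root_.true_and]) <;> (repeat' with_reducible apply And.intro)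
    · rw [e1]; ring
    · rw [e1]; ring

/-- the elements inverted by `B` -/
theorem trace_of_inv {t : F} (hi : Irr t) {B : Matrix (Fin 2) (Fin 2) F} {s : Matrix.SpecialLinearGroup (Fin 2) F}
    (hs : s ∈ U t) (h : B * s.1 = (t • 1 - s.1) * B) : B.trace = 0 ∧ (B * s.1).trace = 0 := by
  obtain ⟨e1, e2⟩ := entry hs
  have h1 := not_scalar hi hs s.2
  -- `tr(B) (t - s) = tr(B s)`
  have h2 : B.trace • (t • 1 - s.1) = (B * s.1).trace • (1 : Matrix (Fin 2) (Fin 2) F) := by
    have e00 := congrFun (congrFun h 0) 0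
    have e01 := congrFun (congrFun h 0) 1
    have e10 := congrFun (congrFun h 1) 0
    have e11 := congrFun (congrFun h 1) 1
    simp only [Matrix.mul_apply, Fin.sum_univ_two, Matrix.sub_apply, Matrix.smul_apply, Matrix.one_apply_eq, smul_eq_mul,
      Matrix.one_apply_ne (show (0 : Fin 2) ≠ 1 by decide), Matrix.one_apply_ne (show (1 : Fin 2) ≠ 0 by decide)]
      at e00 e01 e10 e11
    ext i j
    fin_cases i <;> fin_cases j <;>
      simp only [Matrix.trace_fin_two, Matrix.mul_apply, Fin.sum_univ_two, Matrix.sub_apply, Matrix.smul_apply,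
        smul_eq_mul, Matrix.one_apply_eq, Fin.zero_eta, Fin.mk_one, Fin.isValue,
        Matrix.one_apply_ne (show (0 : Fin 2) ≠ 1 by decide), Matrix.one_apply_ne (show (1 : Fin 2) ≠ 0 by decide)]
    · linear_combination -e00 - (B 1 1) * e1
    · linear_combination -e01 + (B 0 1) * e1
    · linear_combination -e10 + (B 1 0) * e1
    · linear_combination -e11 - (B 0 0) * e1
  have h3 : B.trace = 0 := by
    by_contra hne
    apply h1 (t - (B.trace)⁻¹ * (B * s.1).trace)
    have h4 : t • 1 - s.1 = ((B.trace)⁻¹ * (B * s.1).trace) • (1 : Matrix (Fin 2) (Fin 2) F) := by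
      rw [mul_smul, ← h2, smul_smul, inv_mul_cancel₀ hne, one_smul]
    rw [sub_smul, ← h4]
    abel
  refine ⟨h3, ?_⟩
  rw [h3, zero_smul] at h2
  have h5 := congrFun (congrFun h2 0) 0
  simpa using h5.symm

theorem card_inv_le {t : F} (hi : Irr t) {B : Matrix (Fin 2) (Fin 2) F} (hB : ∀ c : F, B ≠ c • 1) (hB0 : B.trace = 0) :
    {s ∈ U t | (B * s.1).trace = 0}.ncard ≤ 2 * Nat.card F := by
  classical
  have := Fintype.ofFinite F
  have hb : B 1 1 = -B 0 0 := by
    rw [trace_two'] at hB0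
    linear_combination hB0
  by_cases hd : B 0 1 = 0 ∧ B 1 0 = 0
  · obtain ⟨h1, h2⟩ := hd
    have h3 : 2 * B 0 0 ≠ 0 := by
      intro h3
      apply hB (B 0 0)
      ext i j
      (revert i j; simp only [h1, h2, _root_.Fin.forall_fin_succ, Fin.isValue, _root_.Matrix.smul_apply, _root_.smul_eq_mul, _root_.Fin.succ_zero_eq_one, _root_.IsEmpty.forall_iff, _root_.Matrix.one_apply_eq, _root_.mul_one, Nat.reduceAdd, _root_.ne_eq, _root_.zero_ne_one, _root_.not_false_eq_true, _root_.Matrix.one_apply_ne, _root_.MulZeroClass.mul_zero, _root_.Fin.succ_ne_zero, _root_.and_true, _root_.true_and]) <;> (repeat' with_reducible apply And.intro)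
      rw [hb]; linear_combination -h3
    have h4 : {s ∈ U t | (B * s.1).trace = 0}.ncard ≤ (Set.univ : Set F).ncard := by
      refine Set.ncard_le_ncard_of_injOn (fun s => s.1 0 1) (fun _ _ => Set.mem_univ _) ?_ (Set.toFinite _)
      rintro s ⟨hs, hs'⟩ s' ⟨hs1, hs1'⟩ h
      refine ext_U hi hs hs1 ?_ h
      have key : ∀ s : Matrix.SpecialLinearGroup (Fin 2) F, s ∈ U t → (B * s.1).trace = 0 →
          (2 * B 0 0) * s.1 0 0 = B 0 0 * t := by
        intro s hs hs'
        obtain ⟨e1, -⟩ := entry hs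
        rw [trace_two'] at hs'
        simp only [Matrix.mul_apply, Fin.sum_univ_two] at hs'
        rw [hb, h1, h2, e1] at hs'
        linear_combination hs'
      apply mul_left_cancel₀ h3
      rw [key s hs hs', key s' hs1 hs1']
    rw [Set.ncard_univ] at h4
    omega
  · have hfin : {s ∈ U t | (B * s.1).trace = 0}.Finite := Set.toFinite _
    rw [Set.ncard_eq_toFinset_card _ hfin]
    refine (Finset.card_le_mul_card_image (f := fun s : Matrix.SpecialLinearGroup (Fin 2) F => s.1 0 0) _ 2 ?_).trans ?_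
    · intro x hx
      -- the polynomial
      set P : Polynomial F := Polynomial.C (B 1 0) * Polynomial.X ^ 2 +
        Polynomial.C (B 0 0 * x - B 0 0 * (t - x)) * Polynomial.X + Polynomial.C (B 0 1 * (x * (t - x) - 1)) with hP
      have hP0 : P ≠ 0 := by
        intro h0
        apply hd
        have c2 := congrArg (fun Q : Polynomial F => Q.coeff 2) h0
        have c0 := congrArg (fun Q : Polynomial F => Q.coeff 0) h0
        simp [hP, Polynomial.coeff_X, Polynomial.coeff_C, Polynomial.coeff_one] at c2 c0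
        exact ⟨c0.resolve_right (prod_ne hi), c2⟩
      refine le_trans ?_ ((Polynomial.card_roots' P).trans (Polynomial.natDegree_quadratic_le))
      refine le_trans ?_ (Multiset.toFinset_card_le P.roots)
      refine Finset.card_le_card_of_injOn (fun s => s.1 0 1) ?_ ?_
      · intro s hs
        simp only [Finset.coe_filter, Set.Finite.mem_toFinset, Set.mem_ofPred_eq] at hs
        obtain ⟨⟨hs, hs'⟩, hx'⟩ := hs
        obtain ⟨e1, e2⟩ := entry hs
        simp only [Finset.mem_coe, Multiset.mem_toFinset]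
        rw [Polynomial.mem_roots hP0, Polynomial.IsRoot, hP]
        simp only [Polynomial.eval_add, Polynomial.eval_mul, Polynomial.eval_C, Polynomial.eval_pow, Polynomial.eval_X]
        rw [trace_two'] at hs'
        simp only [Matrix.mul_apply, Fin.sum_univ_two] at hs'
        rw [hb, e1] at hs'
        rw [hx'] at hs' e2
        linear_combination (s.1 0 1) * hs' - (B 0 1) * e2
      · intro s hs s' hs1 h
        simp only [Finset.coe_filter, Set.Finite.mem_toFinset, Set.mem_ofPred_eq] at hs hs1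
        exact ext_U hi hs.1.1 hs1.1.1 (hs.2.trans hs1.2.symm) h
    · refine Nat.mul_le_mul_left _ ?_
      rw [Nat.card_eq_fintype_card]
      exact Finset.card_le_univ _

end Cfsg.Agent.H791.AS
end

-- part: H791/AS/Semi
section
/-!
# Semilinear maps and `2 × 2` matrices (helper791, TEAM GEN, S3943)
-/

set_option autoImplicit false
set_option linter.unusedSectionVars false

namespace Cfsg.Agent.H791.AS

open Matrix Module

universe u v

section fix

variable {F : Type u} [Field F] [Finite F] (σ : F ≃+* F)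

/-- the number of fixed points of a semilinear map -/
theorem card_fix_le (n : ℕ) : ∀ {V : Type v} [AddCommGroup V] [Module F V] [Finite V], finrank F V = n →
    ∀ φ : V →ₛₗ[(σ : F →+* F)] V, Function.Injective φ →
      Nat.card {v : V // φ v = v} ≤ Nat.card {c : F // σ c = c} ^ n := by
  have hq : 0 < Nat.card {c : F // σ c = c} := by
    have : Nonempty {c : F // σ c = c} := ⟨⟨0, map_zero σ⟩⟩
    exact Nat.card_pos
  induction n with
  | zero =>
    intro V _ _ _ hn φ _
    have h1 : Subsingleton V := Module.finrank_zero_iff.1 hn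
    rw [pow_zero]
    have : Subsingleton {v : V // φ v = v} := ⟨fun a b => Subtype.ext (Subsingleton.elim _ _)⟩
    exact Finite.card_le_one_iff_subsingleton.2 this
  | succ n ih =>
    intro V _ _ _ hn φ hinj
    classical
    by_cases h0 : ∀ v, φ v = v → v = 0
    · refine le_trans ?_ (Nat.one_le_pow _ _ hq)
      have : Subsingleton {v : V // φ v = v} :=
        ⟨fun a b => Subtype.ext (by rw [h0 a.1 a.2, h0 b.1 b.2])⟩
      exact Finite.card_le_one_iff_subsingleton.2 this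
    push Not at h0
    obtain ⟨w, hw, hw0⟩ := h0
    set P : Submodule F V := Submodule.span F {w} with hPdef
    have hP : P ≤ P.comap φ := by
      rw [hPdef, Submodule.span_le]
      intro v hv
      rw [Set.mem_singleton_iff] at hv
      change φ v ∈ P
      rw [hv, hw]
      exact Submodule.mem_span_singleton_self w
    set φ' := P.mapQ P φ hP with hφ'
    have hmk : ∀ v, φ' (P.mkQ v) = P.mkQ (φ v) := fun v => Submodule.mapQ_apply _ _ _ _
    have hinj' : Function.Injective φ' := by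
      intro a b hab
      obtain ⟨a, rfl⟩ := P.mkQ_surjective a
      obtain ⟨b, rfl⟩ := P.mkQ_surjective b
      rw [hmk, hmk, Submodule.mkQ_apply, Submodule.mkQ_apply, Submodule.Quotient.eq] at hab
      rw [Submodule.mkQ_apply, Submodule.mkQ_apply, Submodule.Quotient.eq]
      obtain ⟨c, hc⟩ := Submodule.mem_span_singleton.1 hab
      refine Submodule.mem_span_singleton.2 ⟨σ.symm c, hinj ?_⟩
      rw [map_sub, ← hc, LinearMap.map_smulₛₗ, hw]
      congr 1
      exact σ.apply_symm_apply c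
    have hn' : finrank F (V ⧸ P) = n := by
      have h1 := P.finrank_quotient_add_finrank
      have hfr : finrank F P = 1 := by rw [hPdef]; exact finrank_span_singleton hw0
      rw [hn, hfr] at h1
      omega
    have hfq : Finite (V ⧸ P) := Finite.of_surjective P.mkQ P.mkQ_surjective
    have h1 := ih hn' φ' hinj'
    -- representatives
    let rep : {u : V ⧸ P // φ' u = u} → V := fun u =>
      if h : ∃ v, φ v = v ∧ P.mkQ v = u.1 then h.choose else 0
    have hrep : ∀ v, (hv : φ v = v) → φ (rep ⟨P.mkQ v, by rw [hmk, hv]⟩) = rep ⟨P.mkQ v, by rw [hmk, hv]⟩ ∧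
        P.mkQ (rep ⟨P.mkQ v, by rw [hmk, hv]⟩) = P.mkQ v := by
      intro v hv
      have h : ∃ v', φ v' = v' ∧ P.mkQ v' = P.mkQ v := ⟨v, hv, rfl⟩
      have e : rep ⟨P.mkQ v, by rw [hmk, hv]⟩ = h.choose := by
        simp only [rep]
        rw [dif_pos h]
      rw [e]
      exact h.choose_spec
    have hco : ∀ v : {v : V // φ v = v}, ∃ c : {c : F // σ c = c},
        v.1 = rep ⟨P.mkQ v.1, by rw [hmk, v.2]⟩ + c.1 • w := by
      rintro ⟨v, hv⟩
      obtain ⟨h2, h3⟩ := hrep v hv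
      change ∃ c : {c : F // σ c = c}, v = rep ⟨P.mkQ v, _⟩ + c.1 • w
      generalize rep ⟨P.mkQ v, by rw [hmk, hv]⟩ = r at h2 h3 ⊢
      obtain ⟨c, hc⟩ := Submodule.mem_span_singleton.1 ((Submodule.Quotient.eq P).1 h3)
      have hfix : σ c = c := by
        have h4 : φ (c • w) = c • w := by rw [hc, map_sub, h2, hv]
        rw [LinearMap.map_smulₛₗ, hw] at h4
        exact smul_left_injective F hw0 h4
      refine ⟨⟨-c, by rw [map_neg, hfix]⟩, ?_⟩
      change v = r + (-c) • w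
      rw [neg_smul, hc]
      abel
    choose f hf using hco
    have h2 : Nat.card {v : V // φ v = v} ≤ Nat.card ({u : V ⧸ P // φ' u = u} × {c : F // σ c = c}) := by
      refine Nat.card_le_card_of_injective
        (fun v => ((⟨P.mkQ v.1, by rw [hmk, v.2]⟩ : {u : V ⧸ P // φ' u = u}), f v)) ?_
      intro a b hab
      have e1 : (⟨P.mkQ a.1, by rw [hmk, a.2]⟩ : {u : V ⧸ P // φ' u = u}) = ⟨P.mkQ b.1, by rw [hmk, b.2]⟩ :=
        congrArg Prod.fst hab
      have e2 : f a = f b := congrArg Prod.snd hab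
      apply Subtype.ext
      rw [hf a, hf b, e1, e2]
    rw [Nat.card_prod] at h2
    rw [pow_succ]
    exact h2.trans (Nat.mul_le_mul_right _ h1)

/-- `|F| = q₀ ^ r`, `r` the order of `σ` -/
theorem card_eq_pow : Nat.card F = Nat.card {c : F // σ c = c} ^ orderOf σ := by
  classical
  have hfin : Finite (F ≃+* F) := Finite.of_injective (fun τ : F ≃+* F => (τ : F → F)) DFunLike.coe_injective
  have := Fintype.ofFinite F
  have : Fintype ↥(Subgroup.zpowers σ) := Fintype.ofFinite _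
  have h1 := FixedPoints.finrank_eq_card ↥(Subgroup.zpowers σ) F
  have h2 := Module.natCard_eq_pow_finrank (K := FixedPoints.subfield ↥(Subgroup.zpowers σ) F) (V := F)
  rw [h1, ← Nat.card_eq_fintype_card, Nat.card_zpowers] at h2
  rw [h2]
  congr 1
  refine Nat.card_congr (Equiv.subtypeEquivRight fun c => ?_)
  constructor
  · intro h
    exact h ⟨σ, Subgroup.mem_zpowers σ⟩
  · rintro h ⟨τ, hτ⟩
    change τ c = c
    obtain ⟨k, rfl⟩ := Subgroup.mem_zpowers_iff.1 hτ
    have h3 : σ ∈ MulAction.stabilizer (F ≃+* F) c := h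
    exact (MulAction.stabilizer (F ≃+* F) c).zpow_mem h3 k

end fix

section sl

variable {F : Type u} [Field F] [Finite F]

/-- a traceless matrix -/
def dv (v : Fin 3 → F) : Matrix (Fin 2) (Fin 2) F := !![v 0, v 1; v 2, -v 0]

theorem dv_eq {N : Matrix (Fin 2) (Fin 2) F} (h : N.trace = 0) : dv ![N 0 0, N 0 1, N 1 0] = N := by
  rw [trace_two'] at h
  ext i j
  (revert i j; simp only [dv, _root_.Fin.forall_fin_succ, Fin.isValue, _root_.Matrix.cons_val_zero, _root_.Matrix.cons_val_one, _root_.Matrix.cons_val, _root_.Matrix.of_apply, _root_.Matrix.cons_val', _root_.Matrix.cons_val_fin_one, _root_.Matrix.cons_val_succ, _root_.Fin.succ_zero_eq_one, _root_.IsEmpty.forall_iff, _root_.and_true, _root_.true_and]) <;> (repeat' with_reducible apply And.intro)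
  linear_combination -h

/-- the solutions of `B σ(s) = (γ + δ s) B` -/
theorem card_semi_le {t : F} (hi : Irr t) (σ : F ≃+* F) {B B' : Matrix (Fin 2) (Fin 2) F} (hB : B * B' = 1)
    {γ δ : F} (hδ : δ ≠ 0) :
    {s ∈ U t | B * s.1.map σ = (γ • (1 : Matrix (Fin 2) (Fin 2) F) + δ • s.1) * B}.ncard ≤ Nat.card {c : F // σ c = c} ^ 3 := by
  classical
  have hB' : B' * B = 1 := mul_eq_one_comm.mp hB
  set E := {s ∈ U t | B * s.1.map σ = (γ • (1 : Matrix (Fin 2) (Fin 2) F) + δ • s.1) * B} with hE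
  rcases Set.eq_empty_or_nonempty E with h | ⟨s0, hs0⟩
  · rw [h, Set.ncard_empty]; exact Nat.zero_le _
  -- the semilinear map
  have htr : ∀ v : Fin 3 → F, (δ⁻¹ • (B * (dv v).map σ * B')).trace = 0 := by
    intro v
    rw [Matrix.trace_smul, Matrix.trace_mul_comm, ← Matrix.mul_assoc, hB', Matrix.one_mul, trace_two']
    simp [dv]
  let φ : (Fin 3 → F) →ₛₗ[(σ : F →+* F)] (Fin 3 → F) :=
    { toFun := fun v => ![(δ⁻¹ • (B * (dv v).map σ * B')) 0 0, (δ⁻¹ • (B * (dv v).map σ * B')) 0 1,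
        (δ⁻¹ • (B * (dv v).map σ * B')) 1 0]
      map_add' := by
        intro v w
        have h1 : (dv (v + w)).map σ = (dv v).map σ + (dv w).map σ := by
          ext i j
          (revert i j; simp only [dv, _root_.Fin.forall_fin_succ, Fin.isValue, _root_.Pi.add_apply, _root_.neg_add_rev, _root_.Matrix.map_apply, _root_.Matrix.of_apply, _root_.Matrix.cons_val', _root_.Matrix.cons_val_fin_one, _root_.Matrix.add_apply, _root_.Matrix.cons_val_zero, _root_.Matrix.cons_val_succ, _root_.forall_const, _root_.map_add, _root_.map_neg, _root_.and_true, _root_.true_and]) <;> (repeat' with_reducible apply And.intro)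
          ring
        rw [h1, mul_add, add_mul, smul_add]
        ext i
        fin_cases i <;> rfl
      map_smul' := by
        intro c v
        have h1 : (dv (c • v)).map σ = σ c • (dv v).map σ := by
          ext i j
          (revert i j; simp only [dv, _root_.Fin.forall_fin_succ, Fin.isValue, _root_.Pi.smul_apply, _root_.smul_eq_mul, _root_.Matrix.map_apply, _root_.Matrix.of_apply, _root_.Matrix.cons_val', _root_.Matrix.cons_val_fin_one, _root_.Matrix.smul_apply, _root_.Matrix.cons_val_zero, _root_.Matrix.cons_val_succ, _root_.forall_const, _root_.map_mul, _root_.and_self, _root_.map_neg, _root_.mul_neg, _root_.implies_true])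
        rw [h1, mul_smul_comm, smul_mul_assoc, smul_comm]
        ext i
        fin_cases i <;> rfl }
  have hφ : ∀ v, dv (φ v) = δ⁻¹ • (B * (dv v).map σ * B') := fun v => dv_eq (htr v)
  have hdv : ∀ v w : Fin 3 → F, dv v = dv w → v = w := by
    intro v w h
    ext i
    fin_cases i
    · exact congrFun (congrFun h 0) 0
    · exact congrFun (congrFun h 0) 1
    · exact congrFun (congrFun h 1) 0
  have hinj : Function.Injective φ := by
    rw [injective_iff_map_eq_zero]
    intro v hv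
    have h1 := hφ v
    rw [hv] at h1
    have h2 : dv (0 : Fin 3 → F) = 0 := by
      ext i j
      (revert i j; simp only [dv, _root_.Fin.forall_fin_succ, _root_.Pi.zero_apply, _root_.neg_zero, _root_.Matrix.of_apply, _root_.Matrix.cons_val', _root_.Matrix.cons_val_fin_one, _root_.Matrix.zero_apply, Fin.isValue, _root_.Matrix.cons_val_zero, _root_.Matrix.cons_val_succ, _root_.forall_const, _root_.and_self, _root_.implies_true])
    rw [h2] at h1
    have h3 : B * (dv v).map σ * B' = 0 := by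
      have := congrArg (fun N => δ • N) h1.symm
      simpa only [smul_smul, mul_inv_cancel₀ hδ, _root_.one_smul, _root_.smul_zero] using this
    have h4 : (dv v).map σ = 0 := by
      have := congrArg (fun N => B' * N * B) h3
      simp only [mul_zero, zero_mul] at this
      rw [← this]
      calc (dv v).map σ = (B' * B) * (dv v).map σ * (B' * B) := by rw [hB', one_mul, mul_one]
        _ = _ := by simp only [Matrix.mul_assoc]
    apply hdv
    rw [h2]
    ext i j
    have h5 := congrFun (congrFun h4 i) j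
    simp only [Matrix.map_apply, Matrix.zero_apply] at h5
    rw [Matrix.zero_apply]
    exact (map_eq_zero σ).1 h5
  have h1 := card_fix_le σ 3 (V := Fin 3 → F) (by simp) φ hinj
  refine le_trans ?_ h1
  -- the difference
  have hd : ∀ s ∈ E, φ ![(s.1 - s0.1) 0 0, (s.1 - s0.1) 0 1, (s.1 - s0.1) 1 0] =
      ![(s.1 - s0.1) 0 0, (s.1 - s0.1) 0 1, (s.1 - s0.1) 1 0] := by
    intro s hs
    apply hdv
    have htr0 : (s.1 - s0.1).trace = 0 := by
      rw [Matrix.trace_sub]
      have h2 : s.1.trace = t := hs.1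
      have h3 : s0.1.trace = t := hs0.1
      rw [h2, h3, sub_self]
    rw [hφ, dv_eq htr0]
    have h2 : (s.1 - s0.1).map σ = s.1.map σ - s0.1.map σ := by
      ext i j
      simp only [_root_.Matrix.map_apply, _root_.Matrix.sub_apply, _root_.map_sub]
    rw [h2, mul_sub, hs.2, hs0.2, ← sub_mul]
    have h3 : γ • (1 : Matrix (Fin 2) (Fin 2) F) + δ • s.1 - (γ • (1 : Matrix (Fin 2) (Fin 2) F) + δ • s0.1) =
        δ • (s.1 - s0.1) := by
      rw [smul_sub]; abel
    rw [h3, smul_mul_assoc, smul_mul_assoc, smul_smul, inv_mul_cancel₀ hδ, one_smul, Matrix.mul_assoc, hB,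
      Matrix.mul_one]
  have hEf : Finite E := Set.toFinite E
  rw [← Nat.card_coe_set_eq]
  refine Nat.card_le_card_of_injective (fun s : E => (⟨_, hd s.1 s.2⟩ : {v : Fin 3 → F // φ v = v})) ?_
  intro a b hab
  have h2 : ![(a.1.1 - s0.1) 0 0, (a.1.1 - s0.1) 0 1, (a.1.1 - s0.1) 1 0] =
      ![(b.1.1 - s0.1) 0 0, (b.1.1 - s0.1) 0 1, (b.1.1 - s0.1) 1 0] := congrArg Subtype.val hab
  have e0 := congrFun h2 0
  have e1 := congrFun h2 1
  apply Subtype.ext
  refine ext_U hi a.2.1 b.2.1 ?_ ?_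
  · have h3 := e0
    simp only [_root_.Nat.succ_eq_add_one, _root_.Nat.reduceAdd, _root_.Fin.isValue, _root_.Matrix.sub_apply, _root_.Matrix.cons_val_zero, _root_.sub_left_inj] at h3
    exact h3
  · have h3 := e1
    simp only [_root_.Nat.succ_eq_add_one, _root_.Nat.reduceAdd, _root_.Fin.isValue, _root_.Matrix.sub_apply, _root_.Matrix.cons_val_one, _root_.Matrix.cons_val_zero, _root_.sub_left_inj] at h3
    exact h3

end sl

end Cfsg.Agent.H791.AS
end

-- part: H791/AS/LTwoI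
section
/-!
# `AS2` for `PSL₂(q)` (helper791, TEAM GEN, S3943)

The case where `q + 1` is divisible by an odd prime power `p ^ a ≥ 5`, `q ≥ 7`.
-/

set_option autoImplicit false
set_option linter.unusedSectionVars false

namespace Cfsg.Agent.H791.AS

open Matrix Subgroup
open Cfsg.Agent.H465.SU Cfsg.Agent.H465.Red Cfsg.Agent.H965.AS
open Cfsg.Agent.ClassicalGeometry.AutPSL.Root
open Cfsg.Agent.ClassicalGeometry.AutPSL.Auto
open Cfsg.Agent.ClassicalGeometry.AutPSL.Main
open Cfsg.Agent.H791.Gen (fld_cj)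

universe u

section order

variable {F : Type u} [Field F] [Fintype F] (r : ℕ) [Fact r.Prime] [CharP F r] {p a : ℕ}

include r

theorem irr_of_order (hp : p.Prime) (ha : 1 ≤ a) (hpr : p ≠ r) (hp1 : ¬ p ∣ Fintype.card F - 1)
    {y : Matrix.SpecialLinearGroup (Fin 2) F} (hy : orderOf y = p ^ a) :
    Irr (y : Matrix (Fin 2) (Fin 2) F).trace := by
  intro x hx
  have hdet : ((y : Matrix (Fin 2) (Fin 2) F) - x • 1).det = 0 := by
    have h2 := y.2
    rw [Matrix.det_fin_two] at h2 ⊢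
    rw [trace_two'] at hx
    simp only [_root_.Fin.isValue, _root_.Matrix.sub_apply, _root_.Matrix.smul_apply, _root_.Matrix.one_apply_eq, _root_.smul_eq_mul, _root_.mul_one, _root_.ne_eq, _root_.zero_ne_one, _root_.not_false_eq_true, _root_.Matrix.one_apply_ne, _root_.MulZeroClass.mul_zero, _root_.sub_zero, _root_.one_ne_zero]
    linear_combination hx + h2
  obtain ⟨w, hw0, hw⟩ := Matrix.exists_mulVec_eq_zero_iff.2 hdet
  have hyw : (y : Matrix (Fin 2) (Fin 2) F) *ᵥ w = x • w := by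
    rw [sub_mulVec, smul_mulVec, one_mulVec, sub_eq_zero] at hw
    exact hw
  rcases Cfsg.Agent.H465.LTwo.irreducible hp ha hpr hp1 hy (Submodule.span F {w}) (by
    intro v hv
    obtain ⟨c, rfl⟩ := Submodule.mem_span_singleton.1 hv
    rw [map_smul]
    refine Submodule.smul_mem _ _ ?_
    rw [SpecialLinearGroup.toLin'_apply, Matrix.toLin'_apply, hyw]
    exact Submodule.smul_mem _ _ (Submodule.mem_span_singleton_self w)) with h | h
  · exact hw0 (Submodule.span_singleton_eq_bot.1 h)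
  · have h1 := finrank_span_singleton (K := F) hw0
    rw [h, finrank_top, Module.finrank_fintype_fun_eq_card, Fintype.card_fin] at h1
    omega

theorem basics (hp : p.Prime) (hp2 : p ≠ 2) (ha : 1 ≤ a) (hpq : p ^ a ∣ Fintype.card F + 1) :
    p ≠ r ∧ ¬ p ∣ Fintype.card F - 1 ∧ ¬ p ∣ Fintype.card F := by
  have hr : r.Prime := Fact.out
  have hp1 : p ∣ Fintype.card F + 1 := (dvd_pow_self p (by omega)).trans hpq
  obtain ⟨n, -, hn⟩ := FiniteField.card F r
  have hpr : p ≠ r := by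
    rintro rfl
    have h1 : p ∣ Fintype.card F := by rw [hn]; exact dvd_pow_self p n.ne_zero
    have h2 : p ∣ 1 := (Nat.dvd_add_right h1).1 hp1
    exact hp.one_lt.ne' (Nat.dvd_one.1 h2)
  have hq1 : 1 < Fintype.card F := Fintype.one_lt_card
  refine ⟨hpr, ?_, ?_⟩
  · intro h
    have h2 : p ∣ (Fintype.card F + 1) - (Fintype.card F - 1) := Nat.dvd_sub hp1 h
    have h3 : (Fintype.card F + 1) - (Fintype.card F - 1) = 2 := by omega
    rw [h3] at h2
    exact hp2 ((Nat.prime_dvd_prime_iff_eq hp Nat.prime_two).1 h2)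
  · rw [hn]
    intro h
    exact hpr ((Nat.prime_dvd_prime_iff_eq hp hr).1 (hp.dvd_of_dvd_pow h))

theorem exists_order (hp : p.Prime) (hp2 : p ≠ 2) (ha : 1 ≤ a)
    (hpq : p ^ a ∣ Fintype.card F + 1) (hpq' : ¬ p ^ (a + 1) ∣ Fintype.card F + 1) :
    ∃ y : Matrix.SpecialLinearGroup (Fin 2) F, orderOf y = p ^ a := by
  have hpf : Fact p.Prime := ⟨hp⟩
  have hr : r.Prime := Fact.out
  obtain ⟨hpr, hp3, hpn⟩ := basics (F := F) r hp hp2 ha hpq
  have hcyc : ∀ P : Sylow p (_root_.Matrix.SpecialLinearGroup (Fin 2) F), IsCyclic P := fun P => S0262.result r p hp2 hpr P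
  have hcard : Nat.card (_root_.Matrix.SpecialLinearGroup (Fin 2) F) = p ^ a * ((Fintype.card F + 1) / p ^ a *
      (Fintype.card F * (Fintype.card F - 1))) := by
    rw [ClassicalGeometry.PSL2Basic.card_SL2]
    have h1 : Fintype.card F ^ 2 - 1 = (Fintype.card F + 1) * (Fintype.card F - 1) := by
      have := Nat.sq_sub_sq (Fintype.card F) 1
      rwa [one_pow] at this
    rw [h1, ← mul_assoc (p ^ a), Nat.mul_div_cancel' hpq]
    ring
  have hnd : ¬ p ∣ (Fintype.card F + 1) / p ^ a * (Fintype.card F * (Fintype.card F - 1)) := by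
    rw [hp.dvd_mul, hp.dvd_mul]
    rintro (h | h | h)
    · apply hpq'
      rw [pow_succ]
      exact Nat.mul_dvd_of_dvd_div hpq h
    · exact hpn h
    · exact hp3 h
  obtain ⟨P⟩ : Nonempty (Sylow p (_root_.Matrix.SpecialLinearGroup (Fin 2) F)) := inferInstance
  have hPc : Nat.card P = p ^ a := by
    rw [P.card_eq_multiplicity, hcard, Nat.factorization_mul (pow_ne_zero _ hp.ne_zero) (by
      intro h0
      rw [h0] at hnd
      exact hnd (dvd_zero p)), Finsupp.add_apply, Nat.factorization_eq_zero_of_not_dvd hnd, hp.factorization_pow,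
      Finsupp.single_eq_same, add_zero]
  obtain ⟨g, hg⟩ := (hcyc P).exists_generator
  exact ⟨g, by rw [orderOf_coe, orderOf_eq_card_of_forall_mem_zpowers hg, hPc]⟩

theorem su_pr (hp : p.Prime) (hp2 : p ≠ 2) (ha : 1 ≤ a) (h5 : 5 ≤ p ^ a) (hpq : p ^ a ∣ Fintype.card F + 1)
    {g : Matrix.SpecialLinearGroup (Fin 2) F} (hgo : orderOf g = p ^ a) : SUel p (pr g) := by
  have hpf : Fact p.Prime := ⟨hp⟩
  have hr : r.Prime := Fact.out
  obtain ⟨hpr, hp3, hpn⟩ := basics (F := F) r hp hp2 ha hpq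
  have hcyc : ∀ P : Sylow p (_root_.Matrix.SpecialLinearGroup (Fin 2) F), IsCyclic P := fun P => S0262.result r p hp2 hpr P
  have hfin : Module.finrank F (Fin 2 → F) = 2 := by rw [Module.finrank_fintype_fun_eq_card, Fintype.card_fin]
  have hSU : SUel p (g : _root_.Matrix.SpecialLinearGroup (Fin 2) F) := by
    refine SUel.of_irreducible (SpecialLinearGroup.toLin' (n := Fin 2) (R := F)) SpecialLinearGroup.toLin'_injective hp
      hp2 ha hgo hcyc (Or.inl ?_) (Cfsg.Agent.H465.LTwo.irreducible hp ha hpr hp3 hgo)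
    rw [hfin]
    obtain ⟨b, rfl⟩ : ∃ b, a = b + 1 := ⟨a - 1, by omega⟩
    rw [Nat.add_sub_cancel, pow_succ]
    have hp3' : 3 ≤ p := by
      have := hp.two_le
      omega
    rcases Nat.eq_zero_or_pos b with h0 | h0
    · rw [h0, pow_zero, one_mul]
      rw [h0, zero_add, pow_one] at h5
      omega
    · have h6 : p ^ 1 ≤ p ^ b := Nat.pow_le_pow_right hp.pos h0
      rw [pow_one] at h6
      nlinarith only [hp3', h6]
  refine SUel.map (QuotientGroup.mk' (center (_root_.Matrix.SpecialLinearGroup (Fin 2) F))) (QuotientGroup.mk'_surjective _) ?_ hp ?_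
    hSU
  · rw [QuotientGroup.ker_mk']
    exact Group.isSolvable_of_comm fun a b => Subtype.ext (mem_center_iff.1 b.2 a)
  · rw [QuotientGroup.ker_mk']
    exact Cfsg.Agent.H465.LTwo.not_dvd_center hp hp2

omit r [Fact r.Prime] [CharP F r] in
/-- the element of order `p` is not central -/
theorem socle_order (hp : p.Prime) (ha : 1 ≤ a) {s : Matrix.SpecialLinearGroup (Fin 2) F} (hs : orderOf s = p ^ a) :
    orderOf (s ^ p ^ (a - 1)) = p := by
  rw [orderOf_pow, hs, Nat.gcd_eq_right (pow_dvd_pow p (by omega)), Nat.pow_div (by omega) hp.pos]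
  have : a - (a - 1) = 1 := by omega
  rw [this, pow_one]

omit r [Fact r.Prime] [CharP F r] in
theorem pr_order (hp : p.Prime) (hp2 : p ≠ 2) {z : Matrix.SpecialLinearGroup (Fin 2) F} (hz : orderOf z = p) :
    orderOf (pr z) = p := by
  have h1 : (pr z) ^ p = 1 := by rw [← map_pow, ← hz, pow_orderOf_eq_one, map_one]
  rcases (Nat.dvd_prime hp).1 (orderOf_dvd_of_pow_eq_one h1) with h | h
  · exfalso
    rw [orderOf_eq_one_iff, pr_eq_one_iff] at h
    apply Cfsg.Agent.H465.LTwo.not_dvd_center (F := F) hp hp2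
    have h2 := _root_.orderOf_dvd_natCard (⟨z, h⟩ : center (Matrix.SpecialLinearGroup (Fin 2) F))
    rwa [orderOf_mk, hz] at h2
  · exact h

/-- the automorphism normalises `⟨z⟩` -/
theorem exists_zpow (hcen : center (Matrix.ProjectiveSpecialLinearGroup (Fin 2) F) = ⊥)
    (hp : p.Prime) (hp2 : p ≠ 2) (ha : 1 ≤ a) (h5 : 5 ≤ p ^ a) (hpq : p ^ a ∣ Fintype.card F + 1)
    {s : Matrix.SpecialLinearGroup (Fin 2) F} (hs : orderOf s = p ^ a)
    {α : MulAut (Matrix.ProjectiveSpecialLinearGroup (Fin 2) F)}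
    (h : Group.IsSolvable (closure ({α, MulAut.conj (pr s)} : Set (MulAut (Matrix.ProjectiveSpecialLinearGroup (Fin 2) F))))) :
    ∃ i : ℤ, α (pr (s ^ p ^ (a - 1))) = (pr (s ^ p ^ (a - 1))) ^ i := by
  have hsu := su_pr r hp hp2 ha h5 hpq hs
  have hA : zpowers (pr (s ^ p ^ (a - 1))) ≤ zpowers (pr s) := by
    rw [zpowers_le, map_pow]
    exact npow_mem_zpowers _ _
  have hAc : Nat.card (zpowers (pr (s ^ p ^ (a - 1)))) = p := by
    rw [Nat.card_zpowers]
    exact pr_order hp hp2 (socle_order hp ha hs)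
  have h1 := mem_bad_of_solvable hcen hsu hA hAc (x := α) (g := 1) (by rw [one_mul, inv_one, mul_one]; exact h)
  rw [mem_bad, map_one, inv_one, one_mul, mul_one] at h1
  have h2 : α (pr (s ^ p ^ (a - 1))) ∈ (zpowers (pr (s ^ p ^ (a - 1)))).map α.toMonoidHom :=
    ⟨_, mem_zpowers _, rfl⟩
  rw [h1] at h2
  obtain ⟨i, hi⟩ := mem_zpowers_iff.1 h2
  exact ⟨i, hi.symm⟩

/-- the automorphism of `SL₂` -/
abbrev im (B : GL (Fin 2) F) (σ : F ≃+* F) : MulAut (Matrix.SpecialLinearGroup (Fin 2) F) := cj B * fld σ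

omit r [Fact r.Prime] [CharP F r] in
/-- trace of the image -/
theorem trace_img (B : GL (Fin 2) F) (σ : F ≃+* F) (s : Matrix.SpecialLinearGroup (Fin 2) F) :
    (im B σ s : Matrix (Fin 2) (Fin 2) F).trace = σ (s : Matrix (Fin 2) (Fin 2) F).trace := by
  rw [MulAut.mul_apply, coe_cj, Matrix.trace_mul_comm, ← Matrix.mul_assoc, ← Units.val_mul, inv_mul_cancel, Units.val_one,
    Matrix.one_mul, trace_two', trace_two', map_add]
  rfl

omit r [Fact r.Prime] [CharP F r] in
theorem coe_img (B : GL (Fin 2) F) (σ : F ≃+* F) (s : Matrix.SpecialLinearGroup (Fin 2) F) :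
    (B : Matrix (Fin 2) (Fin 2) F) * (s : Matrix (Fin 2) (Fin 2) F).map σ =
      (im B σ s : Matrix (Fin 2) (Fin 2) F) * B := by
  rw [MulAut.mul_apply, coe_cj, Matrix.mul_assoc, ← Units.val_mul, inv_mul_cancel, Units.val_one, Matrix.mul_one]
  rfl

/-- **the linear form of badness** -/
theorem exists_lin (hcen : center (Matrix.ProjectiveSpecialLinearGroup (Fin 2) F) = ⊥)
    (hp : p.Prime) (hp2 : p ≠ 2) (ha : 1 ≤ a) (h5 : 5 ≤ p ^ a) (hpq : p ^ a ∣ Fintype.card F + 1)
    {s : Matrix.SpecialLinearGroup (Fin 2) F} (hs : orderOf s = p ^ a) {t : F} (hst : s ∈ U t) (B : GL (Fin 2) F)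
    (σ : F ≃+* F)
    (h : Group.IsSolvable (closure ({lift (im B σ), MulAut.conj (pr s)} :
      Set (MulAut (Matrix.ProjectiveSpecialLinearGroup (Fin 2) F))))) :
    ∃ γ δ : F, (B : Matrix (Fin 2) (Fin 2) F) * (s : Matrix (Fin 2) (Fin 2) F).map σ =
        (γ • (1 : Matrix (Fin 2) (Fin 2) F) + δ • s.1) * B ∧ δ ≠ 0 ∧
      2 * γ + δ * t = σ t ∧ γ ^ 2 + γ * δ * t + δ ^ 2 = 1 := by
  obtain ⟨hpr, hp3, hpn⟩ := basics (F := F) r hp hp2 ha hpq
  obtain ⟨i, hi⟩ := exists_zpow r hcen hp hp2 ha h5 hpq hs h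
  set z := s ^ p ^ (a - 1) with hz
  have hzo : orderOf z = p := socle_order hp ha hs
  set e := im B σ with he
  rw [lift_pr, ← map_zpow] at hi
  obtain ⟨c, hc⟩ := exists_smul_of_pr_eq hi.symm
  -- `e z` commutes with `s`
  have hzs : (z ^ i) * s = s * (z ^ i) := by
    have h1 : Commute z s := by rw [hz]; exact (Commute.refl s).pow_left _
    exact h1.zpow_left i
  have hzs' : (s : Matrix (Fin 2) (Fin 2) F) * (e z).1 = (e z).1 * s.1 := by
    have h1 : (z ^ i).1 * s.1 = s.1 * (z ^ i).1 := congrArg Subtype.val hzs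
    rw [hc, mul_smul_comm, smul_mul_assoc, h1]
  have hes : (e s).1 * (e z).1 = (e z).1 * (e s).1 := by
    have h1 : e s * e z = e z * e s := by
      rw [← map_mul, ← map_mul]
      congr 1
      rw [hz]
      exact ((Commute.refl s).pow_right _)
    exact congrArg Subtype.val h1
  have hez : ∀ c : F, (e z).1 ≠ c • 1 := by
    have h1 : orderOf (e z) = p ^ 1 := by rw [MulEquiv.orderOf_eq, hzo, pow_one]
    exact not_scalar (irr_of_order r hp le_rfl hpr hp3 h1) rfl (e z).2
  have hcomm : (e s).1 * s.1 = s.1 * (e s).1 := comm_of hez hes hzs'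
  have hsirr : Irr t := by
    have h1 := irr_of_order r hp ha hpr hp3 hs
    rwa [show (s : Matrix (Fin 2) (Fin 2) F).trace = t from hst] at h1
  have hsn := not_scalar hsirr hst s.2
  obtain ⟨γ, δ, hγ⟩ := exists_of_comm hsn hcomm
  refine ⟨γ, δ, ?_, ?_, ?_, ?_⟩
  · rw [coe_img, ← he, hγ]
  · rintro rfl
    rw [zero_smul, add_zero] at hγ
    have h1 : orderOf (e s) = p ^ a := by rw [MulEquiv.orderOf_eq, hs]
    exact not_scalar (irr_of_order r hp ha hpr hp3 h1) rfl (e s).2 γ hγ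
  · rw [← trace_lin hst, ← hγ, he, trace_img]
    congr 1
  · rw [← det_lin hst s.2, ← hγ]
    exact (e s).2

/-! ### counting -/

/-- the bad set -/
def BadS (t : F) (α : MulAut (Matrix.ProjectiveSpecialLinearGroup (Fin 2) F)) :
    Set (Matrix.SpecialLinearGroup (Fin 2) F) :=
  {s ∈ U t | Group.IsSolvable (closure ({α, MulAut.conj (pr s)} :
    Set (MulAut (Matrix.ProjectiveSpecialLinearGroup (Fin 2) F))))}

omit r [Fact r.Prime] [CharP F r] in
theorem im_pow (B : GL (Fin 2) F) (σ : F ≃+* F) (n : ℕ) : ∃ C : GL (Fin 2) F, im B σ ^ n = im C (σ ^ n) := by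
  induction n with
  | zero => exact ⟨1, by simp only [im, _root_.pow_zero, _root_.map_one, _root_.mul_one]⟩
  | succ n ih =>
    obtain ⟨C, hC⟩ := ih
    refine ⟨C * Matrix.GeneralLinearGroup.map ((σ ^ n : F ≃+* F) : F →+* F) B, ?_⟩
    rw [pow_succ, hC]
    unfold im
    rw [map_mul cj, pow_succ, map_mul fld]
    calc cj C * fld (σ ^ n) * (cj B * fld σ) = cj C * (fld (σ ^ n) * cj B) * fld σ := by simp only [mul_assoc]
      _ = _ := by rw [fld_cj]; simp only [mul_assoc]

omit [Fact r.Prime] [CharP F r] r in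
theorem sigma_pow {B : GL (Fin 2) F} {σ : F ≃+* F} {n : ℕ} (h : (lift (im B σ)) ^ n = 1) : σ ^ n = 1 := by
  obtain ⟨C, hC⟩ := im_pow B σ n
  rw [← map_pow, hC] at h
  have h1 : lift (cj C * fld (σ ^ n)) = lift (fld (1 : F ≃+* F)) := by
    rw [map_one fld, map_one lift]
    exact h
  exact (injective_aux h1).2

/-- the case `σ = 1` -/
theorem card_bad_one (hcen : center (Matrix.ProjectiveSpecialLinearGroup (Fin 2) F) = ⊥)
    (hp : p.Prime) (hp2 : p ≠ 2) (ha : 1 ≤ a) (h5 : 5 ≤ p ^ a) (hpq : p ^ a ∣ Fintype.card F + 1)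
    {t : F} (hi : Irr t) (ht : ∀ s ∈ U t, orderOf s = p ^ a) {B : GL (Fin 2) F}
    (hB : ∀ c : F, (B : Matrix (Fin 2) (Fin 2) F) ≠ c • 1) :
    (BadS t (lift (im B 1))).ncard ≤ 2 + 2 * Nat.card F := by
  have hsub : BadS t (lift (im B 1)) ⊆ {s ∈ U t | B.1 * s.1 = s.1 * B.1} ∪ {s ∈ U t | B.1 * s.1 = (t • 1 - s.1) * B.1} := by
    rintro s ⟨hs, hs'⟩
    obtain ⟨γ, δ, h1, -, h3, h4⟩ := exists_lin r hcen hp hp2 ha h5 hpq (ht s hs) hs B 1 hs'
    have hmap : (s : Matrix (Fin 2) (Fin 2) F).map (1 : F ≃+* F) = s.1 := by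
      ext i j; rfl
    rw [hmap] at h1
    rcases two_roots hi h3 h4 (γ' := 0) (δ' := 1) (by simp) (by simp) with ⟨rfl, rfl⟩ | ⟨rfl, rfl⟩
    · left
      refine ⟨hs, ?_⟩
      rw [h1, zero_smul, zero_add, one_smul]
    · right
      refine ⟨hs, ?_⟩
      rw [h1, sub_zero, neg_smul, one_smul, ← sub_eq_add_neg]
      rfl
  refine (Set.ncard_le_ncard hsub (Set.toFinite _)).trans ((Set.ncard_union_le _ _).trans ?_)
  refine Nat.add_le_add (card_comm_le hi hB) ?_
  rcases Set.eq_empty_or_nonempty {s ∈ U t | B.1 * s.1 = (t • 1 - s.1) * B.1} with h | ⟨s0, hs0, hs0'⟩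
  · rw [h, Set.ncard_empty]; exact Nat.zero_le _
  · obtain ⟨h1, -⟩ := trace_of_inv hi hs0 hs0'
    refine (Set.ncard_le_ncard ?_ (Set.toFinite _)).trans (card_inv_le hi hB h1)
    rintro s ⟨hs, hs'⟩
    exact ⟨hs, (trace_of_inv hi hs hs').2⟩

/-- the case `|σ| ≥ 3` -/
theorem card_bad_three (hcen : center (Matrix.ProjectiveSpecialLinearGroup (Fin 2) F) = ⊥)
    (hp : p.Prime) (hp2 : p ≠ 2) (ha : 1 ≤ a) (h5 : 5 ≤ p ^ a) (hpq : p ^ a ∣ Fintype.card F + 1)
    {t : F} (hi : Irr t) (ht : ∀ s ∈ U t, orderOf s = p ^ a) {B : GL (Fin 2) F} {σ : F ≃+* F}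
    (hσ : 3 ≤ orderOf σ) :
    (BadS t (lift (im B σ))).ncard ≤ 2 + 2 * Nat.card F := by
  rcases Set.eq_empty_or_nonempty (BadS t (lift (im B σ))) with h | ⟨s0, hs0, hs0'⟩
  · rw [h, Set.ncard_empty]; exact Nat.zero_le _
  obtain ⟨γ0, δ0, h1, h2, h3, h4⟩ := exists_lin r hcen hp hp2 ha h5 hpq (ht s0 hs0) hs0 B σ hs0'
  have hsub : BadS t (lift (im B σ)) ⊆
      {s ∈ U t | B.1 * s.1.map σ = (γ0 • (1 : Matrix (Fin 2) (Fin 2) F) + δ0 • s.1) * B.1} ∪
      {s ∈ U t | B.1 * s.1.map σ = ((σ t - γ0) • (1 : Matrix (Fin 2) (Fin 2) F) + (-δ0) • s.1) * B.1} := by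
    rintro s ⟨hs, hs'⟩
    obtain ⟨γ, δ, k1, k2, k3, k4⟩ := exists_lin r hcen hp hp2 ha h5 hpq (ht s hs) hs B σ hs'
    rcases two_roots hi k3 k4 h3 h4 with ⟨rfl, rfl⟩ | ⟨rfl, rfl⟩
    · exact Or.inl ⟨hs, k1⟩
    · exact Or.inr ⟨hs, k1⟩
  have hBB : B.1 * ((B⁻¹ : GL (Fin 2) F) : Matrix (Fin 2) (Fin 2) F) = 1 := by
    rw [← Units.val_mul, mul_inv_cancel, Units.val_one]
  have hq0 : Nat.card {c : F // σ c = c} ^ 3 ≤ Nat.card F := by
    rw [card_eq_pow σ]
    refine Nat.pow_le_pow_right ?_ hσ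
    have : Nonempty {c : F // σ c = c} := ⟨⟨0, map_zero σ⟩⟩
    exact Nat.card_pos
  refine (Set.ncard_le_ncard hsub (Set.toFinite _)).trans ((Set.ncard_union_le _ _).trans ?_)
  have e1 := (card_semi_le hi σ hBB (γ := γ0) h2).trans hq0
  have e2 := (card_semi_le hi σ hBB (γ := σ t - γ0) (neg_ne_zero.2 h2)).trans hq0
  omega

omit [Fact r.Prime] [CharP F r] r in
theorem trace_inv' (z : Matrix.SpecialLinearGroup (Fin 2) F) :
    ((z⁻¹ : Matrix.SpecialLinearGroup (Fin 2) F) : Matrix (Fin 2) (Fin 2) F).trace = (z : Matrix (Fin 2) (Fin 2) F).trace := by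
  rw [Matrix.SpecialLinearGroup.coe_inv, Matrix.adjugate_fin_two, trace_two', trace_two']
  simp [add_comm]

/-- the case `|σ| = 2` -/
theorem bad_two (hcen : center (Matrix.ProjectiveSpecialLinearGroup (Fin 2) F) = ⊥)
    (hp : p.Prime) (hp2 : p ≠ 2) (ha : 1 ≤ a) (h5 : 5 ≤ p ^ a) (hpq : p ^ a ∣ Fintype.card F + 1)
    {t : F} (ht : ∀ s ∈ U t, orderOf s = p ^ a) {B : GL (Fin 2) F} {σ : F ≃+* F}
    (hσ : orderOf σ = 2) (hα : lift (im B σ) ^ 2 = 1) : BadS t (lift (im B σ)) = ∅ := by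
  rw [Set.eq_empty_iff_forall_notMem]
  rintro s ⟨hs, hs'⟩
  obtain ⟨hpr, hp3, hpn⟩ := basics (F := F) r hp hp2 ha hpq
  have hpf : Fact p.Prime := ⟨hp⟩
  have hso := ht s hs
  obtain ⟨i, hi⟩ := exists_zpow r hcen hp hp2 ha h5 hpq hso hs'
  set z := s ^ p ^ (a - 1) with hz
  have hzo : orderOf z = p := socle_order hp ha hso
  have hpz : orderOf (pr z) = p := pr_order hp hp2 hzo
  set e := im B σ with he
  -- `i² = 1`
  have h1 : (pr z) ^ (i * i - 1) = 1 := by
    have h2 : lift e (lift e (pr z)) = pr z := by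
      have := DFunLike.congr_fun hα (pr z)
      rwa [pow_two] at this
    rw [hi, map_zpow, hi, ← _root_.zpow_mul] at h2
    rw [_root_.zpow_sub, h2, zpow_one, mul_inv_cancel]
  have h2 : (p : ℤ) ∣ (i - 1) * (i + 1) := by
    rw [← hpz, show (i - 1) * (i + 1) = i * i - 1 by ring]
    exact orderOf_dvd_iff_zpow_eq_one.2 h1
  obtain ⟨w, hw, hwt, hwo⟩ : ∃ w : Matrix.SpecialLinearGroup (Fin 2) F, lift e (pr z) = pr w ∧
      (w : Matrix (Fin 2) (Fin 2) F).trace = (z : Matrix (Fin 2) (Fin 2) F).trace ∧ w ^ p = 1 := by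
    have hzp : z ^ p = 1 := by rw [← hzo, pow_orderOf_eq_one]
    rcases (Nat.prime_iff_prime_int.1 hp).dvd_or_dvd h2 with h3 | h3
    · refine ⟨z, ?_, rfl, hzp⟩
      rw [← hpz] at h3
      have h4 := orderOf_dvd_iff_zpow_eq_one.1 h3
      rw [_root_.zpow_sub, zpow_one, mul_inv_eq_one] at h4
      rw [hi, h4]
    · refine ⟨z⁻¹, ?_, trace_inv' z, by rw [inv_pow, hzp, inv_one]⟩
      rw [← hpz] at h3
      have h4 := orderOf_dvd_iff_zpow_eq_one.1 h3
      rw [_root_.zpow_add, zpow_one, mul_eq_one_iff_eq_inv] at h4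
      rw [hi, h4, map_inv]
  rw [lift_pr] at hw
  obtain ⟨c, hc⟩ := exists_smul_of_pr_eq hw.symm
  have hc2 : c ^ 2 = 1 := by
    have h3 := congrArg Matrix.det hc
    rw [det_smul, Fintype.card_fin, w.2, (e z).2, mul_one] at h3
    exact h3.symm
  have hcp : c ^ p = 1 := by
    have h3 : (e z) ^ p = 1 := by rw [← map_pow, ← hzo, pow_orderOf_eq_one, map_one]
    have h4 : ((e z : Matrix.SpecialLinearGroup (Fin 2) F) : Matrix (Fin 2) (Fin 2) F) ^ p = 1 := by
      rw [← Matrix.SpecialLinearGroup.coe_pow, h3, Matrix.SpecialLinearGroup.coe_one]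
    rw [hc, smul_pow, ← Matrix.SpecialLinearGroup.coe_pow, hwo, Matrix.SpecialLinearGroup.coe_one] at h4
    have h5 := congrFun (congrFun h4 0) 0
    simpa using h5
  have hc1 : c = 1 := by
    obtain ⟨k, hk⟩ := hp.odd_of_ne_two hp2
    rw [hk, pow_succ, pow_mul, hc2, one_pow, one_mul] at hcp
    exact hcp
  have hτ : σ (z : Matrix (Fin 2) (Fin 2) F).trace = (z : Matrix (Fin 2) (Fin 2) F).trace := by
    rw [← trace_img B, ← he, hc, hc1, one_smul, hwt]
  set τ := (z : Matrix (Fin 2) (Fin 2) F).trace with hτdef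
  -- the companion matrix
  set K0 : Subfield F := RingHom.eqLocusField (σ : F →+* F) (RingHom.id F) with hK0
  have hτK : τ ∈ K0 := hτ
  have hirr : Irr τ := by
    have h3 : orderOf z = p ^ 1 := by rw [hzo, pow_one]
    exact irr_of_order r hp le_rfl hpr hp3 h3
  let C0 : Matrix.SpecialLinearGroup (Fin 2) K0 := ⟨!![0, -1; 1, (⟨τ, hτK⟩ : K0)], by
    rw [Matrix.det_fin_two_of]; simp⟩
  have hCo : orderOf z = orderOf (Matrix.SpecialLinearGroup.map K0.subtype C0) := by
    refine order_eq hirr rfl ?_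
    rw [trace_two']
    change (0 : F) + τ = τ
    rw [zero_add]
  have hinj : Function.Injective (Matrix.SpecialLinearGroup.map (n := Fin 2) K0.subtype) := by
    intro x y hxy
    apply Subtype.ext
    ext i j
    have h3 := congrFun (congrFun (congrArg Subtype.val hxy) i) j
    exact h3
  rw [orderOf_injective _ hinj, hzo] at hCo
  have hfin : Fintype K0 := Fintype.ofFinite _
  have h3 : p ∣ Nat.card (Matrix.SpecialLinearGroup (Fin 2) K0) := by
    conv_lhs => rw [hCo]
    exact _root_.orderOf_dvd_natCard _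
  rw [ClassicalGeometry.PSL2Basic.card_SL2] at h3
  have hq : Fintype.card F = Fintype.card K0 ^ 2 := by
    rw [← Nat.card_eq_fintype_card, ← Nat.card_eq_fintype_card, card_eq_pow σ, hσ]
    rfl
  rw [← hq] at h3
  rcases (hp.dvd_mul).1 h3 with h4 | h4
  · apply hpn
    rw [hq]
    exact h4.trans (dvd_pow_self _ (by norm_num))
  · exact hp3 h4

theorem card_bad (hcen : center (Matrix.ProjectiveSpecialLinearGroup (Fin 2) F) = ⊥)
    (hp : p.Prime) (hp2 : p ≠ 2) (ha : 1 ≤ a) (h5 : 5 ≤ p ^ a) (hpq : p ^ a ∣ Fintype.card F + 1)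
    {t : F} (hi : Irr t) (ht : ∀ s ∈ U t, orderOf s = p ^ a)
    {α : MulAut (Matrix.ProjectiveSpecialLinearGroup (Fin 2) F)} (hα : (orderOf α).Prime) :
    (BadS t α).ncard ≤ 2 + 2 * Nat.card F := by
  obtain ⟨B, σ, hBσ⟩ := surj_two r α
  have hBσ' : α = lift (im B σ) := hBσ
  subst hBσ'
  by_cases hσ : σ = 1
  · subst hσ
    refine card_bad_one r hcen hp hp2 ha h5 hpq hi ht ?_
    intro c hc
    apply Nat.not_prime_one
    have h1 : im B (1 : F ≃+* F) = 1 := by
      unfold im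
      rw [cj_eq_one_of_scalar (r := c) (by rw [hc, scalar_apply, ← smul_one_eq_diagonal]), map_one, mul_one]
    rw [h1, map_one, orderOf_one] at hα
    exact hα
  · have h1 : σ ^ orderOf (lift (im B σ)) = 1 := sigma_pow (pow_orderOf_eq_one _)
    have hf : Fact (orderOf (lift (im B σ))).Prime := ⟨hα⟩
    have h2 : orderOf σ = orderOf (lift (im B σ)) := orderOf_eq_prime h1 hσ
    by_cases h3 : orderOf σ = 2
    · rw [bad_two r hcen hp hp2 ha h5 hpq ht h3 (orderOf_dvd_iff_pow_eq_one.1 (dvd_of_eq (h2.symm.trans h3))),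
        Set.ncard_empty]
      exact Nat.zero_le _
    · have h4 := hα.two_le
      exact card_bad_three r hcen hp hp2 ha h5 hpq hi ht (by omega)

omit r [Fact r.Prime] [CharP F r] in
/-- a power of prime order -/
theorem exists_prime_pow {G : Type*} [Group G] [Finite G] {x : G} (hx : x ≠ 1) : ∃ k : ℕ, (orderOf (x ^ k)).Prime := by
  obtain ⟨s, hs, hsx⟩ := Nat.exists_prime_and_dvd (n := orderOf x) (by rwa [ne_eq, orderOf_eq_one_iff])
  exact ⟨orderOf x / s, by rw [orderOf_pow_orderOf_div (orderOf_pos x).ne' hsx]; exact hs⟩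

omit r [Fact r.Prime] [CharP F r] in
theorem solvable_pow {G : Type*} [Group G] {x y : G} (k : ℕ) (h : Group.IsSolvable (closure ({x, y} : Set G))) :
    Group.IsSolvable (closure ({x ^ k, y} : Set G)) := by
  have hle : _root_.Subgroup.closure ({x ^ k, y} : Set G) ≤ closure {x, y} := by
    rw [closure_le]
    rintro _ (rfl | rfl)
    · exact pow_mem (_root_.Subgroup.subset_closure (by simp)) k
    · exact _root_.Subgroup.subset_closure (by simp)
  exact Group.isSolvable_of_isSolvable_injective (f := inclusion hle) (inclusion_injective hle)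

/-- **Case I.** -/
theorem as2_I (hcen : center (Matrix.ProjectiveSpecialLinearGroup (Fin 2) F) = ⊥)
    (hp : p.Prime) (hp2 : p ≠ 2) (ha : 1 ≤ a) (h5 : 5 ≤ p ^ a) (hpq : p ^ a ∣ Fintype.card F + 1)
    (hpq' : ¬ p ^ (a + 1) ∣ Fintype.card F + 1) (hq : 7 ≤ Fintype.card F) :
    AS2 (Matrix.ProjectiveSpecialLinearGroup (Fin 2) F) := by
  intro α β hα hβ
  have hfin : Finite (MulAut (Matrix.ProjectiveSpecialLinearGroup (Fin 2) F)) := inferInstance
  obtain ⟨k, hk⟩ := exists_prime_pow hα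
  obtain ⟨l, hl⟩ := exists_prime_pow hβ
  obtain ⟨y, hy⟩ := exists_order (F := F) r hp hp2 ha hpq hpq'
  obtain ⟨hpr, hp3, hpn⟩ := basics (F := F) r hp hp2 ha hpq
  set t := (y : Matrix (Fin 2) (Fin 2) F).trace with ht
  have hi : Irr t := irr_of_order r hp ha hpr hp3 hy
  have hto : ∀ s ∈ U t, orderOf s = p ^ a := by
    intro s hs
    rw [← hy]
    exact order_eq hi hs rfl
  have h1 := card_bad r hcen hp hp2 ha h5 hpq hi hto hk
  have h2 := card_bad r hcen hp hp2 ha h5 hpq hi hto hl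
  have h3 := card_U hi
  obtain ⟨s, hs, hs'⟩ : ∃ s ∈ U t, s ∉ BadS t (α ^ k) ∪ BadS t (β ^ l) := by
    by_contra hcon
    push Not at hcon
    have h4 := Set.ncard_le_ncard (s := U t) (t := BadS t (α ^ k) ∪ BadS t (β ^ l)) hcon (Set.toFinite _)
    have h5 := Set.ncard_union_le (BadS t (α ^ k)) (BadS t (β ^ l))
    rw [Nat.card_eq_fintype_card] at h1 h2 h3
    obtain ⟨m, hm⟩ : ∃ m, Fintype.card F = m + 7 := ⟨Fintype.card F - 7, by omega⟩
    rw [hm, show m + 7 - 1 = m + 6 by omega] at h3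
    rw [hm] at h1 h2
    nlinarith only [h4, h5, h2, h1, h3]
  rw [Set.mem_union, not_or] at hs'
  refine ⟨pr s, fun h => hs'.1 ⟨hs, solvable_pow k h⟩, fun h => hs'.2 ⟨hs, solvable_pow l h⟩⟩

end order

end Cfsg.Agent.H791.AS
end

-- part: H791/AS/LTwoII
section
/-!
# `AS2` for `PSL₂(q)` (helper791, TEAM GEN, S3943)

The prime fields, and all `q ≥ 4`.
-/

set_option autoImplicit false
set_option linter.unusedSectionVars false

namespace Cfsg.Agent.H791.AS

open Matrix Subgroup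
open Cfsg.Agent.H465.SU Cfsg.Agent.H465.Red Cfsg.Agent.H965.AS
open Cfsg.Agent.ClassicalGeometry.AutPSL.Root
open Cfsg.Agent.ClassicalGeometry.AutPSL.Auto
open Cfsg.Agent.ClassicalGeometry.AutPSL.Main

universe u

section prime

variable {F : Type u} [Field F] [Fintype F]

/-- the transvection with centre `(1, c)` -/
def tv (c : F) : Matrix.SpecialLinearGroup (Fin 2) F :=
  ⟨!![1 - c, 1; -c ^ 2, 1 + c], by rw [Matrix.det_fin_two_of]; ring⟩

theorem coe_tv_pow (c : F) (n : ℕ) :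
    ((tv c ^ n : Matrix.SpecialLinearGroup (Fin 2) F) : Matrix (Fin 2) (Fin 2) F) =
      !![1 - n * c, n; -n * c ^ 2, 1 + n * c] := by
  induction n with
  | zero =>
    rw [pow_zero, Matrix.SpecialLinearGroup.coe_one]
    ext i j
    (revert i j; simp only [_root_.Fin.forall_fin_succ, _root_.Nat.cast_zero, _root_.MulZeroClass.zero_mul, _root_.sub_zero, _root_.neg_zero, _root_.add_zero, _root_.Matrix.of_apply, _root_.Matrix.cons_val', _root_.Matrix.cons_val_fin_one, Fin.isValue, _root_.Matrix.cons_val_zero, _root_.Matrix.cons_val_succ, _root_.IsEmpty.forall_iff, _root_.and_true, _root_.Matrix.one_apply_eq, Nat.reduceAdd, _root_.Fin.succ_zero_eq_one, _root_.ne_eq, _root_.zero_ne_one, _root_.not_false_eq_true, _root_.Matrix.one_apply_ne, _root_.and_self, _root_.Fin.succ_ne_zero, _root_.true_and])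
  | succ n ih =>
    rw [pow_succ, Matrix.SpecialLinearGroup.coe_mul, ih]
    change _ * (!![1 - c, 1; -c ^ 2, 1 + c] : Matrix (Fin 2) (Fin 2) F) = _
    ext i j
    (revert i j; simp only [Matrix.mul_apply, Fin.sum_univ_two, _root_.Fin.forall_fin_succ, _root_.neg_mul, _root_.Matrix.of_apply, _root_.Matrix.cons_val', _root_.Matrix.cons_val_fin_one, Fin.isValue, _root_.Matrix.cons_val_zero, _root_.Matrix.cons_val_one, _root_.Nat.cast_add, _root_.Nat.cast_one, _root_.neg_add_rev, _root_.mul_neg, _root_.Matrix.cons_val_succ, _root_.mul_one, _root_.forall_const]) <;> (repeat' with_reducible apply And.intro) <;> ring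

theorem tv_mulVec (c : F) (n : ℕ) :
    ((tv c ^ n : Matrix.SpecialLinearGroup (Fin 2) F) : Matrix (Fin 2) (Fin 2) F) *ᵥ ![1, c] = ![1, c] := by
  rw [coe_tv_pow]
  ext i
  (revert i; simp only [Matrix.mulVec, dotProduct, Fin.sum_univ_two, _root_.Fin.forall_fin_succ, _root_.neg_mul, _root_.Matrix.of_apply, _root_.Matrix.cons_val', _root_.Matrix.cons_val_fin_one, Fin.isValue, _root_.Matrix.cons_val_zero, _root_.mul_one, _root_.Matrix.cons_val_one, _root_.Nat.succ_eq_add_one, Nat.reduceAdd, _root_.sub_add_cancel, _root_.Matrix.cons_val_succ, _root_.forall_const, _root_.and_true, _root_.true_and]) <;> (repeat' with_reducible apply And.intro)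
  ring

theorem tv_eigen {c k : F} {u : Fin 2 → F} (h : (tv c : Matrix (Fin 2) (Fin 2) F) *ᵥ u = k • u) :
    u 1 = c * u 0 := by
  have h0 := congrFun h 0
  have h1 := congrFun h 1
  change (!![1 - c, 1; -c ^ 2, 1 + c] : Matrix (Fin 2) (Fin 2) F).mulVec u 0 = k * u 0 at h0
  change (!![1 - c, 1; -c ^ 2, 1 + c] : Matrix (Fin 2) (Fin 2) F).mulVec u 1 = k * u 1 at h1
  simp only [Matrix.mulVec, dotProduct, Fin.sum_univ_two, _root_.Fin.isValue, _root_.Matrix.of_apply, _root_.Matrix.cons_val', _root_.Matrix.cons_val_fin_one, _root_.Matrix.cons_val_zero, _root_.Matrix.cons_val_one, _root_.one_mul, _root_.neg_mul] at h0 h1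
  -- `N u = (k - 1) u`, `N² = 0`
  have e0 : u 1 - c * u 0 = (k - 1) * u 0 := by linear_combination h0
  have e1 : c * (u 1 - c * u 0) = (k - 1) * u 1 := by linear_combination h1
  by_cases hk : k - 1 = 0
  · rw [hk, zero_mul] at e0
    linear_combination e0
  · have e2 : (k - 1) * (u 1 - c * u 0) = 0 := by linear_combination c * e0 - e1
    have e3 := (mul_eq_zero.1 e2).resolve_left hk
    linear_combination e3

variable {r : ℕ} [Fact r.Prime] [CharP F r]

theorem tv_order (c : F) (r : ℕ) [Fact r.Prime] [CharP F r] : orderOf (tv c) = r := by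
  refine orderOf_eq_prime ?_ ?_
  · apply Subtype.ext
    change ((tv c ^ r : Matrix.SpecialLinearGroup (Fin 2) F) : Matrix (Fin 2) (Fin 2) F) = 1
    rw [coe_tv_pow, CharP.cast_eq_zero]
    ext i j
    (revert i j; simp only [_root_.Fin.forall_fin_succ, _root_.MulZeroClass.zero_mul, _root_.sub_zero, _root_.neg_zero, _root_.add_zero, _root_.Matrix.of_apply, _root_.Matrix.cons_val', _root_.Matrix.cons_val_fin_one, Fin.isValue, _root_.Matrix.cons_val_zero, _root_.Matrix.cons_val_succ, _root_.IsEmpty.forall_iff, _root_.and_true, _root_.Matrix.one_apply_eq, Nat.reduceAdd, _root_.Fin.succ_zero_eq_one, _root_.ne_eq, _root_.zero_ne_one, _root_.not_false_eq_true, _root_.Matrix.one_apply_ne, _root_.and_self, _root_.Fin.succ_ne_zero, _root_.true_and])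
  · intro h
    have h1 := congrFun (congrFun (congrArg Subtype.val h) 0) 1
    change (1 : F) = 0 at h1
    exact one_ne_zero h1

/-- elements of order `r` of `PSL₂(r)` -/
theorem su_tv (hF : Fintype.card F = r) (hr : 5 ≤ r) {y : Matrix.ProjectiveSpecialLinearGroup (Fin 2) F}
    (hy : orderOf y = r) : SUel r y := by
  have hrp : r.Prime := Fact.out
  refine ⟨fun h => ?_, ⟨1, by rw [hy, pow_one]⟩, ?_⟩
  · rw [h, orderOf_one] at hy
    exact hrp.one_lt.ne hy
  intro M hM hyM
  obtain ⟨R, hR1, hRM, hRp, hRn⟩ := exists_normal_of_linear (F := F) (r := r)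
    (SpecialLinearGroup.toLin' (n := Fin 2) (R := F)) SpecialLinearGroup.toLin'_injective hrp
    (by rw [Module.finrank_fintype_fun_eq_card, Fintype.card_fin]; omega) (by omega)
    (QuotientGroup.mk' (center (_root_.Matrix.SpecialLinearGroup (Fin 2) F))) (QuotientGroup.mk'_surjective _)
    (by rw [QuotientGroup.ker_mk']) (by
      rw [QuotientGroup.ker_mk']
      exact Cfsg.Agent.H465.LTwo.not_dvd_center hrp (by omega)) hy hM hyM
  -- the order of an `r`-subgroup
  have hcard : ∀ P : Subgroup (Matrix.ProjectiveSpecialLinearGroup (Fin 2) F), IsPGroup r P → Nat.card P ∣ r := by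
    intro P hP
    obtain ⟨n, hn⟩ := IsPGroup.iff_card.1 hP
    have h1 : r ^ n ∣ Nat.card (Matrix.ProjectiveSpecialLinearGroup (Fin 2) F) := hn ▸ card_subgroup_dvd_card P
    have h2 : r ^ n ∣ Nat.card (Matrix.SpecialLinearGroup (Fin 2) F) := by
      have h3 := card_eq_card_quotient_mul_card_subgroup (center (Matrix.SpecialLinearGroup (Fin 2) F))
      rw [h3]
      exact h1.mul_right _
    rw [ClassicalGeometry.PSL2Basic.card_SL2, hF] at h2
    have hco : Nat.Coprime (r ^ n) (r ^ 2 - 1) := by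
      refine Nat.Coprime.pow_left _ ?_
      rw [hrp.coprime_iff_not_dvd]
      intro h4
      have h5 : r ∣ r ^ 2 := dvd_pow_self r two_ne_zero
      have h6 : r ∣ r ^ 2 - (r ^ 2 - 1) := Nat.dvd_sub h5 h4
      have h7 : 1 ≤ r ^ 2 := Nat.one_le_pow _ _ hrp.pos
      rw [show r ^ 2 - (r ^ 2 - 1) = 1 by omega] at h6
      exact hrp.one_lt.ne' (Nat.dvd_one.1 h6)
    rw [hn]
    exact hco.dvd_of_dvd_mul_right h2
  have hRc : Nat.card R = r := by
    rcases (Nat.dvd_prime hrp).1 (hcard R hRp) with h | h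
    · exact absurd (card_eq_one.1 h) hR1
    · exact h
  have key : ∀ A : Subgroup (Matrix.ProjectiveSpecialLinearGroup (Fin 2) F), A ≤ M → Nat.card A = r → A = R := by
    intro A hAM hAc
    have hAp : IsPGroup r A := IsPGroup.of_card (n := 1) (by rw [hAc, pow_one])
    have hsup : IsPGroup r (A ⊔ R : Subgroup _) := by
      refine IsPGroup.to_sup_of_normal_right' hAp hRp ?_
      intro a ha
      rw [mem_normalizer_iff]
      intro g
      constructor
      · exact hRn a (hAM ha) g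
      · intro hg
        have h1 := hRn a⁻¹ (inv_mem (hAM ha)) _ hg
        have h2 : a⁻¹ * (a * g * a⁻¹) * a⁻¹⁻¹ = g := by group
        rwa [h2] at h1
    have h1 : Nat.card (A ⊔ R : Subgroup _) ≤ r := Nat.le_of_dvd hrp.pos (hcard _ hsup)
    have h2 : A = A ⊔ R := eq_of_le_of_card_ge le_sup_left (by rw [hAc]; exact h1)
    have h3 : R = A ⊔ R := eq_of_le_of_card_ge le_sup_right (by rw [hRc]; exact h1)
    exact h2.trans h3.symm
  intro A B hA hB hAc hBc
  rw [key A hA hAc, key B hB hBc]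

/-- field automorphisms of a prime field -/
theorem aut_eq_one (hF : Fintype.card F = r) (σ : F ≃+* F) : σ = 1 := by
  have hb : Function.Bijective (ZMod.castHom (dvd_refl r) F) := by
    rw [Fintype.bijective_iff_injective_and_card]
    exact ⟨ZMod.castHom_injective F, by rw [ZMod.card, hF]⟩
  apply RingEquiv.ext
  intro x
  obtain ⟨n, rfl⟩ := hb.2 x
  have h2 : ((σ : F →+* F).comp (ZMod.castHom (dvd_refl r) F)) = (ZMod.castHom (dvd_refl r) F) := Subsingleton.elim _ _
  exact RingHom.congr_fun h2 n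

/-- the polynomial of the fixed centres -/
noncomputable def fp (B : Matrix (Fin 2) (Fin 2) F) : Polynomial F :=
  Polynomial.C (-(B 0 1)) * Polynomial.X ^ 2 + Polynomial.C (B 1 1 - B 0 0) * Polynomial.X + Polynomial.C (B 1 0)

theorem fp_ne_zero {B : Matrix (Fin 2) (Fin 2) F} (hB : ∀ c : F, B ≠ c • 1) : fp B ≠ 0 := by
  intro h0
  have c2 := congrArg (fun Q : Polynomial F => Q.coeff 2) h0
  have c1 := congrArg (fun Q : Polynomial F => Q.coeff 1) h0
  have c0 := congrArg (fun Q : Polynomial F => Q.coeff 0) h0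
  simp [fp, Polynomial.coeff_X, Polynomial.coeff_C] at c2 c1 c0
  apply hB (B 0 0)
  ext i j
  (revert i j; simp only [c2, c0, _root_.Fin.forall_fin_succ, Fin.isValue, _root_.Matrix.smul_apply, _root_.smul_eq_mul, _root_.Fin.succ_zero_eq_one, _root_.IsEmpty.forall_iff, _root_.Matrix.one_apply_eq, _root_.mul_one, Nat.reduceAdd, _root_.ne_eq, _root_.zero_ne_one, _root_.not_false_eq_true, _root_.Matrix.one_apply_ne, _root_.MulZeroClass.mul_zero, _root_.Fin.succ_ne_zero, _root_.and_true, _root_.true_and]) <;> (repeat' with_reducible apply And.intro)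
  linear_combination c1

theorem natDegree_fp (B : Matrix (Fin 2) (Fin 2) F) : (fp B).natDegree ≤ 2 := Polynomial.natDegree_quadratic_le

theorem eval_fp (B : Matrix (Fin 2) (Fin 2) F) (c : F) :
    (fp B).eval c = -(B 0 1) * c ^ 2 + (B 1 1 - B 0 0) * c + B 1 0 := by
  simp only [fp, _root_.Fin.isValue, _root_.map_neg, _root_.neg_mul, _root_.map_sub, _root_.Polynomial.eval_add, _root_.Polynomial.eval_neg, _root_.Polynomial.eval_mul, _root_.Polynomial.eval_C, _root_.Polynomial.eval_pow, _root_.Polynomial.eval_X, _root_.Polynomial.eval_sub]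

/-- solvable => the centre is fixed -/
theorem eval_of_solvable (hcen : center (Matrix.ProjectiveSpecialLinearGroup (Fin 2) F) = ⊥)
    (hF : Fintype.card F = r) (hr : 5 ≤ r) {B : GL (Fin 2) F} {c : F}
    (h : Group.IsSolvable (closure ({lift (cj B), MulAut.conj (pr (tv c))} :
      Set (MulAut (Matrix.ProjectiveSpecialLinearGroup (Fin 2) F))))) : (fp B.1).eval c = 0 := by
  have hrp : r.Prime := Fact.out
  have hy : orderOf (pr (tv c)) = r := pr_order hrp (by omega) (tv_order c r)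
  have hsu := su_tv hF hr hy
  have h1 := mem_bad_of_solvable hcen hsu (A := zpowers (pr (tv c))) le_rfl (by rw [Nat.card_zpowers, hy])
    (x := lift (cj B)) (g := 1) (by rw [one_mul, inv_one, mul_one]; exact h)
  rw [mem_bad, map_one, inv_one, one_mul, mul_one] at h1
  have h2 : lift (cj B) (pr (tv c)) ∈ (zpowers (pr (tv c))).map (lift (cj B)).toMonoidHom := ⟨_, mem_zpowers _, rfl⟩
  rw [h1, ← mem_powers_iff_mem_zpowers] at h2
  obtain ⟨n, hn⟩ := h2
  have hn' : pr (tv c ^ n) = pr (cj B (tv c)) := by rw [map_pow, ← lift_pr]; exact hn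
  obtain ⟨k, hk⟩ := exists_smul_of_pr_eq hn'
  set w : Fin 2 → F := ![1, c] with hw
  have hBB : B.1 * ((B⁻¹ : GL (Fin 2) F) : Matrix (Fin 2) (Fin 2) F) = 1 := by
    rw [← Units.val_mul, mul_inv_cancel, Units.val_one]
  have hBB' : ((B⁻¹ : GL (Fin 2) F) : Matrix (Fin 2) (Fin 2) F) * B.1 = 1 := by
    rw [← Units.val_mul, inv_mul_cancel, Units.val_one]
  set u : Fin 2 → F := ((B⁻¹ : GL (Fin 2) F) : Matrix (Fin 2) (Fin 2) F) *ᵥ w with hu
  have hBu : B.1 *ᵥ u = w := by rw [hu, mulVec_mulVec, hBB, one_mulVec]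
  have hu0 : u ≠ 0 := by
    intro h0
    rw [h0, mulVec_zero] at hBu
    have := congrFun hBu 0
    simp [hw] at this
  have h3 : (tv c : Matrix (Fin 2) (Fin 2) F) *ᵥ u = k • u := by
    have h4 : ((cj B (tv c) : Matrix.SpecialLinearGroup (Fin 2) F) : Matrix (Fin 2) (Fin 2) F) *ᵥ w = k • w := by
      rw [hk, smul_mulVec, hw, tv_mulVec]
    rw [coe_cj, ← mulVec_mulVec, ← mulVec_mulVec, ← hu] at h4
    have h5 := congrArg (fun x => ((B⁻¹ : GL (Fin 2) F) : Matrix (Fin 2) (Fin 2) F) *ᵥ x) h4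
    simp only [mulVec_mulVec, mulVec_smul] at h5
    rw [← Matrix.mul_assoc, hBB', Matrix.one_mul, ← hu] at h5
    exact h5
  have h4 := tv_eigen h3
  -- `B (1, c) ∥ (1, c)`
  have h5 : u = u 0 • w := by
    ext i
    fin_cases i
    · simp [hw]
    · simp only [hw]
      change u 1 = u 0 * c
      rw [h4]; ring
  have hu00 : u 0 ≠ 0 := by
    intro h0
    rw [h0, zero_smul] at h5
    exact hu0 h5
  have h6 : u 0 • (B.1 *ᵥ w) = w := by rw [← mulVec_smul, ← h5, hBu]
  have e0 := congrFun h6 0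
  have e1 := congrFun h6 1
  simp only [hw, _root_.Fin.isValue, _root_.Matrix.mulVec_fin_two, _root_.Nat.succ_eq_add_one, _root_.Nat.reduceAdd, _root_.Matrix.cons_val_zero, _root_.mul_one, _root_.Matrix.cons_val_one, _root_.Matrix.cons_val_fin_one, _root_.Pi.smul_apply, _root_.smul_eq_mul] at e0 e1
  rw [eval_fp]
  apply mul_left_cancel₀ hu00
  rw [mul_zero]
  linear_combination e1 - c * e0

/-- **Case II.** -/
theorem as2_II (hcen : center (Matrix.ProjectiveSpecialLinearGroup (Fin 2) F) = ⊥)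
    (hF : Fintype.card F = r) (hr : 5 ≤ r) : AS2 (Matrix.ProjectiveSpecialLinearGroup (Fin 2) F) := by
  intro α β hα hβ
  have key : ∀ α : MulAut (Matrix.ProjectiveSpecialLinearGroup (Fin 2) F), α ≠ 1 →
      ∃ B : GL (Fin 2) F, α = lift (cj B) ∧ ∀ c : F, B.1 ≠ c • 1 := by
    intro α hα
    obtain ⟨B, σ, rfl⟩ := surj_two r α
    refine ⟨B, by rw [aut_eq_one hF σ, map_one fld, mul_one], fun c hc => hα ?_⟩
    rw [aut_eq_one hF σ, cj_eq_one_of_scalar (r := c) (by rw [hc, scalar_apply, ← smul_one_eq_diagonal]), map_one fld,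
      mul_one, map_one]
  obtain ⟨A, hA, hAn⟩ := key α hα
  obtain ⟨B, hB, hBn⟩ := key β hβ
  have hQ : fp A.1 * fp B.1 ≠ 0 := mul_ne_zero (fp_ne_zero hAn) (fp_ne_zero hBn)
  have hd : (fp A.1 * fp B.1).natDegree ≤ 4 := by
    refine (Polynomial.natDegree_mul_le).trans ?_
    have h1 := natDegree_fp A.1
    have h2 := natDegree_fp B.1
    omega
  obtain ⟨c, hc⟩ : ∃ c : F, (fp A.1 * fp B.1).eval c ≠ 0 := by
    by_contra hcon
    push Not at hcon
    apply hQ
    refine Polynomial.eq_zero_of_natDegree_lt_card_of_eval_eq_zero _ (f := (id : F → F)) Function.injective_id hcon ?_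
    omega
  rw [Polynomial.eval_mul] at hc
  refine ⟨pr (tv c), fun h => hc ?_, fun h => hc ?_⟩
  · rw [hA] at h
    rw [eval_of_solvable hcen hF hr h, zero_mul]
  · rw [hB] at h
    rw [eval_of_solvable hcen hF hr h, mul_zero]

end prime

/-! ### arithmetic -/

theorem quot_odd {m : ℕ} (hm : 2 ≤ m) (j : ℕ) :
    ∃ Q : ℕ, Odd Q ∧ (2 * m + 1) ^ (2 * j + 1) + 1 = (2 * m + 2) * Q ∧ 1 ≤ Q ∧ (1 ≤ j → 21 ≤ Q) := by
  induction j with
  | zero => exact ⟨1, odd_one, by ring, le_rfl, fun h => by omega⟩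
  | succ j ih =>
    obtain ⟨Q, hQ, hQe, hQ1, -⟩ := ih
    obtain ⟨k, hk⟩ := hQ
    have h1 : 2 * m ≤ (2 * m + 1) ^ 2 * Q := by nlinarith only [hQ1]
    refine ⟨(2 * m + 1) ^ 2 * Q - 2 * m, ?_, ?_, ?_, fun _ => ?_⟩
    · refine ⟨(2 * m + 1) ^ 2 * k + (2 * m ^ 2 + 2 * m) - m, ?_⟩
      have h2 : m ≤ (2 * m + 1) ^ 2 * k + (2 * m ^ 2 + 2 * m) := by nlinarith only []
      rw [hk]
      zify [h2, (show 2 * m ≤ (2 * m + 1) ^ 2 * (2 * k + 1) by rw [← hk]; exact h1)]
      ring
    · zify [h1]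
      zify at hQe
      have h3 : (2 * (m : ℤ) + 1) ^ (2 * (j + 1) + 1) = (2 * m + 1) ^ 2 * (2 * m + 1) ^ (2 * j + 1) := by
        rw [← pow_add]; congr 1; omega
      rw [h3]
      linear_combination (2 * (m : ℤ) + 1) ^ 2 * hQe
    · have h4 : 2 * m + 1 ≤ (2 * m + 1) ^ 2 * Q := by nlinarith only [hQ1]
      omega
    · have h4 : 2 * m + 21 ≤ (2 * m + 1) ^ 2 * Q := by nlinarith only [hm, hQ1]
      omega

theorem eq_one_of_pow {r e k b : ℕ} (hr : r.Prime) (hr5 : 5 ≤ r) (he : e ≠ 0) (hb : b = 1 ∨ b = 3)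
    (h : r ^ e + 1 = b * 2 ^ k) : e = 1 := by
  obtain ⟨m, hm⟩ : ∃ m, r = 2 * m + 1 := by
    have := hr.odd_of_ne_two (by omega)
    exact this
  have hm2 : 2 ≤ m := by omega
  rcases Nat.even_or_odd e with ⟨j, hj⟩ | ⟨j, hj⟩
  · exfalso
    have hj1 : 1 ≤ j := by omega
    have h1 : r ^ e % 8 = 1 := by
      have h2 : r ^ 2 % 8 = 1 := by
        rw [hm]
        have : (2 * m + 1) ^ 2 = 4 * (m * (m + 1)) + 1 := by ring
        rw [this]
        obtain ⟨c, hc⟩ := (Nat.even_mul_succ_self m)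
        rw [hc]
        omega
      rw [hj, ← two_mul, pow_mul, Nat.pow_mod, h2, one_pow]
      rfl
    have h25 : 25 ≤ r ^ e := by
      calc 25 = 5 ^ 2 := by norm_num
        _ ≤ r ^ 2 := Nat.pow_le_pow_left hr5 2
        _ ≤ r ^ e := Nat.pow_le_pow_right hr.pos (by omega)
    have h8 : 8 ∣ 2 ^ k := by
      have hk3 : 3 ≤ k := by
        by_contra hk
        have h10 : 2 ^ k ≤ 2 ^ 2 := Nat.pow_le_pow_right two_pos (by omega)
        rcases hb with rfl | rfl <;> (clear * - h1 h25 h10 h; omega)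
      exact pow_dvd_pow 2 hk3
    obtain ⟨c, hc⟩ := h8
    rw [hc] at h
    rcases hb with rfl | rfl <;> (clear * - h1 h; omega)
  · by_contra hne
    have hj1 : 1 ≤ j := by omega
    obtain ⟨Q, hQ, hQe, -, hQ21⟩ := quot_odd hm2 j
    have hQ21 := hQ21 hj1
    rw [← hm, ← hj, h] at hQe
    have hdvd : Q ∣ b * 2 ^ k := ⟨2 * m + 2, by rw [hQe]; ring⟩
    have hco : Nat.Coprime Q (2 ^ k) := by
      refine Nat.Coprime.pow_right _ ?_
      rw [Nat.coprime_two_right]
      exact hQ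
    have h2 := hco.dvd_of_dvd_mul_right hdvd
    rcases hb with rfl | rfl
    · have := Nat.le_of_dvd (by norm_num) h2
      omega
    · have := Nat.le_of_dvd (by norm_num) h2
      omega

/-! ### the theorem -/

/-- **`AS2` for `PSL₂(q)`, `q ≥ 4`.** -/
theorem row {K : Type*} [Group K] [Finite K] [IsSimpleGroup K] (hK : ¬ IsMulCommutative K) {F : Type u} [Field F]
    [Fintype F] (e : K ≃* Matrix.ProjectiveSpecialLinearGroup (Fin 2) F) (hq : 4 ≤ Fintype.card F) : AS2 K := by
  -- trivial centre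
  have hcen : ∀ {F : Type u} [Field F] (e : K ≃* Matrix.ProjectiveSpecialLinearGroup (Fin 2) F),
      center (Matrix.ProjectiveSpecialLinearGroup (Fin 2) F) = ⊥ := by
    intro F _ e
    have hs : IsSimpleGroup (Matrix.ProjectiveSpecialLinearGroup (Fin 2) F) := e.symm.isSimpleGroup
    rcases (inferInstance : (center (Matrix.ProjectiveSpecialLinearGroup (Fin 2) F)).Normal).eq_bot_or_eq_top with h1 | h1
    · exact h1
    · exfalso
      apply hK
      refine ⟨⟨fun a b => ?_⟩⟩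
      apply e.injective
      rw [map_mul, map_mul]
      have : e b ∈ center (Matrix.ProjectiveSpecialLinearGroup (Fin 2) F) := by rw [h1]; trivial
      exact mem_center_iff.1 this (e a)
  obtain ⟨r, hchar⟩ := CharP.exists F
  have hr : r.Prime := (CharP.char_is_prime_or_zero F r).resolve_right (CharP.char_ne_zero_of_finite F r)
  have hrf : Fact r.Prime := ⟨hr⟩
  obtain ⟨n, -, hn⟩ := FiniteField.card F r
  by_cases h4 : Fintype.card F = 4
  · -- `PSL₂(4) ≅ A₅ ≅ PSL₂(5)`
    have : Fact (Nat.Prime 5) := ⟨by norm_num⟩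
    obtain ⟨e4⟩ := Cfsg.Agent.S0252.result h4
    have hc5 : Fintype.card (ULift.{u} (ZMod 5)) = 5 := by rw [Fintype.card_ulift, ZMod.card]
    obtain ⟨e5⟩ := Cfsg.Agent.S0253.result hc5
    have e' := (e.trans e4).trans e5.symm
    have hc : CharP (ULift.{u} (ZMod 5)) 5 := inferInstance
    exact AS2.congr e'.symm (as2_II (r := 5) (hcen e') hc5 le_rfl)
  · by_cases hbad : ∃ k b, (b = 1 ∨ b = 3) ∧ Fintype.card F + 1 = b * 2 ^ k
    · obtain ⟨k, b, hb, hk⟩ := hbad
      -- the characteristic is at least five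
      have hr5 : 5 ≤ r := by
        by_contra hr5
        have h2 := hr.two_le
        have h4' : r ≠ 4 := by
          rintro rfl
          norm_num at hr
        have hr23 : r = 2 ∨ r = 3 := by omega
        rcases hr23 with rfl | rfl
        · have h6 : 2 ∣ Fintype.card F := by rw [hn]; exact dvd_pow_self 2 n.ne_zero
          have hk0 : k = 0 := by
            by_contra hk0
            have h7 : 2 ∣ b * 2 ^ k := (dvd_pow_self 2 hk0).mul_left b
            omega
          rw [hk0, pow_zero, mul_one] at hk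
          omega
        · have h6 : 3 ∣ Fintype.card F := by rw [hn]; exact dvd_pow_self 3 n.ne_zero
          rcases hb with rfl | rfl
          · have h8 : ∀ m : ℕ, 3 ^ m % 8 = 1 ∨ 3 ^ m % 8 = 3 := by
              intro m
              induction m with
              | zero => left; rfl
              | succ m ih => rw [pow_succ]; omega
            have h9 := h8 n
            rw [← hn] at h9
            have hk3 : 3 ≤ k := by
              by_contra hk3
              have h10 : 2 ^ k ≤ 2 ^ 2 := Nat.pow_le_pow_right two_pos (by omega)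
              omega
            have h11 : 8 ∣ 2 ^ k := pow_dvd_pow 2 hk3
            (clear * - hk h9 h11; omega)
          · omega
      have hn1 : (n : ℕ) = 1 := eq_one_of_pow hr hr5 n.ne_zero hb (by rw [← hn]; exact hk)
      rw [hn1, pow_one] at hn
      exact AS2.congr e.symm (as2_II (r := r) (hcen e) hn hr5)
    · push Not at hbad
      obtain ⟨p, a, hp, hp2, ha, h5, hd, hnd⟩ := Cfsg.Agent.H465.LTwo.exists_pp (N := Fintype.card F + 1)
        (fun k => by rw [← one_mul (2 ^ k)]; exact hbad k 1 (Or.inl rfl)) (fun k => hbad k 3 (Or.inr rfl)) (by omega)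
      have h7 : 7 ≤ Fintype.card F := by
        have h5' : Fintype.card F ≠ 5 := fun h => hbad 1 3 (Or.inr rfl) (by rw [h]; norm_num)
        have h6' : Fintype.card F ≠ 6 := by
          intro h
          rw [hn] at h
          have h2 : 2 ∣ r ^ (n : ℕ) := by rw [h]; decide
          have h3 : 3 ∣ r ^ (n : ℕ) := by rw [h]; decide
          have h2' := (Nat.prime_dvd_prime_iff_eq Nat.prime_two hr).1 (Nat.prime_two.dvd_of_dvd_pow h2)
          have h3' := (Nat.prime_dvd_prime_iff_eq Nat.prime_three hr).1 (Nat.prime_three.dvd_of_dvd_pow h3)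
          omega
        omega
      exact AS2.congr e.symm (as2_I r (hcen e) hp hp2 ha h5 hd hnd h7)

end Cfsg.Agent.H791.AS
end

-- part: H495/AS/Cyc
section
/-!
# Two overlapping 5-cycles do not generate a solvable group (helper495)

`ns_cycle`: `s` a 5-cycle, `x` a permutation, the support `D` of `s` and `x D` are different and meet:
`⟨x, s⟩` is not solvable.
-/

set_option autoImplicit false
set_option linter.unusedSectionVars false

namespace Cfsg.Agent.H495.AS

open Equiv Subgroup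

variable {α : Type*} [Fintype α] [DecidableEq α]

/-- the same orbit of `N` -/
def R (N : Subgroup (Perm α)) (a b : α) : Prop := ∃ n ∈ N, n a = b

theorem R.refl (N : Subgroup (Perm α)) (a : α) : R N a a := ⟨1, one_mem _, rfl⟩

theorem R.symm {N : Subgroup (Perm α)} {a b : α} (h : R N a b) : R N b a := by
  obtain ⟨n, hn, rfl⟩ := h
  exact ⟨n⁻¹, inv_mem hn, by simp⟩

theorem R.trans {N : Subgroup (Perm α)} {a b c : α} (h : R N a b) (h' : R N b c) : R N a c := by
  obtain ⟨n, hn, rfl⟩ := h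
  obtain ⟨m, hm, rfl⟩ := h'
  exact ⟨m * n, mul_mem hm hn, rfl⟩

theorem R.map {N : Subgroup (Perm α)} {g : Perm α} (hg : ∀ n ∈ N, g * n * g⁻¹ ∈ N) {a b : α} (h : R N a b) :
    R N (g a) (g b) := by
  obtain ⟨n, hn, rfl⟩ := h
  exact ⟨g * n * g⁻¹, hg n hn, by simp⟩

theorem norm_pow {N : Subgroup (Perm α)} {g : Perm α} (hg : ∀ n ∈ N, g * n * g⁻¹ ∈ N) (i : ℕ) :
    ∀ n ∈ N, g ^ i * n * (g ^ i)⁻¹ ∈ N := by
  induction i with
  | zero => intro n hn; simpa using hn
  | succ i ih =>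
    intro n hn
    have h1 := hg _ (ih n hn)
    have e : g * (g ^ i * n * (g ^ i)⁻¹) * g⁻¹ = g ^ (i + 1) * n * (g ^ (i + 1))⁻¹ := by
      rw [pow_succ' g i]; group
    rw [← e]; exact h1

/-- a 5-cycle normalising `N` preserves the `N`-orbits (if the orbits are not trivial) -/
theorem R_cycle {N : Subgroup (Perm α)} {u : Perm α} (hu : u.IsCycle) (hu5 : u.support.card = 5)
    (hN : ∀ n ∈ N, u * n * u⁻¹ ∈ N) (hb : ∀ b ∈ u.support, ∃ b', b' ≠ b ∧ R N b b') (b : α) : R N b (u b) := by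
  have ho : orderOf u = 5 := by rw [hu.orderOf, hu5]
  have hu5' : u ^ 5 = 1 := by rw [← ho, pow_orderOf_eq_one]
  by_cases hub : u b = b
  · rw [hub]; exact R.refl N b
  by_contra hcon
  obtain ⟨b', hb', hR⟩ := hb b (Perm.mem_support.2 hub)
  have hmv : u b' ≠ b' := by
    intro h
    apply hcon
    have h1 := R.map hN hR
    rw [h] at h1
    exact hR.trans h1.symm
  obtain ⟨j, hj⟩ := hu.exists_pow_eq hub hmv
  have key : ∀ k : ℕ, R N b ((u ^ (j * k)) b) := by
    intro k
    induction k with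
    | zero => simpa using R.refl N b
    | succ k ih =>
      refine ih.trans ?_
      have h1 := R.map (norm_pow hN (j * k)) hR
      rw [← hj, ← Perm.mul_apply, ← pow_add] at h1
      exact h1
  have hj5 : ¬ 5 ∣ j := by
    rintro ⟨m, rfl⟩
    apply hb'
    rw [← hj, pow_mul, hu5', one_pow, Perm.one_apply]
  have hcop : Nat.Coprime j 5 := (Nat.Coprime.symm ((Nat.Prime.coprime_iff_not_dvd (by norm_num)).2 hj5))
  obtain ⟨k, hk⟩ : ∃ k : ℕ, j * k ≡ 1 [MOD 5] := by
    have h2 := Nat.exists_mul_mod_eq_one_of_coprime hcop (by norm_num)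
    obtain ⟨k, -, hk⟩ := h2
    exact ⟨k, hk⟩
  have h3 : u ^ (j * k) = u := by
    have h4 : u ^ (j * k) = u ^ 1 := by
      rw [pow_eq_pow_iff_modEq, ho]
      exact hk
    rw [h4, pow_one]
  exact hcon (h3 ▸ key k)


theorem core {s t : Perm α} (hs : s.IsCycle) (ht : t.IsCycle) (hs5 : s.support.card = 5) (ht5 : t.support.card = 5)
    {c ω : α} (hcs : c ∈ s.support) (hct : c ∈ t.support) (hωt : ω ∈ t.support) (hωs : ω ∉ s.support)
    (hsol : Group.IsSolvable (closure ({s, t} : Set (Perm α)))) : False := by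
  classical
  set M := _root_.Subgroup.closure ({s, t} : Set (Perm α)) with hM
  have hsM : s ∈ M := _root_.Subgroup.subset_closure (by simp)
  have htM : t ∈ M := _root_.Subgroup.subset_closure (by simp)
  have hnt : Nontrivial M := by
    refine ⟨⟨s, hsM⟩, 1, fun h => ?_⟩
    have h1 : s = 1 := congrArg Subtype.val h
    rw [Perm.mem_support, h1] at hcs
    exact hcs rfl
  obtain ⟨q, N0, hq, hN0n, hN0p, hN0c, hN01⟩ := Cfsg.Agent.Lib.SolvableNormalP.exists_normal_pSubgroup M
  set N : Subgroup (Perm α) := N0.map M.subtype with hN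
  have hNM : N ≤ M := by
    rintro _ ⟨n, -, rfl⟩
    exact n.2
  have hnorm : ∀ g ∈ M, ∀ n ∈ N, g * n * g⁻¹ ∈ N := by
    rintro g hg _ ⟨n, hn, rfl⟩
    exact ⟨(⟨g, hg⟩ * n * ⟨g, hg⟩⁻¹ :), hN0n.conj_mem n hn _, rfl⟩
  have hcomm : ∀ a ∈ N, ∀ b ∈ N, a * b = b * a := by
    rintro _ ⟨a, ha, rfl⟩ _ ⟨b, hb, rfl⟩
    exact congrArg (fun z : N0 => ((z : M) : Perm α)) (hN0c.is_comm.comm ⟨a, ha⟩ ⟨b, hb⟩)
  have hNp : IsPGroup q N := hN0p.map _
  have hN1 : N ≠ ⊥ := by
    rw [hN, Ne, Subgroup.map_eq_bot_iff_of_injective _ M.subtype_injective]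
    exact hN01
  set U := s.support ∪ t.support with hU
  -- outside `U`
  have hout : ∀ g ∈ M, ∀ b, b ∉ U → g b = b := by
    intro g hg
    induction hg using closure_induction with
    | mem g hg =>
      intro b hb
      simp only [Set.mem_insert_iff, Set.mem_singleton_iff] at hg
      rw [hU, Finset.mem_union, not_or, Perm.mem_support, Perm.mem_support, not_not, not_not] at hb
      rcases hg with rfl | rfl
      · exact hb.1
      · exact hb.2
    | one => intro b _; rfl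
    | mul g h _ _ ihg ihh => intro b hb; rw [Perm.mul_apply, ihh b hb, ihg b hb]
    | inv g _ ih =>
      intro b hb
      rw [Perm.inv_eq_iff_eq, ih b hb]
  -- transitivity of `M`
  have htr : ∀ b ∈ U, ∃ g ∈ M, g c = b := by
    intro b hb
    rw [hU, Finset.mem_union, Perm.mem_support, Perm.mem_support] at hb
    rcases hb with hb | hb
    · obtain ⟨i, hi⟩ := hs.exists_pow_eq (Perm.mem_support.1 hcs) hb
      exact ⟨s ^ i, pow_mem hsM i, hi⟩
    · obtain ⟨i, hi⟩ := ht.exists_pow_eq (Perm.mem_support.1 hct) hb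
      exact ⟨t ^ i, pow_mem htM i, hi⟩
  -- the orbits of `N` are not trivial
  have hbig : ∀ b ∈ U, ∃ b', b' ≠ b ∧ R N b b' := by
    obtain ⟨n, hn, hn1⟩ := (Subgroup.ne_bot_iff_exists_ne_one.1 hN1 : ∃ a : N, a ≠ 1) |>.elim
      (fun a ha => (⟨a.1, a.2, fun h => ha (Subtype.ext h)⟩ : ∃ n ∈ N, n ≠ 1))
    obtain ⟨e, he⟩ : ∃ e, n e ≠ e := by
      by_contra h
      push Not at h
      exact hn1 (Perm.ext h)
    have heU : e ∈ U := by
      by_contra h
      exact he (hout n (hNM hn) e h)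
    obtain ⟨g1, hg1, hg1e⟩ := htr e heU
    intro b hb
    obtain ⟨g2, hg2, hg2b⟩ := htr b hb
    have h1 : (g2 * g1⁻¹) e = b := by
      rw [Perm.mul_apply, ← hg1e, show g1⁻¹ (g1 c) = c from g1.symm_apply_apply c, hg2b]
    refine ⟨(g2 * g1⁻¹) (n e), ?_, ?_⟩
    · rw [← h1]
      exact fun h => he ((g2 * g1⁻¹).injective h)
    · have h2 := R.map (hnorm _ (mul_mem hg2 (inv_mem hg1))) ⟨n, hn, rfl⟩ (a := e)
      rw [h1] at h2
      exact h2
  have hRs : ∀ b, R N b (s b) := R_cycle hs hs5 (hnorm s hsM) fun b hb => hbig b (Finset.mem_union_left _ hb)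
  have hRt : ∀ b, R N b (t b) := R_cycle ht ht5 (hnorm t htM) fun b hb => hbig b (Finset.mem_union_right _ hb)
  have hRpow : ∀ u : Perm α, (∀ b, R N b (u b)) → ∀ (i : ℕ) b, R N b ((u ^ i) b) := by
    intro u hu i b
    induction i with
    | zero => exact R.refl N b
    | succ i ih =>
      rw [pow_succ', Perm.mul_apply]
      exact ih.trans (hu _)
  have hRc : ∀ b ∈ U, R N c b := by
    intro b hb
    rw [hU, Finset.mem_union, Perm.mem_support, Perm.mem_support] at hb
    rcases hb with hb | hb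
    · obtain ⟨i, hi⟩ := hs.exists_pow_eq (Perm.mem_support.1 hcs) hb
      rw [← hi]
      exact hRpow s hRs i c
    · obtain ⟨i, hi⟩ := ht.exists_pow_eq (Perm.mem_support.1 hct) hb
      rw [← hi]
      exact hRpow t hRt i c
  have hcU : c ∈ U := Finset.mem_union_left _ hcs
  have hωU : ω ∈ U := Finset.mem_union_right _ hωt
  -- `N` is regular on `U`
  have hreg : ∀ n ∈ N, ∀ b ∈ U, n b = b → n = 1 := by
    intro n hn b hb hnb
    ext b'
    rw [Perm.one_apply]
    by_cases hb' : b' ∈ U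
    · obtain ⟨m, hm, rfl⟩ := (hRc b hb).symm.trans (hRc b' hb')
      rw [← Perm.mul_apply, hcomm n hn m hm, Perm.mul_apply, hnb]
    · exact hout n (hNM hn) b' hb'
  have hNU : ∀ n ∈ N, ∀ b ∈ U, n b ∈ U := by
    intro n hn b hb
    by_contra h
    have h1 := hout n (hNM hn) _ h
    have h2 := n.injective h1
    rw [h2] at h
    exact h hb
  have hcard : ∀ (C : Subgroup (Perm α)) (W : Finset α) (b : α), C ≤ N → b ∈ U → (∀ n ∈ C, n b ∈ W) →
      (∀ a ∈ W, a ∈ U ∧ ∀ n ∈ N, n b = a → n ∈ C) → Nat.card C = W.card := by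
    intro C W b hCN hb h1 h2
    rw [← Fintype.card_coe W, ← Nat.card_eq_fintype_card]
    refine Nat.card_congr (Equiv.ofBijective (fun n : C => (⟨n.1 b, h1 _ n.2⟩ : W)) ⟨?_, ?_⟩)
    · intro n m hnm
      have h3 : n.1 b = m.1 b := congrArg Subtype.val hnm
      have h4 := hreg (m.1⁻¹ * n.1) (mul_mem (inv_mem (hCN m.2)) (hCN n.2)) b hb (by
        rw [Perm.mul_apply, h3]; exact m.1.symm_apply_apply b)
      exact Subtype.ext (inv_mul_eq_one.1 h4).symm
    · rintro ⟨a, ha⟩
      obtain ⟨haU, h3⟩ := h2 a ha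
      obtain ⟨n, hn, hna⟩ := (hRc b hb).symm.trans (hRc a haU)
      exact ⟨⟨n, h3 n hn hna⟩, Subtype.ext hna⟩
  have hcardN : Nat.card N = U.card :=
    hcard N U c le_rfl hcU (fun n hn => hNU n hn c hcU) fun a ha => ⟨ha, fun n hn _ => hn⟩
  have hsω : s ω = ω := by rwa [Perm.mem_support, not_not] at hωs
  have hcardC : Nat.card ↥(N ⊓ centralizer {s} : Subgroup (Perm α)) = (U \ s.support).card := by
    refine hcard _ _ ω inf_le_left hωU ?_ ?_
    · rintro n ⟨hn, hns⟩
      have h1 : s * n = n * s := mem_centralizer_iff.1 hns s rfl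
      rw [Finset.mem_sdiff, Perm.mem_support, not_not]
      refine ⟨hNU n hn ω hωU, ?_⟩
      rw [← Perm.mul_apply, h1, Perm.mul_apply, hsω]
    · intro a ha
      rw [Finset.mem_sdiff, Perm.mem_support, not_not] at ha
      refine ⟨ha.1, fun n hn hna => Subgroup.mem_inf.2 ⟨hn, ?_⟩⟩
      have h1 : (n⁻¹ * (s * n * s⁻¹)) ω = ω := by
        have h2 : s⁻¹ ω = ω := by rw [Perm.inv_eq_iff_eq, hsω]
        rw [Perm.mul_apply, Perm.mul_apply, Perm.mul_apply, h2, hna, ha.2, ← hna]
        exact n.symm_apply_apply ω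
      have h2 := hreg _ (mul_mem (inv_mem hn) (hnorm s hsM n hn)) ω hωU h1
      rw [inv_mul_eq_one] at h2
      rw [Subgroup.mem_centralizer_iff]
      intro y hy
      rw [Set.mem_singleton_iff.1 hy]
      exact (eq_mul_inv_iff_mul_eq.1 h2).symm
  have hdvd : Nat.card ↥(N ⊓ centralizer {s} : Subgroup (Perm α)) ∣ Nat.card N := Subgroup.card_dvd_of_le inf_le_left
  have hUc : U.card + (s.support ∩ t.support).card = 10 := by
    rw [hU, Finset.card_union_add_card_inter, hs5, ht5]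
  have hint : 0 < (s.support ∩ t.support).card := Finset.card_pos.2 ⟨c, Finset.mem_inter.2 ⟨hcs, hct⟩⟩
  have hU6 : 5 < U.card := by
    rw [← hs5]
    exact Finset.card_lt_card (Finset.ssubset_iff_of_subset Finset.subset_union_left |>.2 ⟨ω, hωU, hωs⟩)
  have hdiff : (U \ s.support).card = U.card - 5 := by
    rw [Finset.card_sdiff_of_subset Finset.subset_union_left, hs5]
  rw [hcardC, hcardN, hdiff] at hdvd
  have : Fact q.Prime := ⟨hq⟩
  obtain ⟨k, hk⟩ := IsPGroup.iff_card.1 hNp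
  rw [hcardN] at hk
  have hcase : U.card = 6 ∨ U.card = 7 ∨ U.card = 8 ∨ U.card = 9 := by (clear * - hUc hint hU6; omega)
  rcases hcase with h | h | h | h
  · rw [h] at hk
    have h2 : q = 2 := (Nat.prime_dvd_prime_iff_eq Nat.prime_two hq).1
      (Nat.prime_two.dvd_of_dvd_pow (hk ▸ (by norm_num : 2 ∣ 6))) |>.symm
    have h3 : q = 3 := (Nat.prime_dvd_prime_iff_eq Nat.prime_three hq).1
      (Nat.prime_three.dvd_of_dvd_pow (hk ▸ (by norm_num : 3 ∣ 6))) |>.symm
    omega
  · rw [h] at hdvd; omega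
  · rw [h] at hdvd; omega
  · rw [h] at hdvd; omega

/-- **two overlapping 5-cycles**: `s` a 5-cycle with support `D`, `x` a permutation with `x D ≠ D`, `x D ∩ D ≠ ∅` -/
theorem ns_cycle {s x : Perm α} (hs : s.IsCycle) (hs5 : s.support.card = 5) {a l : α} (ha : a ∈ s.support)
    (hxa : x a ∉ s.support) (hl : l ∈ s.support) (hxl : x l ∈ s.support) :
    ¬ Group.IsSolvable (closure ({x, s} : Set (Perm α))) := by
  intro hsol
  have hsup : ∀ b, b ∈ s.support → x b ∈ (x * s * x⁻¹).support := by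
    intro b hb
    rw [Perm.mem_support] at hb ⊢
    rw [Perm.mul_apply, Perm.mul_apply, show x⁻¹ (x b) = b from x.symm_apply_apply b]
    exact fun h => hb (x.injective h)
  refine core (s := s) (t := x * s * x⁻¹) (c := x l) (ω := x a) hs hs.conj hs5 ?_ hxl (hsup l hl) (hsup a ha) hxa ?_
  · rw [Perm.card_support_conj, hs5]
  · have hle : _root_.Subgroup.closure ({s, x * s * x⁻¹} : Set (Perm α)) ≤ closure ({x, s} : Set (Perm α)) := by
      rw [closure_le]
      have hx : x ∈ closure ({x, s} : Set (Perm α)) := _root_.Subgroup.subset_closure (by simp)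
      have hs' : s ∈ _root_.Subgroup.closure ({x, s} : Set (Perm α)) := _root_.Subgroup.subset_closure (by simp)
      intro y hy
      simp only [Set.mem_insert_iff, Set.mem_singleton_iff] at hy
      rcases hy with rfl | rfl
      · exact hs'
      · exact mul_mem (mul_mem hx hs') (inv_mem hx)
    exact Group.isSolvable_of_isSolvable_injective (Subgroup.inclusion_injective hle)

end Cfsg.Agent.H495.AS
end

-- part: H495/AS/Alt
section
/-!
# `AS2` for the alternating groups of degree at least 7 (helper495)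
-/

set_option autoImplicit false
set_option linter.unusedSectionVars false

namespace Cfsg.Agent.H495.AS

open Equiv Subgroup Cfsg.Agent.H965.AS

/-- a 5-set which is moved, but not away from itself, by both permutations -/
theorem exists_set {n : ℕ} (hn : 7 ≤ n) {x y : Perm (Fin n)} (hx : x ≠ 1) (hy : y ≠ 1) :
    ∃ D : Finset (Fin n), D.card = 5 ∧ (∃ a ∈ D, x a ∉ D) ∧ (∃ l ∈ D, x l ∈ D) ∧ (∃ a ∈ D, y a ∉ D) ∧
      ∃ l ∈ D, y l ∈ D := by
  classical
  have hcardn : (Finset.univ : Finset (Fin n)).card = n := by simp only [_root_.Finset.card_univ, _root_.Fintype.card_fin]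
  have fresh : ∀ T : Finset (Fin n), T.card ≤ 4 → ∃ l, l ∉ T := by
    intro T hT
    by_contra h
    push Not at h
    have h1 : T = Finset.univ := Finset.eq_univ_iff_forall.2 h
    rw [h1, hcardn] at hT
    omega
  have ext : ∀ (D0 : Finset (Fin n)) (b c : Fin n), D0.card ≤ 5 → b ∉ D0 → c ∉ D0 →
      ∃ D : Finset (Fin n), D0 ⊆ D ∧ D.card = 5 ∧ b ∉ D ∧ c ∉ D := by
    intro D0 b c h1 h2 h3
    have h4 : D0 ⊆ Finset.univ \ {b, c} := by
      intro z hz
      rw [Finset.mem_sdiff, Finset.mem_insert, Finset.mem_singleton, not_or]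
      exact ⟨Finset.mem_univ _, fun h => h2 (h ▸ hz), fun h => h3 (h ▸ hz)⟩
    have h5 : 5 ≤ (Finset.univ \ {b, c} : Finset (Fin n)).card := by
      have h6 : ({b, c} : Finset (Fin n)).card ≤ 2 := Finset.card_le_two
      have h7 := Finset.le_card_sdiff ({b, c} : Finset (Fin n)) Finset.univ
      rw [hcardn] at h7
      omega
    obtain ⟨D, h8, h9, h10⟩ := Finset.exists_subsuperset_card_eq h4 h1 h5
    refine ⟨D, h8, h10, fun h => ?_, fun h => ?_⟩
    · have := h9 h
      rw [Finset.mem_sdiff] at this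
      exact this.2 (by simp)
    · have := h9 h
      rw [Finset.mem_sdiff] at this
      exact this.2 (by simp)
  by_cases hA : ∃ a, x a ≠ a ∧ y a ≠ a
  · obtain ⟨a, hxa, hya⟩ := hA
    obtain ⟨l, hl⟩ := fresh {x a, y a, a, x⁻¹ (y a)} Finset.card_le_four
    obtain ⟨m, hm⟩ := fresh {x a, y a, a, y⁻¹ (x a)} Finset.card_le_four
    simp only [Finset.mem_insert, Finset.mem_singleton, not_or] at hl hm
    have hxl1 : x l ≠ x a := fun h => hl.2.2.1 (x.injective h)
    have hxl2 : x l ≠ y a := fun h => hl.2.2.2 (by rw [← h]; exact (x.symm_apply_apply l).symm)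
    have hym1 : y m ≠ y a := fun h => hm.2.2.1 (y.injective h)
    have hym2 : y m ≠ x a := fun h => hm.2.2.2 (by rw [← h]; exact (y.symm_apply_apply m).symm)
    obtain ⟨D, h1, h2, h3, h4⟩ := ext {a, l, x l, m, y m} (x a) (y a) Finset.card_le_five (by
      simp only [Finset.mem_insert, Finset.mem_singleton, not_or]
      exact ⟨hxa, Ne.symm hl.1, Ne.symm hxl1, Ne.symm hm.1, Ne.symm hym2⟩) (by
      simp only [Finset.mem_insert, Finset.mem_singleton, not_or]
      exact ⟨hya, Ne.symm hl.2.1, Ne.symm hxl2, Ne.symm hm.2.1, Ne.symm hym1⟩)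
    exact ⟨D, h2, ⟨a, h1 (by simp), h3⟩, ⟨l, h1 (by simp), h1 (by simp)⟩, ⟨a, h1 (by simp), h4⟩,
      ⟨m, h1 (by simp), h1 (by simp)⟩⟩
  · push Not at hA
    obtain ⟨i, hi⟩ : ∃ i, x i ≠ i := by
      by_contra h
      push Not at h
      exact hx (Perm.ext h)
    obtain ⟨j, hj⟩ : ∃ j, y j ≠ j := by
      by_contra h
      push Not at h
      exact hy (Perm.ext h)
    have hyi : y i = i := hA i hi
    have hxj : x j = j := by
      by_contra h
      exact hj (hA j h)
    have h1 : x i ≠ j := by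
      intro h
      rw [← hxj] at h
      have := x.injective h
      exact hi (by rw [this, hxj])
    have h2 : y j ≠ i := by
      intro h
      rw [← hyi] at h
      have := y.injective h
      exact hj (by rw [this, hyi])
    obtain ⟨D, h3, h4, h5, h6⟩ := ext {i, j} (x i) (y j) ((Finset.card_le_two).trans (by norm_num)) (by
      simp only [Finset.mem_insert, Finset.mem_singleton, not_or]
      exact ⟨hi, h1⟩) (by
      simp only [Finset.mem_insert, Finset.mem_singleton, not_or]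
      exact ⟨h2, hj⟩)
    exact ⟨D, h4, ⟨i, h3 (by simp), h5⟩, ⟨j, h3 (by simp), by rw [hxj]; exact h3 (by simp)⟩,
      ⟨j, h3 (by simp), h6⟩, ⟨i, h3 (by simp), by rw [hyi]; exact h3 (by simp)⟩⟩

theorem exists_cyc {n : ℕ} {D : Finset (Fin n)} (hD : D.card = 5) :
    ∃ s ∈ alternatingGroup (Fin n), s.IsCycle ∧ s.support = D := by
  obtain ⟨s, hs, hsD⟩ := D.exists_cycleOn
  have hnt : (D : Set (Fin n)).Nontrivial := by
    have : 1 < D.card := by omega
    exact Finset.one_lt_card_iff_nontrivial.1 this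
  have hsup : s.support = D := by
    refine Finset.Subset.antisymm hsD fun a ha => ?_
    rw [Perm.mem_support]
    exact hs.apply_ne hnt ha
  have hcyc : s.IsCycle := Perm.isCycle_iff_exists_isCycleOn.2 ⟨D, hnt, hs, fun x hx => by
    have : x ∈ s.support := Perm.mem_support.2 hx
    rw [hsup] at this
    exact this⟩
  refine ⟨s, ?_, hcyc, hsup⟩
  rw [Perm.mem_alternatingGroup, hcyc.sign, hsup, hD]
  decide

theorem as2_alt {n : ℕ} (hn : 7 ≤ n) : AS2 (alternatingGroup (Fin n)) := by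
  obtain ⟨ψ, hψ, hspec⟩ := Cfsg.Agent.Omega.TwoF.AltRk.exists_psi (n := n) hn
  have hconj : ∀ y : alternatingGroup (Fin n), ψ (MulAut.conj y) = (y : Perm (Fin n)) := by
    intro y
    have h1 : (y : Perm (Fin n))⁻¹ * ψ (MulAut.conj y) = 1 := by
      refine Cfsg.Agent.H465.AltPE.eq_one_of_comm (by omega) fun z hz => ?_
      have h2 := hspec (MulAut.conj y) ⟨z, hz⟩
      have h3 : ((MulAut.conj y ⟨z, hz⟩ : alternatingGroup (Fin n)) : Perm (Fin n)) = y * z * (y : Perm (Fin n))⁻¹ :=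
        rfl
      rw [h3] at h2
      set w := ψ (MulAut.conj y)
      change (y : Perm (Fin n)) * z * (y : Perm (Fin n))⁻¹ = w * z * w⁻¹ at h2
      have h4 : w * z = (y : Perm (Fin n)) * z * (y : Perm (Fin n))⁻¹ * w := by
        rw [h2]; group
      rw [mul_assoc, h4]; group
    exact (inv_mul_eq_one.1 h1).symm
  intro a b ha hb
  have ha' : ψ a ≠ 1 := fun h => ha (hψ (by rw [h, map_one]))
  have hb' : ψ b ≠ 1 := fun h => hb (hψ (by rw [h, map_one]))
  obtain ⟨D, hD, ⟨a1, ha1, ha2⟩, ⟨l1, hl1, hl2⟩, ⟨a2, ha3, ha4⟩, ⟨l2, hl3, hl4⟩⟩ := exists_set hn ha' hb'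
  obtain ⟨s, hsA, hs, hsD⟩ := exists_cyc hD
  have key : ∀ w : MulAut (alternatingGroup (Fin n)), ¬ Group.IsSolvable (closure ({ψ w, s} : Set (Perm (Fin n)))) →
      ¬ Group.IsSolvable (closure ({w, MulAut.conj (⟨s, hsA⟩ : alternatingGroup (Fin n))} :
        Set (MulAut (alternatingGroup (Fin n))))) := by
    intro w hns hsol
    apply hns
    have h1 : (_root_.Subgroup.closure ({w, MulAut.conj ⟨s, hsA⟩} : Set (MulAut (alternatingGroup (Fin n))))).map ψ =
        _root_.Subgroup.closure ({ψ w, s} : Set (Perm (Fin n))) := by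
      rw [MonoidHom.map_closure, Set.image_pair, hconj]
    rw [← h1]
    exact Cfsg.Agent.SignalizersComponents.ComponentExists.isSolvable_map hsol _
  subst hsD
  exact ⟨⟨s, hsA⟩, key a (ns_cycle hs hD ha1 ha2 hl1 hl2), key b (ns_cycle hs hD ha3 ha4 hl3 hl4)⟩

/-- **the row `A_n`, `n ≥ 7`** -/
theorem row_ge {n : ℕ} (hn : 7 ≤ n) {K : Type*} [Group K] (e : K ≃* alternatingGroup (Fin n)) : AS2 K :=
  (as2_alt hn).congr e.symm

end Cfsg.Agent.H495.AS
end

private theorem dce_feff84a4eabe : _root_.True := by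
  try have : _root_.True := by simp only [_root_.Cfsg.Agent.H791.AS.dv.eq_1]
  try have : _root_.True := by simp only [_root_.Cfsg.Agent.H791.AS.seq.eq_2]
  try have : _root_.True := by simp only [_root_.Cfsg.Agent.H791.AS.seq.eq_def]
  try have : _root_.True := by simp only [_root_.Cfsg.Agent.H791.AS.seq.eq_1]
  try have : _root_.True := by simp only [_root_.Cfsg.Agent.H791.AS.fp.eq_1]
  exact _root_.True.intro
end

-- part: H99/AS/Base
section
prune_inst 0x10000000000000
set_option linter.all false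
open scoped Cfsg.Agent.FastGrp

/-!
# S3943: a criterion for `AS2` with an element `s` of composite order (helper99)

`Uel p s` : every solvable subgroup containing `s` has at most one subgroup of order `p`.

* `of_uel` : `AS2 S` if `A ≤ ⟨s⟩` has order `p` and `2 (p - 1) |C_S(A)| < |S : H|` for all proper subgroups `H`.
-/

set_option autoImplicit false
set_option linter.unusedSectionVars false

namespace Cfsg.Agent.H99.AS

open Cfsg Subgroup Cfsg.Agent.H465.SU Cfsg.Agent.H465.Red Cfsg.Agent.H965.AS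

universe u

variable {S : Type u} [Group S]

/-- every solvable subgroup containing `s` has (at most) one subgroup of order `p` -/
def Uel (p : ℕ) (s : S) : Prop :=
  ∀ M : Subgroup S, Group.IsSolvable M → s ∈ M → ∀ A B : Subgroup S, A ≤ M → B ≤ M → Nat.card A = p → Nat.card B = p →
    A = B

theorem Uel.conj {p : ℕ} {s : S} (h : Uel p s) (g : S) : Uel p (MulAut.conj g s) := by
  intro M hM hs A B hA hB hAc hBc
  have hcard : ∀ (B : Subgroup S) (e : MulAut S), Nat.card (B.map e.toMonoidHom) = Nat.card B := fun B e =>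
    card_map_of_injective e.injective
  have hsol : Group.IsSolvable (M.map (MulAut.conj g⁻¹).toMonoidHom) :=
    Group.isSolvable_of_surjective (f := (MulAut.conj g⁻¹).toMonoidHom.subgroupMap M)
      (MonoidHom.subgroupMap_surjective _ _)
  have hmem : s ∈ M.map (MulAut.conj g⁻¹).toMonoidHom := ⟨_, hs, by
    show g⁻¹ * (g * s * g⁻¹) * (g⁻¹)⁻¹ = s
    group⟩
  have h1 := h _ hsol hmem (A.map (MulAut.conj g⁻¹).toMonoidHom) (B.map (MulAut.conj g⁻¹).toMonoidHom)
    (map_mono hA) (map_mono hB) (by rw [hcard, hAc]) (by rw [hcard, hBc])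
  exact Subgroup.map_injective (MulAut.conj g⁻¹).injective h1

theorem mem_bad_of_solvable' (hcen : center S = ⊥) {p : ℕ} {y : S} (hy : Uel p y) {A : Subgroup S}
    (hA : A ≤ zpowers y) (hAc : Nat.card A = p) {x : MulAut S} {g : S}
    (h : Group.IsSolvable (closure ({x, MulAut.conj (g * y * g⁻¹)} : Set (MulAut S)))) : g ∈ Bad A x := by
  have hu := hy.conj g
  set M := closure ({x, MulAut.conj (g * y * g⁻¹)} : Set (MulAut S)) with hM
  have hHs : Group.IsSolvable (M.comap (MulAut.conj : S →* MulAut S)) := by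
    let f : M.comap (MulAut.conj : S →* MulAut S) →* M :=
      ((MulAut.conj : S →* MulAut S).comp (M.comap (MulAut.conj : S →* MulAut S)).subtype).codRestrict M fun g => g.2
    refine Group.isSolvable_of_isSolvable_injective (f := f) ?_
    intro a b hab
    exact Subtype.ext (conj_injective hcen (congrArg Subtype.val hab))
  have hxM : x ∈ M := subset_closure (by simp)
  have hyM : MulAut.conj g y ∈ M.comap (MulAut.conj : S →* MulAut S) := by
    show MulAut.conj (g * y * g⁻¹) ∈ M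
    exact subset_closure (by simp)
  have hle : A.map (MulAut.conj g).toMonoidHom ≤ M.comap (MulAut.conj : S →* MulAut S) := by
    rintro _ ⟨u, hu', rfl⟩
    obtain ⟨i, rfl⟩ := mem_zpowers_iff.1 (hA hu')
    have : (MulAut.conj g).toMonoidHom (y ^ i) = (MulAut.conj g y) ^ i := by
      show MulAut.conj g (y ^ i) = _
      rw [map_zpow]
    rw [this]
    exact zpow_mem hyM i
  have hle2 : (A.map (MulAut.conj g).toMonoidHom).map x.toMonoidHom ≤ M.comap (MulAut.conj : S →* MulAut S) := by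
    rintro _ ⟨u, hu', rfl⟩
    have h1 : MulAut.conj u ∈ M := hle hu'
    show MulAut.conj (x u) ∈ M
    have e : (MulAut.conj (x u) : MulAut S) = x * MulAut.conj u * x⁻¹ := by
      ext l
      simp
    rw [e]
    exact mul_mem (mul_mem hxM h1) (inv_mem hxM)
  have hcard : ∀ (B : Subgroup S) (e : MulAut S), Nat.card (B.map e.toMonoidHom) = Nat.card B := fun B e =>
    card_map_of_injective e.injective
  exact hu _ hHs hyM _ _ hle2 hle (by rw [hcard, hcard, hAc]) (by rw [hcard, hAc])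

variable [Finite S]

/-- **The counting criterion.** -/
theorem of_half' (hcen : center S = ⊥) {p : ℕ} {y : S} (hy : Uel p y) {A : Subgroup S}
    (hA : A ≤ zpowers y) (hAc : Nat.card A = p)
    (h : ∀ x : MulAut S, x ≠ 1 → 2 * (Bad A x).ncard < Nat.card S) : AS2 S := by
  intro a b ha hb
  by_contra hcon
  push Not at hcon
  have h1 : Bad A a ∪ Bad A b = Set.univ := by
    rw [Set.eq_univ_iff_forall]
    intro g
    by_cases hg : Group.IsSolvable (closure ({a, MulAut.conj (g * y * g⁻¹)} : Set (MulAut S)))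
    · exact Or.inl (mem_bad_of_solvable' hcen hy hA hAc hg)
    · exact Or.inr (mem_bad_of_solvable' hcen hy hA hAc (hcon _ hg))
  have h2 := Set.ncard_union_le (Bad A a) (Bad A b)
  rw [h1, Set.ncard_univ] at h2
  have h3 := h a ha
  have h4 := h b hb
  omega

/-- the number of automorphisms of a group of prime order -/
theorem card_mulAut {A : Type*} [Group A] {p : ℕ} (hp : p.Prime) (hA : Nat.card A = p) :
    Nat.card (MulAut A) = p - 1 := by
  have : Fact p.Prime := ⟨hp⟩
  have : Finite A := Nat.finite_of_card_ne_zero (by rw [hA]; exact hp.ne_zero)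
  have h1 : IsCyclic A := isCyclic_of_prime_card hA
  have h2 := IsCyclic.card_mulAut A
  rw [h2, hA, Nat.totient_prime hp]

theorem bad_le {p : ℕ} (hp : p.Prime) {A : Subgroup S} (hAc : Nat.card A = p) (x : MulAut S) :
    (Bad A x).ncard ≤ Nat.card (Fx x) * (Nat.card ↥(centralizer (A : Set S)) * (p - 1)) := by
  classical
  rcases Set.eq_empty_or_nonempty (Bad A x) with h | ⟨g, hg⟩
  · rw [h, Set.ncard_empty]
    exact Nat.zero_le _
  · have h1 := mem_bad.1 hg
    rw [← ncard_bad_conj A x g]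
    have : Fintype (MulAut A) := Fintype.ofFinite _
    have h2 := card_bad_le_of_mem h1 Finset.univ (fun m hm _ => Finset.mem_univ _)
    rw [Finset.card_univ, ← Nat.card_eq_fintype_card, card_mulAut hp hAc] at h2
    refine h2.trans (Nat.mul_le_mul_right _ (le_of_eq ?_))
    refine Nat.card_congr
      { toFun := fun u => ⟨g * u * g⁻¹, ?_⟩
        invFun := fun u => ⟨g⁻¹ * u * g, ?_⟩
        left_inv := fun u => Subtype.ext (by show g⁻¹ * (g * u * g⁻¹) * g = u; group)
        right_inv := fun u => Subtype.ext (by show g * (g⁻¹ * u * g) * g⁻¹ = u; group) }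
    · have h3 : ((MulAut.conj g)⁻¹ * x * MulAut.conj g) (u : S) = u := u.2
      show x (g * u * g⁻¹) = g * u * g⁻¹
      have h4 : g⁻¹ * x (g * u * g⁻¹) * g = u := h3
      calc x (g * u * g⁻¹) = g * (g⁻¹ * x (g * u * g⁻¹) * g) * g⁻¹ := by group
        _ = g * u * g⁻¹ := by rw [h4]
    · have h3 : x (u : S) = u := u.2
      show g⁻¹ * x (g * (g⁻¹ * u * g) * g⁻¹) * g = g⁻¹ * u * g
      rw [show g * (g⁻¹ * (u : S) * g) * g⁻¹ = u by group, h3]

/-- **The criterion.** -/
theorem of_uel (hcen : center S = ⊥) {p : ℕ} (hp : p.Prime) {s : S} (hs : Uel p s) {A : Subgroup S}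
    (hA : A ≤ zpowers s) (hAc : Nat.card A = p)
    (hb : ∀ H : Subgroup S, H ≠ ⊤ → 2 * (Nat.card ↥(centralizer (A : Set S)) * (p - 1)) < H.index) : AS2 S := by
  refine of_half' hcen hs hA hAc fun x hx => ?_
  have h1 := bad_le hp hAc x
  have h2 := hb _ (Fx_ne_top hx)
  have h3 := (Fx x).card_mul_index
  have h4 : 0 < Nat.card (Fx x) := Nat.card_pos
  calc 2 * (Bad A x).ncard ≤ 2 * (Nat.card (Fx x) * (Nat.card ↥(centralizer (A : Set S)) * (p - 1))) :=
        Nat.mul_le_mul_left _ h1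
    _ = Nat.card (Fx x) * (2 * (Nat.card ↥(centralizer (A : Set S)) * (p - 1))) := by ring
    _ < Nat.card (Fx x) * (Fx x).index := Nat.mul_lt_mul_of_pos_left h2 h4
    _ = Nat.card S := h3

end Cfsg.Agent.H99.AS
end

-- part: H99/AS/Thirteen
section
prune_inst 0x4157071444fe202000000058661201c56fa000500004b8c000c810e040e88ee620d822e60848010035a2a818500350048110000900040000004000400011d01a080a956063350ad0cb6001f000004000000000000000000000000000000010004000000000
set_option linter.all false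
open scoped Cfsg.Agent.FastGrp

-- part: H99/AS/Gen
section
/-!
# S3943: elements of composite order (helper99), general lemmas

* `Elc p s y` : every element of order `p` of a solvable subgroup containing `s` lies in `⟨y⟩`; `Elc.map` (quotients);
* `cent_of_order` : `y` of order `p` centralises the `t`-group `T` if `p` does not divide the `t ^ j - 1`;
* `cent_two` : the `A × B` lemma for an involution `z` commuting with `y`, with `y` trivial on `[V, z]`.
-/

set_option autoImplicit false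
set_option linter.unusedSectionVars false

namespace Cfsg.Agent.H99.AS

open Module Subgroup Cfsg.Agent.H518.DghpFix Cfsg.Agent.H518.SU

universe u v w

/-- every element of order `p` of a solvable subgroup containing `s` lies in `⟨y⟩` -/
def Elc {K : Type*} [Group K] (p : ℕ) (s y : K) : Prop :=
  ∀ M : Subgroup K, Group.IsSolvable M → s ∈ M → ∀ u ∈ M, orderOf u = p → u ∈ Subgroup.zpowers y

theorem Elc.map {G : Type u} {K : Type v} [Group G] [Group K] {p : ℕ} (hp : p.Prime) {s y : G} (h : Elc p s y)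
    (π : G →* K) (hπ : Function.Surjective π) (hsol : Group.IsSolvable π.ker) (hker : ¬ p ∣ Nat.card π.ker) :
    Elc p (π s) (π y) := by
  intro M hM hyM u huM hu
  obtain ⟨g, rfl⟩ := hπ u
  set n := Nat.card π.ker with hn
  have h1 : g ^ p ∈ π.ker := by
    rw [MonoidHom.mem_ker, map_pow, ← hu, pow_orderOf_eq_one]
  have h2 : (g ^ n) ^ p = 1 := by
    rw [← pow_mul, mul_comm, pow_mul]
    have : (⟨g ^ p, h1⟩ : π.ker) ^ n = 1 := pow_card_eq_one'
    exact congrArg Subtype.val this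
  have hcop : Nat.Coprime p n := (Nat.Prime.coprime_iff_not_dvd hp).2 hker
  have h3 : orderOf (π g ^ n) = p := by
    rw [Nat.Coprime.orderOf_pow (by rw [hu]; exact hcop), hu]
  have h4 : g ^ n ≠ 1 := by
    intro h
    rw [← map_pow, h, map_one, orderOf_one] at h3
    exact hp.one_lt.ne h3
  have : Fact p.Prime := ⟨hp⟩
  have h5 : orderOf (g ^ n) = p := orderOf_eq_prime h2 h4
  have hsolM : Group.IsSolvable (M.comap π) := by
    let f : M.comap π →* M := (π.comp (M.comap π).subtype).codRestrict M (fun x => x.2)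
    have hf : f.ker ≤ ((π.ker).subgroupOf (M.comap π)) := by
      intro x hx
      rw [MonoidHom.mem_ker] at hx
      rw [Subgroup.mem_subgroupOf, MonoidHom.mem_ker]
      exact congrArg Subtype.val hx
    have hk : Group.IsSolvable f.ker := by
      exact Group.isSolvable_of_isSolvable_injective (f := (
        { toFun := fun x => ⟨x.1.1, by
            have := hf x.2
            rwa [Subgroup.mem_subgroupOf] at this⟩
          map_one' := rfl
          map_mul' := fun _ _ => rfl } : f.ker →* π.ker)) (fun a b hab => by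
            apply Subtype.ext
            apply Subtype.ext
            exact congrArg (Subtype.val : π.ker → G) hab)
    exact Group.isSolvable_of_ker_le_range (f.ker.subtype) f (by rw [Subgroup.range_subtype])
  have h6 := h (M.comap π) hsolM hyM (g ^ n) (by
    show π (g ^ n) ∈ M
    rw [map_pow]
    exact M.pow_mem huM n) h5
  obtain ⟨k, hk⟩ := Subgroup.mem_zpowers_iff.1 h6
  have h7 : π g ^ n ∈ Subgroup.zpowers (π y) := by
    refine Subgroup.mem_zpowers_iff.2 ⟨k, ?_⟩
    rw [← map_zpow, hk, map_pow]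
  have hgf : π g ∈ Subgroup.zpowers (π g ^ n) := by
    rw [mem_zpowers_pow_iff, hu]
    exact hcop.symm
  exact (Subgroup.zpowers_le.2 h7) hgf

/-- from `Elc` to `Uel` -/
theorem Elc.uel {K : Type u} [Group K] {p : ℕ} (hp : p.Prime) {s y : K} (hy : orderOf y = p) (h : Elc p s y) :
    Uel p s := by
  intro M hM hs
  have hpf : Fact p.Prime := ⟨hp⟩
  have hyf : Finite (zpowers y) := Nat.finite_of_card_ne_zero (by rw [Nat.card_zpowers, hy]; exact hp.ne_zero)
  have hA : ∀ A : Subgroup K, A ≤ M → Nat.card A = p → A = zpowers y := by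
    intro A hA hAc
    have hle : A ≤ zpowers y := by
      intro a ha
      by_cases ha1 : a = 1
      · rw [ha1]; exact one_mem _
      have hAf : Finite A := Nat.finite_of_card_ne_zero (by rw [hAc]; exact hp.ne_zero)
      have h1 : orderOf a = p := by
        have h2 : orderOf a ∣ p := by
          rw [← hAc, ← Subgroup.orderOf_mk a ha]; exact orderOf_dvd_natCard _
        rcases (Nat.dvd_prime hp).1 h2 with h | h
        · exact absurd (orderOf_eq_one_iff.1 h) ha1
        · exact h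
      exact h M hM hs a (hA ha) h1
    exact Subgroup.eq_of_le_of_card_ge hle (by rw [Nat.card_zpowers, hy, hAc])
  intro A B hAM hBM hAc hBc
  rw [hA A hAM hAc, hA B hBM hBc]

theorem fix_modEq' {K : Type v} [Group K] [Finite K] {r : ℕ} (hr : r.Prime) {y : K} (hy : y ^ r = 1) {S : Set K}
    (hS : ∀ s ∈ S, y * s * y⁻¹ ∈ S) : S.ncard ≡ {s | s ∈ S ∧ y * s = s * y}.ncard [MOD r] := by
  classical
  have := Fact.mk hr
  have : Fintype ↥S := Fintype.ofFinite _
  let f : Function.End ↥S := fun s => ⟨y * s * y⁻¹, hS s s.2⟩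
  have hfn : ∀ (n : ℕ) (s : ↥S), ((f ^ n) s : K) = y ^ n * s * (y ^ n)⁻¹ := by
    intro n
    induction n with
    | zero =>
      intro s
      rw [pow_zero, pow_zero, one_mul, inv_one, mul_one]
      rfl
    | succ n ih =>
      intro s
      rw [pow_succ' f]
      change y * ((f ^ n) s : K) * y⁻¹ = _
      rw [ih, pow_succ' y]
      group
  have hf : f ^ r ^ 1 = 1 := by
    funext s
    apply Subtype.ext
    rw [hfn, pow_one, hy]
    change 1 * (s : K) * 1⁻¹ = s
    group
  have h := Equiv.Perm.card_fixedPoints_modEq hf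
  have h1 : Fintype.card ↥S = S.ncard := by
    rw [← Nat.card_eq_fintype_card]; rfl
  have h2 : Fintype.card ↥(Function.fixedPoints f) = {s | s ∈ S ∧ y * s = s * y}.ncard := by
    rw [← Nat.card_eq_fintype_card]
    have h3 : {s | s ∈ S ∧ y * s = s * y} = Subtype.val '' (Function.fixedPoints f) := by
      ext x
      constructor
      · rintro ⟨hx, hyx⟩
        refine ⟨⟨x, hx⟩, Subtype.ext ?_, rfl⟩
        change y * x * y⁻¹ = x
        rw [hyx, mul_inv_cancel_right]
      · rintro ⟨⟨z, hz⟩, hfz, rfl⟩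
        have h4 : y * z * y⁻¹ = z := congrArg Subtype.val hfz
        exact ⟨hz, mul_inv_eq_iff_eq_mul.1 h4⟩
    rw [h3, Set.ncard_image_of_injective _ Subtype.val_injective]
    rfl
  rw [h1, h2] at h
  exact h

/-- `y` of prime order `p` centralises a `t`-group of order `t ^ k` which it normalises if `p ∤ t ^ j - 1` for `j ≤ k`. -/
theorem cent_of_order {G : Type u} [Group G] [Finite G] {p : ℕ} (hp : p.Prime) {y : G} (hy : orderOf y = p)
    {t k : ℕ} (ht : t.Prime) (htp : t ≠ p) {T : Subgroup G} (hT : Nat.card T = t ^ k)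
    (hyT : ∀ u ∈ T, y * u * y⁻¹ ∈ T) (h : ∀ j, 1 ≤ j → j ≤ k → ¬ p ∣ t ^ j - 1) : ∀ u ∈ T, y * u = u * y := by
  have h1 := fix_modEq' hp (y := y) (by rw [← hy, pow_orderOf_eq_one]) (S := (T : Set G)) hyT
  have h2 : {s | s ∈ (T : Set G) ∧ y * s = s * y} = ((T ⊓ centralizer ({y} : Set G) : Subgroup G) : Set G) := by
    ext s
    rw [SetLike.mem_coe, mem_inf, mem_centralizer_singleton_iff]
    exact ⟨fun h => ⟨h.1, h.2.symm⟩, fun h => ⟨h.1, h.2.symm⟩⟩
  have h3 : Nat.card ↥(T ⊓ centralizer ({y} : Set G)) ∣ t ^ k := hT ▸ Subgroup.card_dvd_of_le inf_le_left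
  obtain ⟨c, hc, hc'⟩ := (Nat.dvd_prime_pow ht).1 h3
  rw [h2] at h1
  have h4 : ((T : Set G)).ncard = t ^ k := by rw [← hT]; rfl
  have h5 : (((T ⊓ centralizer ({y} : Set G) : Subgroup G) : Set G)).ncard = t ^ c := by rw [← hc']; rfl
  rw [h4, h5] at h1
  have hck : c = k := by
    by_contra hne
    have hlt : c < k := lt_of_le_of_ne hc hne
    have h6 : p ∣ t ^ k - t ^ c := (Nat.modEq_iff_dvd' (Nat.pow_le_pow_right ht.pos hc)).1 h1.symm
    have h7 : t ^ k - t ^ c = t ^ c * (t ^ (k - c) - 1) := by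
      rw [Nat.mul_sub, mul_one, ← pow_add, Nat.add_sub_cancel' hc]
    rw [h7] at h6
    rcases (Nat.Prime.dvd_mul hp).1 h6 with h8 | h8
    · exact htp ((Nat.prime_dvd_prime_iff_eq hp ht).1 (hp.dvd_of_dvd_pow h8)).symm
    · exact h (k - c) (by omega) (by omega) h8
  have h6 : T ⊓ centralizer ({y} : Set G) = T :=
    Subgroup.eq_of_le_of_card_ge inf_le_left (by rw [hT, hc', hck])
  intro u hu
  rw [← h6] at hu
  exact (mem_centralizer_singleton_iff.1 hu.2).symm

/-- the restriction of a representation to an invariant subspace -/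
noncomputable def resHom {F : Type u} [Field F] {V : Type v} [AddCommGroup V] [Module F V] {H : Type w} [Group H]
    (ρ : H →* (V →ₗ[F] V)) (W : Submodule F V) (hW : ∀ h, ∀ v ∈ W, ρ h v ∈ W) : H →* (W →ₗ[F] W) where
  toFun h := (ρ h).restrict (hW h)
  map_one' := by
    ext v
    simp only [_root_.map_one, _root_.LinearMap.coe_restrict_apply, _root_.Module.End.one_apply]
  map_mul' a b := by
    ext v
    simp only [_root_.map_mul, _root_.LinearMap.coe_restrict_apply, _root_.Module.End.mul_apply]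

/-- `centralize_rep` for a representation with a kernel, `y` of prime order. -/
theorem centralize_rep' {F : Type u} [Field F] {V : Type v} [AddCommGroup V] [Module F V] [FiniteDimensional F V]
    {H : Type w} [Group H] [Finite H] (ρ : H →* (V →ₗ[F] V)) {p t : ℕ} (hp : p.Prime) (hp2 : p ≠ 2)
    (ht : t.Prime) (htp : t ≠ p) (htF : (t : F) ≠ 0) {y : H} (hy : y ^ p = 1) {T : Subgroup H} (hT : IsPGroup t T)
    (hyT : ∀ u ∈ T, y * u * y⁻¹ ∈ T)
    (hn : finrank F V + 1 < p ∨ (finrank F V + 1 = p ∧ ¬ (t = 2 ∧ ∃ k, finrank F V = 2 ^ k))) :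
    ∀ u ∈ T, ρ (y * u) = ρ (u * y) := by
  set f := ρ.toHomUnits with hf
  have hfv : ∀ h, ((f h : (V →ₗ[F] V)ˣ) : V →ₗ[F] V) = ρ h := fun h => rfl
  have hfin : Finite f.range := Finite.of_surjective f.rangeRestrict f.rangeRestrict_surjective
  set φ : f.range →* (V →ₗ[F] V) := (Units.coeHom _).comp f.range.subtype with hφ
  have hφi : Function.Injective φ := Units.val_injective.comp f.range.subtype_injective
  set y' : f.range := ⟨f y, y, rfl⟩ with hy'
  have hyp : y' ^ p = 1 := Subtype.ext (by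
    show (f y) ^ p = 1
    rw [← map_pow, hy, map_one])
  intro u hu
  rcases (Nat.dvd_prime hp).1 (orderOf_dvd_of_pow_eq_one hyp) with h | h
  · have h1 : f y = 1 := congrArg Subtype.val (orderOf_eq_one_iff.1 h)
    have h2 : ρ y = 1 := by rw [← hfv, h1]; rfl
    rw [map_mul, map_mul, h2, one_mul, mul_one]
  · have h3 := centralize_rep (a := 1) φ hφi hp hp2 le_rfl ht htp htF (y := y') (by rw [h, pow_one])
      (T := T.map f.rangeRestrict) (hT.map _) ?_ (by simpa only [_root_.tsub_self, _root_.pow_zero, _root_.pow_one, _root_.not_and, _root_.not_exists, _root_.true_and] using hn) (f.rangeRestrict u) ⟨u, hu, rfl⟩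
    · rw [Nat.sub_self, pow_zero, pow_one] at h3
      have h4 : f y * f u = f u * f y := congrArg Subtype.val h3
      rw [← hfv, ← hfv, map_mul, map_mul, h4]
    · rintro _ ⟨x, hx, rfl⟩
      exact ⟨y * x * y⁻¹, hyT x hx, Subtype.ext (by
        show f (y * x * y⁻¹) = f y * f x * (f y)⁻¹
        rw [map_mul, map_mul, map_inv])⟩

/-- **The `A × B` lemma for an involution `z`** commuting with `y` (of prime order `p`) which is trivial on the
`-1`-eigenspace of `z`. -/
theorem cent_two {F : Type u} [Field F] {V : Type v} [AddCommGroup V] [Module F V] [FiniteDimensional F V]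
    {G : Type w} [Group G] [Finite G] (φ : G →* (V →ₗ[F] V)) (hφ : Function.Injective φ) {p : ℕ} (hp : p.Prime)
    (hp2 : p ≠ 2) (h2F : (2 : F) ≠ 0) {y z : G} (hy : orderOf y = p) (hz : z * z = 1) (hyz : y * z = z * y)
    (hV2 : ∀ v, φ z v = -v → φ y v = v)
    (hn : finrank F (fixS (φ z)) + 1 < p ∨
      (finrank F (fixS (φ z)) + 1 = p ∧ ¬ (∃ k, finrank F (fixS (φ z)) = 2 ^ k)))
    {T : Subgroup G} (hT : IsPGroup 2 T) (hyT : ∀ u ∈ T, y * u * y⁻¹ ∈ T) (hzT : ∀ u ∈ T, z * u * z⁻¹ ∈ T) :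
    ∀ u ∈ T, y * u = u * y := by
  have : Fact (Nat.Prime 2) := ⟨Nat.prime_two⟩
  have hyp : y ^ p = 1 := by rw [← hy, pow_orderOf_eq_one]
  -- the centraliser of `z` in `T`
  have hR : ∀ u ∈ T, u * z = z * u → y * u = u * y := by
    intro u hu huz
    set H : Subgroup G := centralizer ({z} : Set G) with hH
    have hW : ∀ h : H, ∀ v ∈ fixS (φ z), (φ.comp H.subtype) h v ∈ fixS (φ z) := by
      intro h v hv
      have h1 : (h : G) * z = z * h := mem_centralizer_singleton_iff.1 h.2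
      show φ z (φ (h : G) v) = φ (h : G) v
      rw [← Module.End.mul_apply, ← map_mul, ← h1, map_mul, Module.End.mul_apply]
      exact congrArg _ hv
    have hyH : y ∈ H := mem_centralizer_singleton_iff.2 hyz
    have huH : u ∈ H := mem_centralizer_singleton_iff.2 huz
    have h1 := centralize_rep' (resHom (φ.comp H.subtype) (fixS (φ z)) hW) hp hp2 Nat.prime_two (Ne.symm hp2)
      (by exact_mod_cast h2F) (y := ⟨y, hyH⟩) (Subtype.ext hyp) (T := T.subgroupOf H)
      (hT.comap_of_injective _ H.subtype_injective) ?_ ?_ ⟨u, huH⟩ (mem_subgroupOf.2 hu)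
    · apply hφ
      ext v
      -- decompose `v`
      have h3 : φ z (φ z v) = v := by
        rw [← Module.End.mul_apply, ← map_mul, hz, map_one]; rfl
      set a := v + φ z v with ha
      set b := v - φ z v with hb
      have haz : a ∈ fixS (φ z) := by
        show φ z a = a
        rw [ha, map_add, h3, add_comm]
      have hbz : φ z b = -b := by
        rw [hb, map_sub, h3, neg_sub]
      have hab : (2 : F) • v = a + b := by
        rw [ha, hb, two_smul]; abel
      have e1 : φ (y * u) a = φ (u * y) a := by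
        have h4 := LinearMap.congr_fun h1 ⟨a, haz⟩
        exact congrArg Subtype.val h4
      have e2 : φ (y * u) b = φ (u * y) b := by
        rw [map_mul, map_mul, Module.End.mul_apply, Module.End.mul_apply, hV2 b hbz]
        apply hV2
        rw [← Module.End.mul_apply, ← map_mul, ← huz, map_mul, Module.End.mul_apply, hbz, map_neg]
      have e3 : (2 : F) • φ (y * u) v = (2 : F) • φ (u * y) v := by
        rw [← map_smul, ← map_smul, hab, map_add (φ (y * u)) a b, map_add (φ (u * y)) a b, e1, e2]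
      exact smul_right_injective V h2F e3
    · intro x hx
      exact mem_subgroupOf.2 (hyT _ (mem_subgroupOf.1 hx))
    · rcases hn with h | ⟨h, h'⟩
      · exact Or.inl h
      · exact Or.inr ⟨h, fun h'' => h' h''.2⟩
  have h1 : y ∈ centralizer (T : Set G) := by
    refine Cfsg.Agent.H225.AxB.axb (p := 2) (V := T) (D := zpowers z) hT ?_ ?_ ?_ ?_ ?_ ?_
    · rw [zpowers_le]
      exact mem_normalizer_fintype hzT
    · intro x hx
      obtain ⟨i, rfl⟩ := mem_zpowers_iff.1 hx
      refine ⟨1, ?_⟩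
      have : (z ^ i) ^ 2 ^ 1 = 1 := by
        rw [pow_one, ← zpow_natCast, zpow_comm, zpow_natCast, pow_two, hz, one_zpow]
      rw [this]
      exact one_mem _
    · exact mem_normalizer_fintype hyT
    · rw [hy]
      exact (Nat.coprime_primes hp Nat.prime_two).2 hp2
    · intro x hx
      obtain ⟨i, rfl⟩ := mem_zpowers_iff.1 hx
      have h2 : Commute y z := hyz
      have h3 : z ^ i * y * (z ^ i)⁻¹ * y⁻¹ = 1 := by
        rw [← (h2.zpow_right i).eq]; group
      rw [h3]
      exact one_mem _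
    · intro v hv hc
      exact hR v hv (hc z (mem_zpowers z)).symm
  intro u hu
  exact (mem_centralizer_iff.1 h1 u hu).symm

/-- **`Elc` from centralised normal `t`-subgroups.** -/
theorem elc_of {G : Type u} [Group G] [Finite G] {p : ℕ} (hp : p.Prime) (hp2 : p ≠ 2) {y z : G} (hy : orderOf y = p)
    (hzz : z * z = 1) (hyz : y * z = z * y)
    (h1 : ∀ M : Subgroup G, Group.IsSolvable M → y ∈ M → z ∈ M → ∀ t : ℕ, t.Prime → t ≠ p → ∀ T : Subgroup G, T ≤ M →
      (∀ m ∈ M, ∀ x ∈ T, m * x * m⁻¹ ∈ T) → IsPGroup t T → ∀ u ∈ T, y * u = u * y)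
    (h2 : ∀ u v : G, orderOf u = p → orderOf v = p → u * v = v * u → v ∈ Subgroup.zpowers u) : Elc p (y * z) y := by
  have hc : Commute y z := hyz
  have hyp : y ^ p = 1 := by rw [← hy, pow_orderOf_eq_one]
  have hz2 : z ^ 2 = 1 := by rw [pow_two, hzz]
  intro M hM hs
  obtain ⟨n, hn⟩ : ∃ n, p = 2 * n + 1 := hp.odd_of_ne_two hp2
  have hyM : y ∈ M := by
    have h3 := M.pow_mem hs (p + 1)
    rw [hc.mul_pow, hn, show 2 * n + 1 + 1 = 2 * (n + 1) by ring, pow_mul z, hz2, one_pow, mul_one,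
      show 2 * (n + 1) = p + 1 by omega, pow_succ, hyp, one_mul] at h3
    exact h3
  have hzM : z ∈ M := by
    have h3 := M.mul_mem (M.inv_mem hyM) hs
    rwa [inv_mul_cancel_left] at h3
  have hy' : orderOf (⟨y, hyM⟩ : M) = p ^ 1 := by rw [Subgroup.orderOf_mk, hy, pow_one]
  have key : ∀ u : M, orderOf u = p → u ∈ Subgroup.zpowers (⟨y, hyM⟩ : M) := by
    refine solv_unique hp le_rfl hy' ?_ ?_
    · intro t ht htp T hTn hT u hu
      rw [Nat.sub_self, pow_zero, pow_one]
      apply Subtype.ext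
      refine h1 M hM hyM hzM t ht htp (T.map M.subtype) (Subgroup.map_subtype_le T) ?_ (hT.map _) (u : G)
        ⟨u, hu, rfl⟩
      rintro m hm _ ⟨x, hx, rfl⟩
      exact ⟨⟨m, hm⟩ * x * ⟨m, hm⟩⁻¹, hTn.conj_mem x hx _, rfl⟩
    · intro u v hu hv huv
      have h3 := h2 u v (by rw [Subgroup.orderOf_coe, hu]) (by rw [Subgroup.orderOf_coe, hv])
        (congrArg Subtype.val huv)
      obtain ⟨i, hi⟩ := Subgroup.mem_zpowers_iff.1 h3
      exact Subgroup.mem_zpowers_iff.2 ⟨i, Subtype.ext hi⟩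
  intro u hu ho
  obtain ⟨i, hi⟩ := Subgroup.mem_zpowers_iff.1 (key ⟨u, hu⟩ (by rw [Subgroup.orderOf_mk, ho]))
  exact Subgroup.mem_zpowers_iff.2 ⟨i, congrArg Subtype.val hi⟩

/-- the data of a row from `Elc` in a central extension -/
theorem row_of_elc {G : Type u} [Group G] [Finite G] {p : ℕ} (hp : p.Prime) (hp5 : 5 ≤ p) {y z : G}
    (hy : orderOf y = p) (hzz : z * z = 1) (hyz : y * z = z * y) (hel : Elc p (y * z) y)
    (hcz : ¬ p ∣ Nat.card (Subgroup.center G)) :
    orderOf (QuotientGroup.mk' (Subgroup.center G) y) = p ∧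
      QuotientGroup.mk' (Subgroup.center G) y ∈ Subgroup.zpowers (QuotientGroup.mk' (Subgroup.center G) (y * z)) ∧
      Uel p (QuotientGroup.mk' (Subgroup.center G) (y * z)) := by
  set π := QuotientGroup.mk' (Subgroup.center G) with hπ
  have hk : π.ker = Subgroup.center G := QuotientGroup.ker_mk' _
  have hk' : ¬ p ∣ Nat.card π.ker := by rwa [hk]
  have hks : Group.IsSolvable π.ker := by
    rw [hk]
    exact Group.isSolvable_of_comm fun a b => Subtype.ext ((Subgroup.mem_center_iff.1 b.2) a)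
  have hel' : Elc p (π (y * z)) (π y) := hel.map hp π (QuotientGroup.mk'_surjective _) hks hk'
  have hoy : orderOf (π y) = p := by
    have := orderOf_map (a := 1) hp (by rw [hy, pow_one]) π hk'
    rwa [pow_one] at this
  refine ⟨hoy, ?_, hel'.uel hp hoy⟩
  have hc : Commute y z := hyz
  have hyp : y ^ p = 1 := by rw [← hy, pow_orderOf_eq_one]
  have hz2 : z ^ 2 = 1 := by rw [pow_two, hzz]
  obtain ⟨n, hn⟩ : ∃ n, p = 2 * n + 1 := hp.odd_of_ne_two (by omega)
  refine Subgroup.mem_zpowers_iff.2 ⟨((p + 1 : ℕ) : ℤ), ?_⟩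
  rw [← map_zpow, zpow_natCast, hc.mul_pow, hn, show 2 * n + 1 + 1 = 2 * (n + 1) by ring, pow_mul z, hz2, one_pow,
    mul_one, show 2 * (n + 1) = p + 1 by omega, pow_succ, hyp, one_mul]

end Cfsg.Agent.H99.AS
end

-- part: H99/AS/Thirteen
section
/-!
# S3943 (helper99): subgroups of order 169 normalised by an element of order 7, in dimension 8 over `F₅`
-/

set_option autoImplicit false
set_option linter.unusedSectionVars false

namespace Cfsg.Agent.H99.AS

open Module Subgroup Cfsg.Agent.H518.DghpFix Cfsg.Agent.H518.SU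

universe u v w

section

variable {F : Type u} [Field F] {V : Type v} [AddCommGroup V] [Module F V] {G : Type w} [Group G]

/-- the fixed space of a subgroup -/
def fixG (φ : G →* (V →ₗ[F] V)) (A : Subgroup G) : Submodule F V where
  carrier := {v | ∀ a ∈ A, φ a v = v}
  add_mem' := fun {v w} hv hw a ha => by rw [map_add, hv a ha, hw a ha]
  zero_mem' := fun a _ => map_zero _
  smul_mem' := fun c v hv a ha => by rw [map_smul, hv a ha]

theorem fixG_sup (φ : G →* (V →ₗ[F] V)) (A B : Subgroup G) : fixG φ (A ⊔ B) = fixG φ A ⊓ fixG φ B := by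
  ext v
  constructor
  · intro h
    exact ⟨fun a ha => h a (Subgroup.mem_sup_left ha), fun a ha => h a (Subgroup.mem_sup_right ha)⟩
  · rintro ⟨h1, h2⟩
    let S : Subgroup G :=
      { carrier := {g | φ g v = v}
        one_mem' := by
          show φ 1 v = v
          rw [map_one]; rfl
        mul_mem' := fun {a b} ha hb => by
          show φ (a * b) v = v
          rw [map_mul, Module.End.mul_apply, show φ b v = v from hb, show φ a v = v from ha]
        inv_mem' := fun {a} ha => by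
          have ha' : φ a v = v := ha
          show φ a⁻¹ v = v
          nth_rewrite 1 [← ha']
          rw [← Module.End.mul_apply, ← map_mul, inv_mul_cancel, map_one]; rfl }
    have h3 : A ⊔ B ≤ S := sup_le (fun a ha => h1 a ha) (fun b hb => h2 b hb)
    exact fun g hg => h3 hg

/-- a free action outside the fixed space -/
theorem card_dvd_of_free [Finite V] (φ : G →* (V →ₗ[F] V)) (T : Subgroup G)
    (h : ∀ v, v ∉ fixG φ T → ∀ t ∈ T, φ t v = v → t = 1) :
    Nat.card T ∣ Nat.card V - Nat.card (fixG φ T) := by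
  classical
  let _ : MulAction T {v : V // v ∉ fixG φ T} :=
    { smul := fun t v => ⟨φ t v, fun hv => by
        apply v.2
        have h1 := hv (t : G)⁻¹ (inv_mem t.2)
        rw [← Module.End.mul_apply, ← map_mul, inv_mul_cancel, map_one, Module.End.one_apply] at h1
        rw [h1]
        exact hv⟩
      one_smul := fun v => Subtype.ext (by
        show φ ((1 : T) : G) v = v
        rw [Subgroup.coe_one, map_one]; rfl)
      mul_smul := fun a b v => Subtype.ext (by
        show φ ((a * b : T) : G) v = φ a (φ b v)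
        rw [Subgroup.coe_mul, map_mul]; rfl) }
  have hst : ∀ v : {v : V // v ∉ fixG φ T}, MulAction.stabilizer T v = ⊥ := by
    intro v
    rw [Subgroup.eq_bot_iff_forall]
    intro t ht
    have h1 : t • v = v := ht
    exact Subtype.ext (h v v.2 t t.2 (congrArg Subtype.val h1))
  have h1 := Nat.card_congr (MulAction.selfEquivOrbitsQuotientProd hst)
  rw [Nat.card_prod] at h1
  have h2 : Nat.card V = Nat.card (fixG φ T) + Nat.card {v : V // v ∉ fixG φ T} := by
    rw [← Nat.card_sum]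
    exact Nat.card_congr (Equiv.sumCompl (fun v => v ∈ fixG φ T)).symm
  rw [h2, Nat.add_sub_cancel_left, h1]
  exact Dvd.intro_left _ rfl

theorem orderOf_five_thirteen : orderOf ((5 : ℕ) : ZMod 13) = 4 := by
  rw [orderOf_eq_iff (by norm_num)]
  refine ⟨by decide, ?_⟩
  intro m hm h0
  have : m = 1 ∨ m = 2 ∨ m = 3 := by omega
  rcases this with rfl | rfl | rfl <;> decide

/-- two subgroups of order 13 generate -/
theorem sup_eq_of_card {T B C : Subgroup G} (hT : Nat.card T = 13 ^ 2) (hB : B ≤ T) (hC : C ≤ T)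
    (hBc : Nat.card B = 13) (hCc : Nat.card C = 13) (hne : B ≠ C) : B ⊔ C = T := by
  have hTf : Finite T := Nat.finite_of_card_ne_zero (by rw [hT]; norm_num)
  have hle : B ⊔ C ≤ T := sup_le hB hC
  have hSf : Finite ↥(B ⊔ C) := Finite.of_injective _ (Subgroup.inclusion_injective hle)
  have h1 : Nat.card ↥(B ⊔ C) ∣ 13 ^ 2 := hT ▸ Subgroup.card_dvd_of_le hle
  have h2 : Nat.card B ∣ Nat.card ↥(B ⊔ C) := Subgroup.card_dvd_of_le le_sup_left
  obtain ⟨j, hj, hj'⟩ := (Nat.dvd_prime_pow (by norm_num : Nat.Prime 13)).1 h1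
  have hj2 : j = 2 := by
    by_contra hcon
    have hj1 : j ≤ 1 := by omega
    have h3 : Nat.card ↥(B ⊔ C) ≤ 13 := by
      rw [hj']
      calc 13 ^ j ≤ 13 ^ 1 := Nat.pow_le_pow_right (by norm_num) hj1
        _ = 13 := by norm_num
    have h4 : B = B ⊔ C := Subgroup.eq_of_le_of_card_ge le_sup_left (by rw [hBc]; exact h3)
    have h5 : C = B ⊔ C := Subgroup.eq_of_le_of_card_ge le_sup_right (by rw [hCc]; exact h3)
    exact hne (h4.trans h5.symm)
  exact Subgroup.eq_of_le_of_card_ge hle (by rw [hT, hj', hj2])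

variable [Fintype F] [FiniteDimensional F V]

theorem finrank_fixG_ge (hF : Fintype.card F = 5) (φ : G →* (V →ₗ[F] V)) {T B : Subgroup G}
    (hT : Nat.card T = 13 ^ 2) (hab : ∀ t ∈ T, ∀ u ∈ T, t * u = u * t) (hB : B ≤ T) (hBc : Nat.card B = 13)
    {v : V} (hv : v ∈ fixG φ B) (hvT : v ∉ fixG φ T) : finrank F (fixG φ T) + 4 ≤ finrank F (fixG φ B) := by
  have hTf : Finite T := Nat.finite_of_card_ne_zero (by rw [hT]; norm_num)
  have hp : Nat.Prime 13 := by norm_num
  have hBT : B ≠ T := by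
    intro h
    exact hvT (h ▸ hv)
  obtain ⟨b, hb, hbB⟩ : ∃ b ∈ T, b ∉ B := by
    by_contra hcon
    push Not at hcon
    exact hBT (le_antisymm hB hcon)
  -- fixed by `B` and `b`
  have hsup : B ⊔ zpowers b = T := by
    have hle : B ⊔ zpowers b ≤ T := sup_le hB (zpowers_le.2 hb)
    have hSf : Finite ↥(B ⊔ zpowers b) := Finite.of_injective _ (Subgroup.inclusion_injective hle)
    have h1 : Nat.card ↥(B ⊔ zpowers b) ∣ 13 ^ 2 := hT ▸ Subgroup.card_dvd_of_le hle
    obtain ⟨j, hj, hj'⟩ := (Nat.dvd_prime_pow hp).1 h1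
    have hj2 : j = 2 := by
      by_contra hcon
      have hj1 : j ≤ 1 := by omega
      have h3 : Nat.card ↥(B ⊔ zpowers b) ≤ 13 := by
        rw [hj']
        calc 13 ^ j ≤ 13 ^ 1 := Nat.pow_le_pow_right (by norm_num) hj1
          _ = 13 := by norm_num
      have h4 : B = B ⊔ zpowers b := Subgroup.eq_of_le_of_card_ge le_sup_left (by rw [hBc]; exact h3)
      apply hbB
      rw [h4]
      exact Subgroup.mem_sup_right (mem_zpowers b)
    exact Subgroup.eq_of_le_of_card_ge hle (by rw [hT, hj', hj2])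
  have hinf : fixG φ B ⊓ fixS (φ b) = fixG φ T := by
    rw [← hsup, fixG_sup]
    apply le_antisymm
    · refine le_inf inf_le_left ?_
      rintro w ⟨-, hw⟩ g hg
      obtain ⟨i, rfl⟩ := mem_zpowers_iff.1 hg
      have h1 : φ b w = w := hw
      have h2 : w ∈ fixG φ (zpowers b) := by
        let S : Subgroup G :=
          { carrier := {g | φ g w = w}
            one_mem' := by
              show φ 1 w = w
              rw [map_one]; rfl
            mul_mem' := fun {a c} ha hc => by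
              show φ (a * c) w = w
              rw [map_mul, Module.End.mul_apply, show φ c w = w from hc, show φ a w = w from ha]
            inv_mem' := fun {a} ha => by
              have ha' : φ a w = w := ha
              show φ a⁻¹ w = w
              nth_rewrite 1 [← ha']
              rw [← Module.End.mul_apply, ← map_mul, inv_mul_cancel, map_one]; rfl }
        have h3 : zpowers b ≤ S := zpowers_le.2 h1
        exact fun g hg => h3 hg
      exact h2 _ hg
    · rintro w ⟨h1, h2⟩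
      exact ⟨h1, h2 b (mem_zpowers b)⟩
  have hb13 : φ b ^ 13 ^ 2 = 1 := by
    rw [← map_pow]
    have h1 : (⟨b, hb⟩ : T) ^ 13 ^ 2 = 1 := by rw [← hT]; exact pow_card_eq_one'
    have h2 : b ^ 13 ^ 2 = 1 := by simpa only [_root_.Nat.reducePow, _root_.SubmonoidClass.mk_pow, _root_.OneMemClass.coe_one] using congrArg Subtype.val h1
    rw [h2, map_one]
  have h1 := finrank_fix (f := φ b) hp (by rw [hF]; norm_num) hb13 (fixG φ B) (fun w hw a ha => by
    rw [← Module.End.mul_apply, ← map_mul, hab a (hB ha) b hb, map_mul, Module.End.mul_apply, hw a ha])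
  rw [hinf, hF, orderOf_five_thirteen] at h1
  have h2 : finrank F (fixG φ T) < finrank F (fixG φ B) := by
    apply Submodule.finrank_lt_finrank_of_lt
    refine lt_of_le_of_ne (fun w hw a ha => hw a (hB ha)) ?_
    intro h
    exact hvT (h ▸ hv)
  obtain ⟨m, hm⟩ := h1
  rcases Nat.eq_zero_or_pos m with h | h
  · rw [h] at hm; omega
  · omega

/-- **Subgroups of order 169.** -/
theorem cent_169 [Finite G] (hF : Fintype.card F = 5) (φ : G →* (V →ₗ[F] V)) (hφ : Function.Injective φ)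
    (hV : finrank F V = 8) {y : G} (hy : orderOf y = 7) {T : Subgroup G} (hT : Nat.card T = 13 ^ 2)
    (hyT : ∀ u ∈ T, y * u * y⁻¹ ∈ T) : ∀ u ∈ T, y * u = u * y := by
  have hp : Nat.Prime 13 := by norm_num
  have hpf : Fact (Nat.Prime 13) := ⟨hp⟩
  have hFf : Finite F := Finite.of_fintype F
  have hVf : Finite V := Module.finite_of_finite F
  have hy7 : y ^ 7 = 1 := by rw [← hy, pow_orderOf_eq_one]
  have hab : ∀ t ∈ T, ∀ u ∈ T, t * u = u * t := by
    intro t ht u hu
    have := (IsPGroup.isMulCommutative_of_card_eq_prime_sq hT).is_comm.comm (⟨t, ht⟩ : T) ⟨u, hu⟩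
    exact congrArg Subtype.val this
  have hT0 : T ≠ ⊥ := by
    intro h
    rw [h, Subgroup.card_bot] at hT
    norm_num at hT
  have hfix : fixG φ T ≠ ⊤ := by
    intro h
    obtain ⟨d, hd, hd1⟩ := T.bot_or_exists_ne_one.resolve_left hT0
    apply hd1
    apply hφ
    rw [map_one]
    refine LinearMap.ext fun v => ?_
    have : v ∈ fixG φ T := h ▸ Submodule.mem_top
    exact this d hd
  have hn0 : finrank F (fixG φ T) < 8 := by
    rw [← hV]
    exact Submodule.finrank_lt hfix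
  -- an element with a larger fixed space
  obtain ⟨v, hvT, d, hd, hdv, hd1⟩ : ∃ v, v ∉ fixG φ T ∧ ∃ d ∈ T, φ d v = v ∧ d ≠ 1 := by
    by_contra hcon
    push Not at hcon
    have h1 := card_dvd_of_free φ T hcon
    rw [hT, Module.natCard_eq_pow_finrank (K := F) (V := V), Module.natCard_eq_pow_finrank (K := F) (V := fixG φ T),
      Nat.card_eq_fintype_card, hF, hV] at h1
    generalize finrank F (fixG φ T) = n at h1 hn0
    interval_cases n <;> revert h1 <;> norm_num
  -- the stabiliser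
  let A : Subgroup G :=
    { carrier := {g | g ∈ T ∧ φ g v = v}
      one_mem' := ⟨one_mem _, by rw [map_one]; rfl⟩
      mul_mem' := fun {a c} ha hc => ⟨mul_mem ha.1 hc.1, by rw [map_mul, Module.End.mul_apply, hc.2, ha.2]⟩
      inv_mem' := fun {a} ha => ⟨inv_mem ha.1, by
        nth_rewrite 1 [← ha.2]
        rw [← Module.End.mul_apply, ← map_mul, inv_mul_cancel, map_one]; rfl⟩ }
  have hAT : A ≤ T := fun a ha => ha.1
  have hvA : v ∈ fixG φ A := fun a ha => ha.2
  have hA13 : Nat.card A = 13 := by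
    have h1 : Nat.card A ∣ 13 ^ 2 := hT ▸ Subgroup.card_dvd_of_le hAT
    obtain ⟨j, hj, hj'⟩ := (Nat.dvd_prime_pow hp).1 h1
    have hj0 : j ≠ 0 := by
      rintro rfl
      rw [pow_zero] at hj'
      have : A = ⊥ := Subgroup.card_eq_one.1 hj'
      have h2 : d ∈ A := ⟨hd, hdv⟩
      rw [this, Subgroup.mem_bot] at h2
      exact hd1 h2
    have hj2 : j ≠ 2 := by
      rintro rfl
      have h2 : A = T := Subgroup.eq_of_le_of_card_ge hAT (by rw [hT, hj'])
      exact hvT (h2 ▸ hvA)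
    have : j = 1 := by omega
    rw [hj', this, pow_one]
  -- conjugation
  have hcj : ∀ B : Subgroup G, B ≤ T → B.map (MulAut.conj y).toMonoidHom ≤ T := by
    rintro B hB _ ⟨b, hb, rfl⟩
    exact hyT b (hB hb)
  have hcc : ∀ B : Subgroup G, Nat.card (B.map (MulAut.conj y).toMonoidHom) = Nat.card B := fun B =>
    Subgroup.card_map_of_injective (MulAut.conj y).injective
  have hfy : ∀ (B : Subgroup G) (w : V), w ∈ fixG φ B → φ y w ∈ fixG φ (B.map (MulAut.conj y).toMonoidHom) := by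
    rintro B w hw _ ⟨b, hb, rfl⟩
    show φ (y * b * y⁻¹) (φ y w) = φ y w
    rw [← Module.End.mul_apply, ← map_mul, inv_mul_cancel_right, map_mul, Module.End.mul_apply, hw b hb]
  have hfT : ∀ w : V, w ∉ fixG φ T → φ y w ∉ fixG φ T := by
    intro w hw hcon
    apply hw
    intro t ht
    have h1 := hcon _ (hyT t ht)
    rw [← Module.End.mul_apply, ← map_mul, inv_mul_cancel_right, map_mul, Module.End.mul_apply] at h1
    have h2 : ∀ a b, φ y a = φ y b → a = b := by
      intro a b hab'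
      have : φ y⁻¹ (φ y a) = φ y⁻¹ (φ y b) := by rw [hab']
      rwa [← Module.End.mul_apply, ← Module.End.mul_apply, ← map_mul, inv_mul_cancel, map_one] at this
    exact h2 _ _ h1
  set A' := A.map (MulAut.conj y).toMonoidHom with hA'
  set A'' := A'.map (MulAut.conj y).toMonoidHom with hA''
  have hnorm : A' = A := by
    by_contra hne
    have hne1 : A'' ≠ A' := by
      intro h
      apply hne
      exact Subgroup.map_injective (MulAut.conj y).injective h
    have hne2 : A'' ≠ A := by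
      intro h
      apply hne
      have h1 : ∀ n : ℕ, ∀ a ∈ A, y ^ (2 * n) * a * (y ^ (2 * n))⁻¹ ∈ A := by
        intro n
        induction n with
        | zero =>
          intro a ha
          rwa [mul_zero, pow_zero, one_mul, inv_one, mul_one]
        | succ n ih =>
          intro a ha
          have h2 : y * (y * (y ^ (2 * n) * a * (y ^ (2 * n))⁻¹) * y⁻¹) * y⁻¹ ∈ A'' := ⟨_, ⟨_, ih a ha, rfl⟩, rfl⟩
          rw [h] at h2
          rw [show 2 * (n + 1) = 1 + (1 + 2 * n) by ring, pow_add, pow_add, pow_one]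
          rw [show y * (y * y ^ (2 * n)) * a * (y * (y * y ^ (2 * n)))⁻¹ =
            y * (y * (y ^ (2 * n) * a * (y ^ (2 * n))⁻¹) * y⁻¹) * y⁻¹ by group]
          exact h2
      have h3 : y ^ (2 * 4) = y := by
        rw [show 2 * 4 = 7 + 1 by norm_num, pow_succ, hy7, one_mul]
      have h2 : A' ≤ A := by
        rintro _ ⟨a, ha, rfl⟩
        have := h1 4 a ha
        rwa [h3] at this
      exact Subgroup.eq_of_le_of_card_ge h2 (hcc A).ge
    have e1 := finrank_fixG_ge hF φ hT hab hAT hA13 hvA hvT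
    have hA'T := hcj A hAT
    have hA'13 : Nat.card A' = 13 := (hcc A).trans hA13
    have e2 : finrank F (fixG φ T) + 4 ≤ finrank F (fixG φ A') :=
      finrank_fixG_ge hF φ hT hab hA'T hA'13 (hfy A v hvA) (hfT v hvT)
    have hA''T := hcj A' hA'T
    have hA''13 : Nat.card A'' = 13 := (hcc A').trans hA'13
    have i1 : fixG φ A ⊓ fixG φ A' = fixG φ T := by
      rw [← fixG_sup, sup_eq_of_card hT hAT hA'T hA13 hA'13 (Ne.symm hne)]
    have i2 : fixG φ A ⊓ fixG φ A'' = fixG φ T := by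
      rw [← fixG_sup, sup_eq_of_card hT hAT hA''T hA13 hA''13 (Ne.symm hne2)]
    have i3 : fixG φ A' ⊓ fixG φ A'' = fixG φ T := by
      rw [← fixG_sup, sup_eq_of_card hT hA'T hA''T hA'13 hA''13 (Ne.symm hne1)]
    have e3 := Submodule.finrank_sup_add_finrank_inf_eq (fixG φ A) (fixG φ A')
    rw [i1] at e3
    have e4 : finrank F ↥(fixG φ A ⊔ fixG φ A') ≤ 8 := hV ▸ Submodule.finrank_le _
    have hTb : fixG φ T = ⊥ := Submodule.finrank_eq_zero.1 (by omega)
    have htop : fixG φ A ⊔ fixG φ A' = ⊤ := Submodule.eq_top_of_finrank_eq (by rw [hV]; omega)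
    rw [hTb] at i1 i2 i3
    have hv2 := hfy A' _ (hfy A v hvA)
    obtain ⟨w, hw, w', hw', hww⟩ := Submodule.mem_sup.1 (htop ▸ (Submodule.mem_top : φ y (φ y v) ∈ ⊤))
    have key : ∀ a ∈ A'', φ a w = w ∧ φ a w' = w' := by
      intro a ha
      have h1 := hv2 a ha
      rw [← hww, map_add] at h1
      have h2 : φ a w - w = w' - φ a w' := by
        rw [sub_eq_sub_iff_add_eq_add, h1, add_comm]
      have haT := hA''T ha
      have h3 : φ a w - w ∈ fixG φ A ⊓ fixG φ A' := by
        refine ⟨Submodule.sub_mem _ (fun b hb => ?_) hw, ?_⟩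
        · rw [← Module.End.mul_apply, ← map_mul, hab b (hAT hb) a haT, map_mul, Module.End.mul_apply, hw b hb]
        · rw [h2]
          refine Submodule.sub_mem _ hw' (fun b hb => ?_)
          rw [← Module.End.mul_apply, ← map_mul, hab b (hA'T hb) a haT, map_mul, Module.End.mul_apply, hw' b hb]
      rw [i1, Submodule.mem_bot] at h3
      refine ⟨sub_eq_zero.1 h3, ?_⟩
      rw [h3] at h2
      exact (sub_eq_zero.1 h2.symm).symm
    have z1 : w ∈ fixG φ A ⊓ fixG φ A'' := ⟨hw, fun a ha => (key a ha).1⟩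
    have z2 : w' ∈ fixG φ A' ⊓ fixG φ A'' := ⟨hw', fun a ha => (key a ha).2⟩
    rw [i2, Submodule.mem_bot] at z1
    rw [i3, Submodule.mem_bot] at z2
    rw [z1, z2, add_zero] at hww
    apply hfT _ (hfT v hvT)
    rw [← hww]
    exact Submodule.zero_mem _
  have hAc : ∀ u ∈ A, y * u = u * y := by
    refine cent_of_order (by norm_num : Nat.Prime 7) hy hp (by norm_num) (k := 1) (by rw [hA13, pow_one]) ?_ ?_
    · intro u hu
      have : y * u * y⁻¹ ∈ A' := ⟨u, hu, rfl⟩
      rwa [hnorm] at this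
    · intro j hj hj'
      have : j = 1 := by omega
      rw [this]
      norm_num
  -- now count
  have h1 := fix_modEq' (by norm_num : Nat.Prime 7) (y := y) hy7 (S := (T : Set G)) hyT
  have h2 : {s | s ∈ (T : Set G) ∧ y * s = s * y} = ((T ⊓ centralizer ({y} : Set G) : Subgroup G) : Set G) := by
    ext s
    rw [SetLike.mem_coe, mem_inf, mem_centralizer_singleton_iff]
    exact ⟨fun h => ⟨h.1, h.2.symm⟩, fun h => ⟨h.1, h.2.symm⟩⟩
  have h3 : Nat.card ↥(T ⊓ centralizer ({y} : Set G)) ∣ 13 ^ 2 := hT ▸ Subgroup.card_dvd_of_le inf_le_left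
  obtain ⟨c, hc, hc'⟩ := (Nat.dvd_prime_pow hp).1 h3
  rw [h2] at h1
  have h4 : ((T : Set G)).ncard = 13 ^ 2 := by rw [← hT]; rfl
  have h5 : (((T ⊓ centralizer ({y} : Set G) : Subgroup G) : Set G)).ncard = 13 ^ c := by rw [← hc']; rfl
  rw [h4, h5] at h1
  have hA1 : A ≤ T ⊓ centralizer ({y} : Set G) := fun a ha =>
    ⟨hAT ha, mem_centralizer_singleton_iff.2 (hAc a ha).symm⟩
  have h6 : 13 ∣ 13 ^ c := by
    rw [← hc', ← hA13]
    exact Subgroup.card_dvd_of_le hA1
  have hc2 : c = 2 := by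
    by_contra hcon
    have : c = 0 ∨ c = 1 := by omega
    rcases this with rfl | rfl
    · norm_num at h6
    · revert h1
      decide
  have h7 : T ⊓ centralizer ({y} : Set G) = T :=
    Subgroup.eq_of_le_of_card_ge inf_le_left (by rw [hT, hc', hc2])
  intro u hu
  rw [← h7] at hu
  exact (mem_centralizer_singleton_iff.1 hu.2).symm

end

end Cfsg.Agent.H99.AS
end
end

-- part: H99/O8/Count
section
prune_inst 0x4047030440ba002000000000660201c568a00040000088c000c01080004806c620d822860808000134a22810500350000001000000040000004000400011c01a0808016043140a00886001f000000000000000000000000000000000000010000000000000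
set_option linter.all false
open scoped Cfsg.Agent.FastGrp

-- part: H99/O8/Rep
section
/-!
# S3943, the row `Ω⁺₈(2)` (helper99): solvable linear groups in small dimension over `F₂`
-/

set_option autoImplicit false
set_option linter.unusedSectionVars false

namespace Cfsg.Agent.H99.O8

open Module Subgroup Cfsg.Agent.H518.DghpFix Cfsg.Agent.H99.AS
open scoped commutatorElement

universe u v w

/-- a nontrivial solvable group has an abelian normal subgroup of prime exponent -/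
theorem exists_elem_normal {Γ : Type w} [Group Γ] [Finite Γ] [Group.IsSolvable Γ] [Nontrivial Γ] :
    ∃ t : ℕ, t.Prime ∧ ∃ A : Subgroup Γ, A.Normal ∧ A ≠ ⊥ ∧ (∀ a ∈ A, ∀ b ∈ A, a * b = b * a) ∧
      ∀ a ∈ A, a ^ t = 1 := by
  have hne : ({M : Subgroup Γ | M.Normal ∧ M ≠ ⊥}).Nonempty := ⟨⊤, inferInstance, top_ne_bot⟩
  obtain ⟨M, hM⟩ := Set.Finite.exists_minimal (Set.toFinite _) hne
  have hMn := hM.1.1
  have hlt := Group.IsSolvable.commutator_lt_of_ne_bot hM.1.2
  have hbot : ⁅M, M⁆ = ⊥ := by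
    by_contra h
    have h1 : ⁅M, M⁆ ∈ {M : Subgroup Γ | M.Normal ∧ M ≠ ⊥} := ⟨inferInstance, h⟩
    exact hlt.not_ge (hM.2 h1 hlt.le)
  have hab : ∀ a ∈ M, ∀ b ∈ M, a * b = b * a := by
    intro a ha b hb
    have h1 := Subgroup.commutator_mem_commutator ha hb
    rw [hbot, Subgroup.mem_bot] at h1
    exact commutatorElement_eq_one_iff_mul_comm.1 h1
  have h1 : Nat.card M ≠ 1 := fun h => hM.1.2 (Subgroup.card_eq_one.1 h)
  obtain ⟨t, ht, htd⟩ := Nat.exists_prime_and_dvd h1
  refine ⟨t, ht, ?_⟩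
  let A : Subgroup Γ :=
    { carrier := {a | a ∈ M ∧ a ^ t = 1}
      one_mem' := ⟨one_mem _, one_pow _⟩
      mul_mem' := fun {a b} ha hb => ⟨mul_mem ha.1 hb.1, by
        have hc : Commute a b := hab a ha.1 b hb.1
        rw [hc.mul_pow, ha.2, hb.2, one_mul]⟩
      inv_mem' := fun {a} ha => ⟨inv_mem ha.1, by rw [inv_pow, ha.2, inv_one]⟩ }
  refine ⟨A, ⟨fun a ha g => ⟨hMn.conj_mem a ha.1 g, by rw [conj_pow, ha.2]; group⟩⟩, ?_,
    fun a ha b hb => hab a ha.1 b hb.1, fun a ha => ha.2⟩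
  intro hA
  have htf : Fact t.Prime := ⟨ht⟩
  obtain ⟨x, hx⟩ := exists_prime_orderOf_dvd_card' t htd
  have h2 : (x : Γ) ∈ A := ⟨x.2, by
    rw [← Subgroup.coe_pow, ← hx, pow_orderOf_eq_one]; rfl⟩
  rw [hA, Subgroup.mem_bot] at h2
  have h3 : x = 1 := Subtype.ext h2
  rw [h3, orderOf_one] at hx
  exact ht.one_lt.ne hx

variable {F : Type u} [Field F] {X : Type v} [AddCommGroup X] [Module F X]

/-- the fixed space of a group of units -/
def fixU (A : Subgroup (X →ₗ[F] X)ˣ) : Submodule F X := fixG (Units.coeHom (X →ₗ[F] X)) A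

theorem mul_app (a b : (X →ₗ[F] X)ˣ) (x : X) : ((a * b : (X →ₗ[F] X)ˣ) : X →ₗ[F] X) x = (a : X →ₗ[F] X) ((b : X →ₗ[F] X) x) :=
  rfl

theorem inv_app (a : (X →ₗ[F] X)ˣ) (x : X) : ((a⁻¹ : (X →ₗ[F] X)ˣ) : X →ₗ[F] X) ((a : X →ₗ[F] X) x) = x := by
  rw [← mul_app, inv_mul_cancel]; rfl

theorem app_inv (a : (X →ₗ[F] X)ˣ) (x : X) : (a : X →ₗ[F] X) (((a⁻¹ : (X →ₗ[F] X)ˣ) : X →ₗ[F] X) x) = x := by
  rw [← mul_app, mul_inv_cancel]; rfl

theorem app_inj (a : (X →ₗ[F] X)ˣ) {x y : X} (h : (a : X →ₗ[F] X) x = (a : X →ₗ[F] X) y) : x = y := by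
  rw [← inv_app a x, h, inv_app]

variable [Finite X]

/-- **The abelian normal subgroup.** -/
theorem exists_A {M : Type w} [Group M] [Finite M] (hsol : Group.IsSolvable M) (f : M →* (X →ₗ[F] X)ˣ)
    (hirr : ∀ W : Submodule F X, (∀ m, ∀ w ∈ W, (f m : X →ₗ[F] X) w ∈ W) → W = ⊥ ∨ W = ⊤) (hne : ∃ m, f m ≠ 1) :
    ∃ t : ℕ, t.Prime ∧ ∃ A : Subgroup (X →ₗ[F] X)ˣ, A ≤ f.range ∧ A ≠ ⊥ ∧ (∀ a ∈ A, ∀ b ∈ A, a * b = b * a) ∧
      (∀ a ∈ A, a ^ t = 1) ∧ (∀ m, ∀ a ∈ A, f m * a * (f m)⁻¹ ∈ A) ∧ fixU A = ⊥ := by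
  have hfin : Finite f.range := Finite.of_surjective f.rangeRestrict f.rangeRestrict_surjective
  have hs : Group.IsSolvable f.range := Group.isSolvable_of_surjective f.rangeRestrict_surjective
  obtain ⟨m0, hm0⟩ := hne
  have hnt : Nontrivial f.range := ⟨⟨⟨f m0, m0, rfl⟩, 1, fun h => hm0 (congrArg Subtype.val h)⟩⟩
  obtain ⟨t, ht, A, hA1, hA2, hA3, hA4⟩ := exists_elem_normal (Γ := f.range)
  have hnor : ∀ m, ∀ a ∈ A.map f.range.subtype, f m * a * (f m)⁻¹ ∈ A.map f.range.subtype := by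
    rintro m _ ⟨a, ha, rfl⟩
    exact ⟨(⟨f m, m, rfl⟩ * a * ⟨f m, m, rfl⟩⁻¹ :), hA1.conj_mem a ha _, rfl⟩
  refine ⟨t, ht, A.map f.range.subtype, Subgroup.map_subtype_le _, ?_, ?_, ?_, hnor, ?_⟩
  · intro h
    apply hA2
    rwa [Subgroup.map_eq_bot_iff_of_injective _ f.range.subtype_injective] at h
  · rintro _ ⟨a, ha, rfl⟩ _ ⟨b, hb, rfl⟩
    exact congrArg Subtype.val (hA3 a ha b hb)
  · rintro _ ⟨a, ha, rfl⟩
    exact congrArg Subtype.val (hA4 a ha)
  · have hinv : ∀ m, ∀ w ∈ fixU (A.map f.range.subtype), (f m : X →ₗ[F] X) w ∈ fixU (A.map f.range.subtype) := by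
      intro m w hw a ha
      have h1 := hnor m⁻¹ a ha
      have h2 := hw _ h1
      have h3 : (a : X →ₗ[F] X) ((f m : X →ₗ[F] X) w) = (f m : X →ₗ[F] X) w := by
        have e1 : ((f m * (f m⁻¹ * a * (f m⁻¹)⁻¹) : (X →ₗ[F] X)ˣ) : X →ₗ[F] X) w = (f m : X →ₗ[F] X) w := by
          rw [mul_app]
          exact congrArg _ h2
        have e2 : f m * (f m⁻¹ * a * (f m⁻¹)⁻¹) = a * f m := by
          rw [map_inv]; group
        rw [e2] at e1
        exact e1
      exact h3
    rcases hirr (fixU (A.map f.range.subtype)) hinv with h | h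
    · exact h
    · exfalso
      apply hA2
      rw [Subgroup.eq_bot_iff_forall]
      intro a ha
      apply Subtype.ext
      apply Units.ext
      refine LinearMap.ext fun x => ?_
      have hx : x ∈ fixU (A.map f.range.subtype) := h ▸ Submodule.mem_top
      exact hx _ ⟨a, ha, rfl⟩

/-- the prime divides `|X| - 1` -/
theorem prime_dvd {A : Subgroup (X →ₗ[F] X)ˣ} {t : ℕ} (ht : t.Prime) (hA : ∀ a ∈ A, a ^ t = 1)
    (hfix : fixU A = ⊥) : t ∣ Nat.card X - 1 := by
  have htf : Fact t.Prime := ⟨ht⟩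
  have hp : IsPGroup t A := fun a => ⟨1, Subtype.ext (by rw [pow_one]; exact hA a a.2)⟩
  have hfA : Finite A := by
    have : Finite (X →ₗ[F] X) := Finite.of_injective (fun f : X →ₗ[F] X => (f : X → X)) DFunLike.coe_injective
    infer_instance
  let _ : MulAction A X :=
    { smul := fun a x => (a : (X →ₗ[F] X)ˣ).val x
      one_smul := fun x => rfl
      mul_smul := fun a b x => rfl }
  have h1 := hp.card_modEq_card_fixedPoints X
  have h2 : Nat.card (MulAction.fixedPoints A X) = 1 := by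
    have h3 : MulAction.fixedPoints A X = {0} := by
      ext x
      rw [MulAction.mem_fixedPoints, Set.mem_singleton_iff]
      constructor
      · intro h
        have : x ∈ fixU A := fun a ha => h ⟨a, ha⟩
        rw [hfix, Submodule.mem_bot] at this
        exact this
      · rintro rfl a
        exact map_zero _
    rw [h3]
    exact Nat.card_unique
  rw [h2] at h1
  exact (Nat.modEq_iff_dvd' Nat.card_pos).1 h1.symm

/-- vectors with different stabilisers are independent -/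
theorem indep_stab {A : Subgroup (X →ₗ[F] X)ˣ} (K : ℕ → Subgroup (X →ₗ[F] X)ˣ) (W : ℕ → Submodule F X) :
    ∀ n : ℕ, (∀ i < n, K i ≤ A) → (∀ i < n, ∀ k ∈ K i, ∀ w ∈ W i, (k : X →ₗ[F] X) w = w) →
      (∀ i < n, ∀ b ∈ A, ∀ w ∈ W i, w ≠ 0 → (b : X →ₗ[F] X) w = w → b ∈ K i) →
      (∀ i < n, ∀ b ∈ A, ∀ w ∈ W i, (b : X →ₗ[F] X) w ∈ W i) →
      (∀ i < n, ∀ j < n, i ≠ j → ¬ K j ≤ K i) →
      ∀ v : ℕ → X, (∀ i < n, v i ∈ W i) → ∑ i ∈ Finset.range n, v i = 0 → ∀ i < n, v i = 0 := by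
  intro n
  induction n with
  | zero => intro _ _ _ _ _ v _ _ i hi; omega
  | succ n ih =>
    intro h1 h2 h3 h4 h5 v hv hs
    rw [Finset.sum_range_succ] at hs
    have key : ∀ k ∈ K n, ∀ i < n, (k : X →ₗ[F] X) (v i) - v i = 0 := by
      intro k hk
      have hkA := h1 n (Nat.lt_succ_self n) hk
      refine ih (fun i hi => h1 i (by omega)) (fun i hi => h2 i (by omega)) (fun i hi => h3 i (by omega))
        (fun i hi => h4 i (by omega)) (fun i hi j hj => h5 i (by omega) j (by omega))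
        (fun i => (k : X →ₗ[F] X) (v i) - v i) (fun i hi => ?_) ?_
      · exact Submodule.sub_mem _ (h4 i (by omega) k hkA _ (hv i (by omega))) (hv i (by omega))
      · rw [Finset.sum_sub_distrib]
        have e1 := congrArg (k : X →ₗ[F] X) hs
        rw [map_add, map_sum, map_zero, h2 n (Nat.lt_succ_self n) k hk _ (hv n (Nat.lt_succ_self n))] at e1
        have e2 : ∑ i ∈ Finset.range n, (k : X →ₗ[F] X) (v i) = -v n := eq_neg_of_add_eq_zero_left e1
        have e3 : ∑ i ∈ Finset.range n, v i = -v n := eq_neg_of_add_eq_zero_left hs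
        rw [e2, e3, sub_self]
    have hz : ∀ i < n, v i = 0 := by
      intro i hi
      by_contra hne
      apply h5 i (by omega) n (Nat.lt_succ_self n) (by omega)
      intro k hk
      exact h3 i (by omega) k (h1 n (Nat.lt_succ_self n) hk) (v i) (hv i (by omega)) hne (sub_eq_zero.1 (key k hk i hi))
    intro i hi
    rcases Nat.lt_succ_iff_lt_or_eq.1 hi with h | h
    · exact hz i h
    · subst h
      rw [Finset.sum_eq_zero fun j hj => hz j (Finset.mem_range.1 hj), zero_add] at hs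
      exact hs

/-- the stabiliser of a vector in `A` -/
def St (A : Subgroup (X →ₗ[F] X)ˣ) (x : X) : Subgroup (X →ₗ[F] X)ˣ where
  carrier := {a | a ∈ A ∧ (a : X →ₗ[F] X) x = x}
  one_mem' := ⟨one_mem _, rfl⟩
  mul_mem' := fun {a b} ha hb => ⟨mul_mem ha.1 hb.1, by rw [mul_app, hb.2, ha.2]⟩
  inv_mem' := fun {a} ha => ⟨inv_mem ha.1, by
    have h := inv_app a x
    rwa [ha.2] at h⟩

theorem mem_St {A : Subgroup (X →ₗ[F] X)ˣ} {x : X} {a : (X →ₗ[F] X)ˣ} :
    a ∈ St A x ↔ a ∈ A ∧ (a : X →ₗ[F] X) x = x := Iff.rfl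

theorem St_conj {A : Subgroup (X →ₗ[F] X)ˣ} {g : (X →ₗ[F] X)ˣ} (hg : ∀ a ∈ A, g * a * g⁻¹ ∈ A)
    (hg' : ∀ a ∈ A, g⁻¹ * a * g ∈ A) (x : X) (a : (X →ₗ[F] X)ˣ) :
    g * a * g⁻¹ ∈ St A ((g : X →ₗ[F] X) x) ↔ a ∈ St A x := by
  rw [mem_St, mem_St]
  have e1 : ((g * a * g⁻¹ : (X →ₗ[F] X)ˣ) : X →ₗ[F] X) ((g : X →ₗ[F] X) x) = (g : X →ₗ[F] X) ((a : X →ₗ[F] X) x) := by
    rw [mul_app, mul_app, inv_app]
  rw [e1]
  constructor
  · rintro ⟨h1, h2⟩
    refine ⟨?_, app_inj g h2⟩
    have := hg' _ h1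
    rwa [show g⁻¹ * (g * a * g⁻¹) * g = a by group] at this
  · rintro ⟨h1, h2⟩
    exact ⟨hg a h1, by rw [h2]⟩

theorem card_St {A : Subgroup (X →ₗ[F] X)ˣ} {g : (X →ₗ[F] X)ˣ} (hg : ∀ a ∈ A, g * a * g⁻¹ ∈ A)
    (hg' : ∀ a ∈ A, g⁻¹ * a * g ∈ A) (x : X) : Nat.card (St A ((g : X →ₗ[F] X) x)) = Nat.card (St A x) := by
  have h1 : (St A x).map (MulAut.conj g).toMonoidHom = St A ((g : X →ₗ[F] X) x) := by
    ext a
    constructor
    · rintro ⟨b, hb, rfl⟩
      exact (St_conj hg hg' x b).2 hb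
    · intro ha
      refine ⟨g⁻¹ * a * g, ?_, ?_⟩
      · apply (St_conj hg hg' x _).1
        rwa [show g * (g⁻¹ * a * g) * g⁻¹ = a by group]
      · show g * (g⁻¹ * a * g) * g⁻¹ = a
        group
  rw [← h1]
  exact Subgroup.card_map_of_injective (MulAut.conj g).injective

/-- **An abelian group of exponent 3 is centralised by elements of order 5** in dimension at most 9 over `F₂`. -/
theorem comm_five (hF : Nat.card F = 2) [FiniteDimensional F X] [Nontrivial X] {A : Subgroup (X →ₗ[F] X)ˣ}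
    (hab : ∀ a ∈ A, ∀ b ∈ A, a * b = b * a) (h3 : ∀ a ∈ A, a ^ 3 = 1) (hfix : fixU A = ⊥) {M : Type w} [Group M]
    (f : M →* (X →ₗ[F] X)ˣ)
    (hirr : ∀ W : Submodule F X, (∀ m, ∀ w ∈ W, (f m : X →ₗ[F] X) w ∈ W) → W = ⊥ ∨ W = ⊤)
    (hnA : ∀ m, ∀ a ∈ A, f m * a * (f m)⁻¹ ∈ A) {y : M} (hy : f y ^ 5 = 1) (hdim : finrank F X < 10) :
    ∀ a ∈ A, f y * a = a * f y := by
  classical
  have hXf : Finite (X →ₗ[F] X) := Finite.of_injective (fun f : X →ₗ[F] X => (f : X → X)) DFunLike.coe_injective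
  have hchar : ∀ x : X, x + x = 0 := by
    have hFin : Finite F := Nat.finite_of_card_ne_zero (by rw [hF]; norm_num)
    have := Fintype.ofFinite F
    have h2 : (2 : F) = 0 := by
      have h := Nat.cast_card_eq_zero F
      rw [← Nat.card_eq_fintype_card, hF] at h
      exact_mod_cast h
    intro x
    rw [← two_smul F x, h2, zero_smul]
  have hnA' : ∀ m, ∀ a ∈ A, (f m)⁻¹ * a * f m ∈ A := by
    intro m a ha
    have := hnA m⁻¹ a ha
    rwa [map_inv, inv_inv] at this
  set g := f y with hg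
  have hgn : ∀ n : ℕ, ∀ a ∈ A, g ^ n * a * (g ^ n)⁻¹ ∈ A := by
    intro n a ha
    rw [hg, ← map_pow]
    exact hnA _ a ha
  have hgn' : ∀ n : ℕ, ∀ a ∈ A, (g ^ n)⁻¹ * a * g ^ n ∈ A := by
    intro n a ha
    rw [hg, ← map_pow]
    exact hnA' _ a ha
  -- maximal stabilisers
  let Mx : X → Prop := fun x => x ≠ 0 ∧ ∀ x', x' ≠ 0 → Nat.card (St A x') ≤ Nat.card (St A x)
  have hMxe : ∃ x, Mx x := by
    obtain ⟨z, hz⟩ := exists_ne (0 : X)
    obtain ⟨x, hx, hmax⟩ := Set.exists_max_image {x : X | x ≠ 0} (fun x => Nat.card (St A x)) (Set.toFinite _) ⟨z, hz⟩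
    exact ⟨x, hx, hmax⟩
  have hMxm : ∀ m x, Mx x → Mx ((f m : X →ₗ[F] X) x) := by
    rintro m x ⟨h1, h2⟩
    refine ⟨fun h => h1 (app_inj (f m) (by rw [h, map_zero])), fun x' hx' => ?_⟩
    rw [card_St (hnA m) (hnA' m)]
    exact h2 x' hx'
  have hMxg : ∀ n : ℕ, ∀ x, Mx x → Mx (((g ^ n : (X →ₗ[F] X)ˣ) : X →ₗ[F] X) x) := by
    intro n x hx
    rw [hg, ← map_pow]
    exact hMxm _ x hx
  have hMx1 : ∀ x, Mx x → ∀ w, w ≠ 0 → St A x ≤ St A w → St A w = St A x := by
    intro x hx w hw hle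
    exact (Subgroup.eq_of_le_of_card_ge hle (hx.2 w hw)).symm
  -- the fixed space of the stabiliser
  have hW : ∀ x, Mx x → ∀ w ∈ fixU (St A x), w ≠ 0 → St A w = St A x := by
    intro x hx w hw hw0
    refine hMx1 x hx w hw0 fun k hk => ⟨hk.1, hw k hk⟩
  have hWA : ∀ x, ∀ b ∈ A, ∀ w ∈ fixU (St A x), (b : X →ₗ[F] X) w ∈ fixU (St A x) := by
    intro x b hb w hw k hk
    show (k : X →ₗ[F] X) ((b : X →ₗ[F] X) w) = (b : X →ₗ[F] X) w
    rw [← mul_app, hab k hk.1 b hb, mul_app]
    exact congrArg _ (hw k hk)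
  -- claim 1
  have claim1 : ∀ x, Mx x → ∀ k ∈ St A x, g * k * g⁻¹ ∈ St A x := by
    intro x hx
    -- the conjugates
    let K : ℕ → Subgroup (X →ₗ[F] X)ˣ := fun i => St A (((g ^ i : (X →ₗ[F] X)ˣ) : X →ₗ[F] X) x)
    let W : ℕ → Submodule F X := fun i => fixU (K i)
    have hpair : ∃ i < 5, ∃ j < 5, i ≠ j ∧ K j ≤ K i := by
      by_contra hcon
      push Not at hcon
      have hind := indep_stab (A := A) K W 5 (fun i _ k hk => hk.1) (fun i _ k hk w hw => hw k hk)
        (fun i _ b hb w hw hw0 hbw => by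
          show b ∈ St A (((g ^ i : (X →ₗ[F] X)ˣ) : X →ₗ[F] X) x)
          rw [← hW _ (hMxg i x hx) w hw hw0]
          exact ⟨hb, hbw⟩)
        (fun i _ b hb w hw => hWA _ b hb w hw)
        (fun i hi j hj hij h => hcon i hi j hj hij h)
      -- the map
      let T : (Fin 5 → fixU (St A x)) →ₗ[F] X :=
        { toFun := fun u => ∑ i : Fin 5, ((g ^ (i : ℕ) : (X →ₗ[F] X)ˣ) : X →ₗ[F] X) (u i)
          map_add' := fun u u' => by
            rw [← Finset.sum_add_distrib]
            refine Finset.sum_congr rfl fun i _ => ?_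
            rw [Pi.add_apply, Submodule.coe_add, map_add]
          map_smul' := fun c u => by
            rw [RingHom.id_apply, Finset.smul_sum]
            refine Finset.sum_congr rfl fun i _ => ?_
            rw [Pi.smul_apply, Submodule.coe_smul, map_smul] }
      have hTinj : Function.Injective T := by
        rw [← LinearMap.ker_eq_bot, LinearMap.ker_eq_bot']
        intro u hu
        let v : ℕ → X := fun i => if h : i < 5 then ((g ^ i : (X →ₗ[F] X)ˣ) : X →ₗ[F] X) (u ⟨i, h⟩) else 0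
        have hv : ∀ i < 5, v i ∈ W i := by
          intro i hi k hk
          have e1 : v i = ((g ^ i : (X →ₗ[F] X)ˣ) : X →ₗ[F] X) (u ⟨i, hi⟩) := dif_pos hi
          have e2 : (g ^ i)⁻¹ * k * g ^ i ∈ St A x := by
            apply (St_conj (hgn i) (hgn' i) x _).1
            rwa [show g ^ i * ((g ^ i)⁻¹ * k * g ^ i) * (g ^ i)⁻¹ = k by group]
          have e3 := (u ⟨i, hi⟩).2 _ e2
          have e4 : ((g ^ i : (X →ₗ[F] X)ˣ) : X →ₗ[F] X)
              ((((g ^ i)⁻¹ * k * g ^ i : (X →ₗ[F] X)ˣ) : X →ₗ[F] X) (u ⟨i, hi⟩)) =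
              (k : X →ₗ[F] X) (((g ^ i : (X →ₗ[F] X)ˣ) : X →ₗ[F] X) (u ⟨i, hi⟩)) := by
            rw [← mul_app, ← mul_app]
            congr 2
            group
          show (k : X →ₗ[F] X) (v i) = v i
          rw [e1, ← e4]
          exact congrArg _ e3
        have hs : ∑ i ∈ Finset.range 5, v i = 0 := by
          rw [Finset.sum_range, ← hu]
          show ∑ i : Fin 5, v i = ∑ i : Fin 5, ((g ^ (i : ℕ) : (X →ₗ[F] X)ˣ) : X →ₗ[F] X) (u i)
          refine Finset.sum_congr rfl fun i _ => ?_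
          exact dif_pos i.2
        have hz := hind v hv hs
        funext i
        have e1 : v i = ((g ^ (i : ℕ) : (X →ₗ[F] X)ˣ) : X →ₗ[F] X) (u i) := dif_pos i.2
        have e2 := hz i i.2
        rw [e1] at e2
        apply Subtype.ext
        exact app_inj (g ^ (i : ℕ)) (by rw [e2]; exact (map_zero _).symm)
      have h1 := LinearMap.finrank_le_finrank_of_injective hTinj
      rw [Module.finrank_pi_fintype, Finset.sum_const, Finset.card_univ, Fintype.card_fin, smul_eq_mul] at h1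
      have h2 : finrank F (fixU (St A x)) ≤ 1 := by omega
      -- the fixed space is `{0, x}`
      have hxW : x ∈ fixU (St A x) := fun a ha => ha.2
      have h5 : ∀ w ∈ fixU (St A x), w ≠ 0 → w = x := by
        intro w hw hw0
        have hfr : finrank F (fixU (St A x)) = 1 := by
          have h4 : finrank F (fixU (St A x)) ≠ 0 := by
            intro h
            have := Submodule.finrank_eq_zero.1 h
            rw [this, Submodule.mem_bot] at hxW
            exact hx.1 hxW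
          omega
        obtain ⟨c, hc⟩ := exists_smul_eq_of_finrank_eq_one hfr (x := (⟨x, hxW⟩ : fixU (St A x)))
          (fun h => hx.1 (congrArg Subtype.val h)) ⟨w, hw⟩
        have hc' : c • x = w := congrArg Subtype.val hc
        have hc0 : c ≠ 0 := fun h => hw0 (by rw [← hc', h, zero_smul])
        have hFin : Finite F := Nat.finite_of_card_ne_zero (by rw [hF]; norm_num)
        have := Fintype.ofFinite F
        have hc1 : c = 1 := by
          have h := FiniteField.pow_card_sub_one_eq_one c hc0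
          rwa [← Nat.card_eq_fintype_card, hF, pow_one] at h
        rw [← hc', hc1, one_smul]
      have h6 : x ∈ fixU A := by
        intro a ha
        refine h5 _ (hWA x a ha x hxW) fun h => hx.1 (app_inj a (by rw [map_zero]; exact h))
      rw [hfix, Submodule.mem_bot] at h6
      exact hx.1 h6
    have hadd : ∀ a b : ℕ, (∀ k ∈ St A x, g ^ a * k * (g ^ a)⁻¹ ∈ St A x) →
        (∀ k ∈ St A x, g ^ b * k * (g ^ b)⁻¹ ∈ St A x) → ∀ k ∈ St A x, g ^ (a + b) * k * (g ^ (a + b))⁻¹ ∈ St A x := by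
      intro a b ha hb k hk
      have := ha _ (hb k hk)
      rwa [show g ^ a * (g ^ b * k * (g ^ b)⁻¹) * (g ^ a)⁻¹ = g ^ (a + b) * k * (g ^ (a + b))⁻¹ by
        rw [pow_add]; group] at this
    have hmul : ∀ d e : ℕ, (∀ k ∈ St A x, g ^ d * k * (g ^ d)⁻¹ ∈ St A x) →
        ∀ k ∈ St A x, g ^ (d * e) * k * (g ^ (d * e))⁻¹ ∈ St A x := by
      intro d e hd
      induction e with
      | zero =>
        intro k hk
        rw [mul_zero, pow_zero, one_mul, inv_one, mul_one]
        exact hk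
      | succ e ih =>
        rw [Nat.mul_succ]
        exact hadd _ _ ih hd
    obtain ⟨d, hd0, hd5, hd⟩ : ∃ d, 0 < d ∧ d < 5 ∧ ∀ k ∈ St A x, g ^ d * k * (g ^ d)⁻¹ ∈ St A x := by
      have aux : ∀ i < 5, ∀ j < 5, i < j → K j = K i →
          ∀ k ∈ St A x, g ^ (j - i) * k * (g ^ (j - i))⁻¹ ∈ St A x := by
        intro i _ j _ hij hK k hk
        have e1 : g ^ j * k * (g ^ j)⁻¹ ∈ K j := (St_conj (hgn j) (hgn' j) x k).2 hk
        rw [hK] at e1
        apply (St_conj (hgn i) (hgn' i) x _).1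
        have e2 : g ^ i * (g ^ (j - i) * k * (g ^ (j - i))⁻¹) * (g ^ i)⁻¹ = g ^ j * k * (g ^ j)⁻¹ := by
          have e3 : g ^ j = g ^ i * g ^ (j - i) := by rw [← pow_add, Nat.add_sub_cancel' hij.le]
          rw [e3]; group
        rw [e2]
        exact e1
      obtain ⟨i, hi, j, hj, hij, hle⟩ := hpair
      have heq : K j = K i := by
        refine Subgroup.eq_of_le_of_card_ge hle ?_
        exact (hMxg j x hx).2 _ (hMxg i x hx).1
      rcases lt_or_gt_of_ne hij with h | h
      · exact ⟨j - i, by omega, by omega, aux i hi j hj h heq⟩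
      · exact ⟨i - j, by omega, by omega, aux j hj i hi h heq.symm⟩
    have hg6 : ∀ e, (d * e) % 5 = 1 → g ^ (d * e) = g := by
      intro e he
      rw [pow_eq_pow_mod (d * e) hy, he, pow_one]
    have hfin : ∀ e, (d * e) % 5 = 1 → ∀ k ∈ St A x, g * k * g⁻¹ ∈ St A x := by
      intro e he
      have := hmul d e hd
      rwa [hg6 e he] at this
    interval_cases d
    · exact hfin 1 rfl
    · exact hfin 3 rfl
    · exact hfin 2 rfl
    · exact hfin 4 rfl
  have claim1n : ∀ x, Mx x → ∀ n : ℕ, ∀ k ∈ St A x, g ^ n * k * (g ^ n)⁻¹ ∈ St A x := by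
    intro x hx n
    induction n with
    | zero =>
      intro k hk
      rw [pow_zero, one_mul, inv_one, mul_one]
      exact hk
    | succ n ih =>
      intro k hk
      have := claim1 x hx _ (ih k hk)
      rwa [show g * (g ^ n * k * (g ^ n)⁻¹) * g⁻¹ = g ^ (n + 1) * k * (g ^ (n + 1))⁻¹ by
        rw [pow_succ']; group] at this
  have hg4 : g ^ 4 = g⁻¹ := by
    apply eq_inv_of_mul_eq_one_left
    rw [← pow_succ, hy]
  have claim1' : ∀ x, Mx x → ∀ k ∈ St A x, g⁻¹ * k * g ∈ St A x := by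
    intro x hx k hk
    have := claim1n x hx 4 k hk
    rwa [hg4, inv_inv] at this
  -- claim 2
  have claim2 : ∀ x, Mx x → ∀ b ∈ A, ∀ w ∈ fixU (St A x),
      ((g * b * g⁻¹ : (X →ₗ[F] X)ˣ) : X →ₗ[F] X) w = (b : X →ₗ[F] X) w := by
    intro x hx b hb
    by_cases hbK : b ∈ St A x
    · intro w hw
      have e1 := hw _ hbK
      have e2 := hw _ (claim1 x hx b hbK)
      exact e2.trans e1.symm
    set c := g * b * g⁻¹ with hc
    have hcA : c ∈ A := hnA y b hb
    have hcK : c ∉ St A x := by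
      intro h
      apply hbK
      have := claim1' x hx _ h
      rwa [show g⁻¹ * c * g = b by rw [hc]; group] at this
    have hgW : ∀ w ∈ fixU (St A x), (g : X →ₗ[F] X) w ∈ fixU (St A x) := by
      intro w hw k hk
      show (k : X →ₗ[F] X) ((g : X →ₗ[F] X) w) = (g : X →ₗ[F] X) w
      have e1 := hw _ (claim1' x hx k hk)
      have e2 : (g : X →ₗ[F] X) (((g⁻¹ * k * g : (X →ₗ[F] X)ˣ) : X →ₗ[F] X) w) =
          (k : X →ₗ[F] X) ((g : X →ₗ[F] X) w) := by
        rw [← mul_app, ← mul_app]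
        congr 2
        group
      rw [← e2]
      exact congrArg _ e1
    have cube : ∀ b' ∈ A, ∀ w, (b' : X →ₗ[F] X) ((b' : X →ₗ[F] X) ((b' : X →ₗ[F] X) w)) = w := by
      intro b' hb' w
      have : b' * b' * b' = 1 := by rw [← pow_two, ← pow_succ, h3 b' hb']
      rw [← mul_app, ← mul_app, this]; rfl
    have quad : ∀ b' ∈ A, b' ∉ St A x → ∀ w ∈ fixU (St A x),
        (b' : X →ₗ[F] X) ((b' : X →ₗ[F] X) w) = (b' : X →ₗ[F] X) w + w := by
      intro b' hb' hb'K w hw
      have hu : (b' : X →ₗ[F] X) ((b' : X →ₗ[F] X) w) + (b' : X →ₗ[F] X) w + w = 0 := by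
        by_contra hne
        apply hb'K
        have hmem : (b' : X →ₗ[F] X) ((b' : X →ₗ[F] X) w) + (b' : X →ₗ[F] X) w + w ∈ fixU (St A x) :=
          Submodule.add_mem _ (Submodule.add_mem _ (hWA x b' hb' _ (hWA x b' hb' w hw)) (hWA x b' hb' w hw)) hw
        rw [← hW x hx _ hmem hne]
        refine ⟨hb', ?_⟩
        rw [map_add, map_add, cube b' hb']
        abel
      have e1 : (b' : X →ₗ[F] X) ((b' : X →ₗ[F] X) w) + ((b' : X →ₗ[F] X) w + w) = 0 := by
        rw [← add_assoc]; exact hu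
      have e2 := hchar ((b' : X →ₗ[F] X) w + w)
      rw [← e2] at e1
      exact add_right_cancel e1
    have hcomm : ∀ w, (c : X →ₗ[F] X) ((b : X →ₗ[F] X) w) = (b : X →ₗ[F] X) ((c : X →ₗ[F] X) w) := by
      intro w
      rw [← mul_app, hab c hcA b hb, mul_app]
    by_cases hall : ∀ w ∈ fixU (St A x), (c : X →ₗ[F] X) w = (b : X →ₗ[F] X) ((b : X →ₗ[F] X) w)
    · exfalso
      have hR : ∀ w ∈ fixU (St A x), (g : X →ₗ[F] X) ((b : X →ₗ[F] X) w) =
          (b : X →ₗ[F] X) ((b : X →ₗ[F] X) ((g : X →ₗ[F] X) w)) := by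
        intro w hw
        rw [← hall _ (hgW w hw), hc, mul_app, mul_app, inv_app]
      have hR2 : ∀ w ∈ fixU (St A x), (g : X →ₗ[F] X) ((g : X →ₗ[F] X) ((b : X →ₗ[F] X) w)) =
          (b : X →ₗ[F] X) ((g : X →ₗ[F] X) ((g : X →ₗ[F] X) w)) := by
        intro w hw
        have hgw := hgW w hw
        rw [hR w hw, hR _ (hWA x b hb _ hgw), hR _ hgw, cube b hb]
      have hR6 : ∀ w ∈ fixU (St A x), (g : X →ₗ[F] X) ((b : X →ₗ[F] X) w) =
          (b : X →ₗ[F] X) ((g : X →ₗ[F] X) w) := by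
        intro w hw
        have e6 : ∀ w, (g : X →ₗ[F] X) w = (g : X →ₗ[F] X) ((g : X →ₗ[F] X) ((g : X →ₗ[F] X) ((g : X →ₗ[F] X)
            ((g : X →ₗ[F] X) ((g : X →ₗ[F] X) w))))) := by
          intro w
          have e7 : g * g * g * g * g * g = g := by
            rw [show g * g * g * g * g * g = g ^ 5 * g by simp only [pow_succ, pow_zero, one_mul], hy, one_mul]
          calc (g : X →ₗ[F] X) w = ((g * g * g * g * g * g : (X →ₗ[F] X)ˣ) : X →ₗ[F] X) w := by rw [e7]
            _ = _ := rfl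
        rw [e6, hR2 w hw, hR2 _ (hgW _ (hgW w hw)), hR2 _ (hgW _ (hgW _ (hgW _ (hgW w hw)))), ← e6 w]
      have hxW : x ∈ fixU (St A x) := fun a ha => ha.2
      obtain ⟨w, hw, hgw⟩ : ∃ w ∈ fixU (St A x), (g : X →ₗ[F] X) w = x := by
        refine ⟨(g : X →ₗ[F] X) ((g : X →ₗ[F] X) ((g : X →ₗ[F] X) ((g : X →ₗ[F] X) x))),
          hgW _ (hgW _ (hgW _ (hgW x hxW))), ?_⟩
        have e7 : g * g * g * g * g = 1 := by
          rw [show g * g * g * g * g = g ^ 5 by simp only [pow_succ, pow_zero, one_mul], hy]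
        calc _ = ((g * g * g * g * g : (X →ₗ[F] X)ˣ) : X →ₗ[F] X) x := rfl
          _ = x := by rw [e7]; rfl
      have e1 := hR w hw
      rw [hR6 w hw, hgw] at e1
      apply hbK
      exact ⟨hb, (app_inj b e1).symm⟩
    · push Not at hall
      obtain ⟨w1, hw1, hne⟩ := hall
      set w' := (c : X →ₗ[F] X) w1 + (b : X →ₗ[F] X) ((b : X →ₗ[F] X) w1) with hw'
      have hw'W : w' ∈ fixU (St A x) := Submodule.add_mem _ (hWA x c hcA w1 hw1) (hWA x b hb _ (hWA x b hb w1 hw1))
      have hw'0 : w' ≠ 0 := by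
        intro h
        apply hne
        have e2 := hchar ((b : X →ₗ[F] X) ((b : X →ₗ[F] X) w1))
        rw [hw', ← e2] at h
        exact add_right_cancel h
      have hcw : (c : X →ₗ[F] X) w' = (b : X →ₗ[F] X) w' := by
        rw [hw', map_add, map_add, quad c hcA hcK w1 hw1, cube b hb, hcomm, hcomm]
        have e0 : (b : X →ₗ[F] X) ((b : X →ₗ[F] X) ((c : X →ₗ[F] X) w1)) =
            (b : X →ₗ[F] X) ((c : X →ₗ[F] X) w1) + (c : X →ₗ[F] X) w1 := quad b hb hbK _ (hWA x c hcA w1 hw1)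
        rw [e0]
        have e9 := hchar ((c : X →ₗ[F] X) w1)
        calc (c : X →ₗ[F] X) w1 + w1 + ((b : X →ₗ[F] X) ((c : X →ₗ[F] X) w1) + (c : X →ₗ[F] X) w1) =
            (b : X →ₗ[F] X) ((c : X →ₗ[F] X) w1) + w1 + ((c : X →ₗ[F] X) w1 + (c : X →ₗ[F] X) w1) := by abel
          _ = _ := by rw [e9, add_zero]
      have hst : b⁻¹ * c ∈ St A x := by
        rw [← hW x hx w' hw'W hw'0]
        refine ⟨mul_mem (inv_mem hb) hcA, ?_⟩
        rw [mul_app, hcw, inv_app]
      intro w hw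
      have e1 := hw _ hst
      have e2 : (b : X →ₗ[F] X) (((b⁻¹ * c : (X →ₗ[F] X)ˣ) : X →ₗ[F] X) w) = (c : X →ₗ[F] X) w := by
        rw [← mul_app, mul_inv_cancel_left]
      rw [← e2]
      exact congrArg _ e1
  -- the conclusion
  intro a ha
  let S : Submodule F X := Submodule.span F {x | Mx x}
  have hS : S = ⊤ := by
    have hinv : ∀ m, ∀ w ∈ S, (f m : X →ₗ[F] X) w ∈ S := by
      intro m w hw
      have h1 : S.map (f m : X →ₗ[F] X) ≤ S := by
        rw [Submodule.map_span_le]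
        intro x hx
        exact Submodule.subset_span (hMxm m x hx)
      exact h1 ⟨w, hw, rfl⟩
    rcases hirr S hinv with h | h
    · exfalso
      obtain ⟨x, hx⟩ := hMxe
      have : x ∈ S := Submodule.subset_span hx
      rw [h, Submodule.mem_bot] at this
      exact hx.1 this
    · exact h
  have hD : S ≤ LinearMap.eqLocus ((g * a * g⁻¹ : (X →ₗ[F] X)ˣ) : X →ₗ[F] X) (a : X →ₗ[F] X) := by
    rw [Submodule.span_le]
    intro x hx
    exact claim2 x hx a ha x (fun k hk => hk.2)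
  have h1 : g * a * g⁻¹ = a := by
    apply Units.ext
    refine LinearMap.ext fun x => ?_
    have : x ∈ S := hS ▸ Submodule.mem_top
    exact hD this
  rw [mul_inv_eq_iff_eq_mul] at h1
  exact h1

theorem two_eq_zero (hF : Nat.card F = 2) : (2 : F) = 0 := by
  have hFin : Finite F := Nat.finite_of_card_ne_zero (by rw [hF]; norm_num)
  have := Fintype.ofFinite F
  have h := Nat.cast_card_eq_zero F
  rw [← Nat.card_eq_fintype_card, hF] at h
  exact_mod_cast h

theorem add_self (hF : Nat.card F = 2) (x : X) : x + x = 0 := by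
  rw [← two_smul F x, two_eq_zero hF, zero_smul]

omit [Finite X] in
theorem pow_app_fix {g : (X →ₗ[F] X)ˣ} {v : X} (h : (g : X →ₗ[F] X) v = v) (n : ℕ) :
    ((g ^ n : (X →ₗ[F] X)ˣ) : X →ₗ[F] X) v = v := by
  induction n with
  | zero => rfl
  | succ n ih => rw [pow_succ, mul_app, h, ih]

/-- **No torus of order 15.** -/
theorem no_torus (hF : Nat.card F = 2) [FiniteDimensional F X] (hX : finrank F X = 4) (B : X → X → F)
    (hBl : ∀ x y z, B (x + y) z = B x z + B y z) (hBs : ∀ x y, B x y = B y x) (hB0 : ∀ x, B x x = 0)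
    (hB : ∃ x y, B x y ≠ 0) {a y : (X →ₗ[F] X)ˣ} (hay : y * a = a * y)
    (ha : ∀ x, (a : X →ₗ[F] X) ((a : X →ₗ[F] X) x) = (a : X →ₗ[F] X) x + x) (hy5 : y ^ 5 = 1)
    (hyf : ∀ x, (y : X →ₗ[F] X) x = x → x = 0)
    (hBa : ∀ x z, B ((a : X →ₗ[F] X) x) ((a : X →ₗ[F] X) z) = B x z)
    (hBy : ∀ x z, B ((y : X →ₗ[F] X) x) ((y : X →ₗ[F] X) z) = B x z) : False := by
  classical
  have hF2 : ∀ c : F, c + c = 0 := fun c => by rw [← two_mul, two_eq_zero hF, zero_mul]
  have hBr : ∀ x y z, B x (y + z) = B x y + B x z := fun x y z => by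
    rw [hBs, hBl, hBs y, hBs z]
  have ha3 : ∀ x, (a : X →ₗ[F] X) ((a : X →ₗ[F] X) ((a : X →ₗ[F] X) x)) = x := by
    intro x
    rw [ha, ha, add_right_comm, add_self hF, zero_add]
  have haf : ∀ x, (a : X →ₗ[F] X) x = x → x = 0 := by
    intro x hx
    have h1 := ha x
    rw [hx, hx] at h1
    exact (left_eq_add.1 h1)
  have hacomm : ∀ x, (y : X →ₗ[F] X) ((a : X →ₗ[F] X) x) = (a : X →ₗ[F] X) ((y : X →ₗ[F] X) x) := fun x => by
    rw [← mul_app, hay, mul_app]
  obtain ⟨f, hf⟩ : ∃ f : X → F, ∀ v, f v = B v ((a : X →ₗ[F] X) v) := ⟨_, fun _ => rfl⟩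
  have hfadd : ∀ v w, f (v + w) = f v + f w + B v w := by
    intro v w
    have h1 : B w ((a : X →ₗ[F] X) v) = B v ((a : X →ₗ[F] X) w) + B v w := by
      rw [hBs w, ← hBa ((a : X →ₗ[F] X) v) w, ← hBa ((a : X →ₗ[F] X) ((a : X →ₗ[F] X) v)), ha3, ha, hBr]
    rw [hf, hf, hf, map_add, hBl, hBr, hBr, h1]
    have h2 := hF2 (B v ((a : X →ₗ[F] X) w))
    linear_combination h2
  have hfa : ∀ v, f ((a : X →ₗ[F] X) v) = f v := fun v => by rw [hf, hf, hBa]
  have hfy : ∀ v, f ((y : X →ₗ[F] X) v) = f v := fun v => by rw [hf, hf, ← hacomm, hBy]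
  set c := y * a with hc
  have hcy : Commute y a := hay
  have ha3' : a ^ 3 = 1 := by
    apply Units.ext
    refine LinearMap.ext fun x => ?_
    exact ha3 x
  have hc15 : c ^ 15 = 1 := by
    rw [hc, hcy.mul_pow, show 15 = 5 * 3 by norm_num, pow_mul, hy5, one_pow, one_mul, mul_comm 5 3, pow_mul, ha3',
      one_pow]
  have hfc : ∀ n : ℕ, ∀ v, f (((c ^ n : (X →ₗ[F] X)ˣ) : X →ₗ[F] X) v) = f v := by
    intro n
    induction n with
    | zero => intro v; rfl
    | succ n ih => intro v; rw [pow_succ, mul_app, ih, hc, mul_app, hfy, hfa]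
  have hfree : ∀ n : ℕ, 0 < n → n < 15 → ∀ v, ((c ^ n : (X →ₗ[F] X)ˣ) : X →ₗ[F] X) v = v → v = 0 := by
    intro n hn0 hn v hv
    have hyk : ∀ e, (n * e) % 15 = 6 → v = 0 := by
      intro e he
      have h1 := pow_app_fix hv e
      rw [← pow_mul, pow_eq_pow_mod (n * e) hc15, he, hc, hcy.mul_pow, show 6 = 5 + 1 by norm_num, pow_add y, hy5,
        one_mul, pow_one, show 5 + 1 = 3 * 2 by norm_num, pow_mul, ha3', one_pow, mul_one] at h1
      exact hyf v h1
    have hak : ∀ e, (n * e) % 15 = 10 → v = 0 := by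
      intro e he
      have h1 := pow_app_fix hv e
      rw [← pow_mul, pow_eq_pow_mod (n * e) hc15, he, hc, hcy.mul_pow, show 10 = 5 * 2 by norm_num, pow_mul y, hy5,
        one_pow, one_mul, show 5 * 2 = 3 * 3 + 1 by norm_num, pow_add, pow_mul, ha3', one_pow, one_mul, pow_one] at h1
      exact haf v h1
    interval_cases n
    · exact hyk 6 rfl
    · exact hyk 3 rfl
    · exact hyk 2 rfl
    · exact hyk 9 rfl
    · exact hak 2 rfl
    · exact hyk 1 rfl
    · exact hyk 3 rfl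
    · exact hyk 12 rfl
    · exact hyk 4 rfl
    · exact hak 1 rfl
    · exact hyk 6 rfl
    · exact hyk 3 rfl
    · exact hyk 12 rfl
    · exact hyk 9 rfl
  have hcard : Nat.card {x : X // x ≠ 0} = 15 := by
    have h1 : Nat.card X = 16 := by
      rw [Module.natCard_eq_pow_finrank (K := F), hF, hX]; norm_num
    have h2 : Nat.card X = Nat.card {x : X // x = 0} + Nat.card {x : X // ¬ x = 0} := by
      rw [← Nat.card_sum]
      exact Nat.card_congr (Equiv.sumCompl (fun x : X => x = 0)).symm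
    have h3 : Nat.card {x : X // x = 0} = 1 := Nat.card_unique
    rw [h1, h3] at h2
    show Nat.card {x : X // ¬ x = 0} = 15
    omega
  have htrans : ∀ v w : X, v ≠ 0 → w ≠ 0 → ∃ n : ℕ, ((c ^ n : (X →ₗ[F] X)ˣ) : X →ₗ[F] X) v = w := by
    intro v w hv hw
    let h : Fin 15 → {x : X // x ≠ 0} := fun i => ⟨((c ^ (i : ℕ) : (X →ₗ[F] X)ˣ) : X →ₗ[F] X) v, fun h =>
      hv (app_inj (c ^ (i : ℕ)) (by rw [h, map_zero]))⟩
    have hinj : Function.Injective h := by
      have aux : ∀ i j : Fin 15, i < j → h i ≠ h j := by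
        intro i j hij heq
        have h1 : ((c ^ (i : ℕ) : (X →ₗ[F] X)ˣ) : X →ₗ[F] X) v = ((c ^ (j : ℕ) : (X →ₗ[F] X)ˣ) : X →ₗ[F] X) v :=
          congrArg Subtype.val heq
        have hlt : (i : ℕ) < j := hij
        have h2 : (j : ℕ) = i + (j - i) := (Nat.add_sub_cancel' hlt.le).symm
        rw [h2, pow_add, mul_app] at h1
        have h3 := app_inj _ h1
        exact hv (hfree (j - i) (by omega) (by omega) v h3.symm)
      intro i j hij
      rcases lt_trichotomy i j with h' | h' | h'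
      · exact absurd hij (aux i j h')
      · exact h'
      · exact absurd hij.symm (aux j i h')
    have hbij := hinj.bijective_of_nat_card_le (by rw [hcard]; simp)
    obtain ⟨i, hi⟩ := hbij.2 ⟨w, hw⟩
    exact ⟨i, congrArg Subtype.val hi⟩
  have hconst : ∀ v w : X, v ≠ 0 → w ≠ 0 → f v = f w := by
    intro v w hv hw
    obtain ⟨n, hn⟩ := htrans v w hv hw
    rw [← hn, hfc]
  obtain ⟨v, w0, hvw⟩ := hB
  have hv : v ≠ 0 := by
    rintro rfl
    apply hvw
    have h1 := hBl 0 0 w0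
    rw [add_zero] at h1
    exact (left_eq_add.1 h1)
  have hBc : ∀ w, w ≠ 0 → w ≠ v → B v w = f v := by
    intro w hw hwv
    have h1 := hfadd v w
    have h2 : v + w ≠ 0 := by
      intro h
      apply hwv
      have h3 := add_self hF v
      rw [← h3] at h
      exact add_left_cancel h
    rw [hconst (v + w) v h2 hv, hconst w v hw hv, hF2, zero_add] at h1
    exact h1.symm
  have hw0 : w0 ≠ 0 := by
    rintro rfl
    apply hvw
    have h1 := hBr v 0 0
    rw [add_zero] at h1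
    exact (left_eq_add.1 h1)
  have hw0v : w0 ≠ v := by
    rintro rfl
    exact hvw (hB0 _)
  have hfv : f v ≠ 0 := by
    rw [← hBc w0 hw0 hw0v]; exact hvw
  -- `w = a v`, `w' = y v`
  have hav0 : (a : X →ₗ[F] X) v ≠ 0 := fun h => hv (app_inj a (by rw [h, map_zero]))
  have hav1 : (a : X →ₗ[F] X) v ≠ v := fun h => hv (haf v h)
  have hyv0 : (y : X →ₗ[F] X) v ≠ 0 := fun h => hv (app_inj y (by rw [h, map_zero]))
  have hyv1 : (y : X →ₗ[F] X) v ≠ v := fun h => hv (hyf v h)
  -- `y v ≠ a ^ k v`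
  have hy5c : c ^ 6 = y := by
    rw [hc, hcy.mul_pow, show 6 = 5 + 1 by norm_num, pow_add y, hy5,
        one_mul, pow_one, show 5 + 1 = 3 * 2 by norm_num, pow_mul, ha3', one_pow, mul_one]
  have hac : c ^ 10 = a := by
    rw [hc, hcy.mul_pow, show 10 = 5 * 2 by norm_num, pow_mul y, hy5,
        one_pow, one_mul, show 5 * 2 = 3 * 3 + 1 by norm_num, pow_add, pow_mul, ha3', one_pow, one_mul, pow_one]
  have hne1 : (y : X →ₗ[F] X) v ≠ (a : X →ₗ[F] X) v := by
    intro h
    rw [← hy5c, ← hac, show 10 = 6 + 4 by norm_num, pow_add c 6 4, mul_app] at h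
    exact hv (hfree 4 (by norm_num) (by norm_num) v (app_inj _ h).symm)
  have hne2 : (y : X →ₗ[F] X) v ≠ (a : X →ₗ[F] X) v + v := by
    intro h
    rw [← ha v, ← mul_app, ← hy5c, ← hac, ← pow_add, pow_eq_pow_mod (10 + 10) hc15,
      show (10 + 10) % 15 = 5 by norm_num, show 6 = 5 + 1 by norm_num, pow_add c 5 1, mul_app] at h
    exact hv (hfree 1 (by norm_num) (by norm_num) v (app_inj _ h))
  have hs0 : (a : X →ₗ[F] X) v + (y : X →ₗ[F] X) v ≠ 0 := by
    intro h
    apply hne1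
    have h3 := add_self hF ((a : X →ₗ[F] X) v)
    rw [← h3] at h
    exact add_left_cancel h
  have hs1 : (a : X →ₗ[F] X) v + (y : X →ₗ[F] X) v ≠ v := by
    intro h
    apply hne2
    calc (y : X →ₗ[F] X) v = (a : X →ₗ[F] X) v + (a : X →ₗ[F] X) v + (y : X →ₗ[F] X) v := by
          rw [add_self hF, zero_add]
      _ = (a : X →ₗ[F] X) v + v := by rw [add_assoc, h]
  have h1 := hBr v ((a : X →ₗ[F] X) v) ((y : X →ₗ[F] X) v)
  rw [hBc _ hs0 hs1, hBc _ hav0 hav1, hBc _ hyv0 hyv1, hF2] at h1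
  exact hfv h1

end Cfsg.Agent.H99.O8
end

-- part: H99/O8/Irr
section
/-!
# S3943, the row `Ω⁺₈(2)` (helper99): irreducible solvable linear groups containing elements of order 3 and 5
-/

set_option autoImplicit false
set_option linter.unusedSectionVars false

namespace Cfsg.Agent.H99.O8

open Module Subgroup Cfsg.Agent.H518.DghpFix Cfsg.Agent.H99.AS

universe u v w

variable {F : Type u} [Field F] [Fintype F] {X : Type v} [AddCommGroup X] [Module F X] [FiniteDimensional F X]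

theorem card_units {n : ℕ} (hF : Fintype.card F = 2) (hX : finrank F X = n) :
    Nat.card (X →ₗ[F] X)ˣ = ∏ i : Fin n, (2 ^ n - 2 ^ (i : ℕ)) := by
  have e : (X →ₗ[F] X)ˣ ≃* GL (Fin n) F :=
    Units.mapEquiv (LinearMap.toMatrixAlgEquiv (finBasisOfFinrankEq F X hX)).toMulEquiv
  rw [Nat.card_congr e.toEquiv, Matrix.card_GL_field, hF]

theorem card_units4 (hF : Fintype.card F = 2) (hX : finrank F X = 4) : Nat.card (X →ₗ[F] X)ˣ = 20160 := by
  rw [card_units hF hX]; decide

theorem card_units6 (hF : Fintype.card F = 2) (hX : finrank F X = 6) : Nat.card (X →ₗ[F] X)ˣ = 20158709760 := by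
  rw [card_units hF hX]
  simp only [Fin.prod_univ_succ, Fin.prod_univ_zero]
  norm_num

theorem card_units8 (hF : Fintype.card F = 2) (hX : finrank F X = 8) :
    Nat.card (X →ₗ[F] X)ˣ = 5348063769211699200 := by
  rw [card_units hF hX]
  simp only [Fin.prod_univ_succ, Fin.prod_univ_zero]
  norm_num

/-- restriction of a unit to an invariant subspace -/
def resU (W : Submodule F X) (g : (X →ₗ[F] X)ˣ) (h : ∀ w ∈ W, (g : X →ₗ[F] X) w ∈ W)
    (h' : ∀ w ∈ W, ((g⁻¹ : (X →ₗ[F] X)ˣ) : X →ₗ[F] X) w ∈ W) : (W →ₗ[F] W)ˣ where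
  val := (g : X →ₗ[F] X).restrict h
  inv := ((g⁻¹ : (X →ₗ[F] X)ˣ) : X →ₗ[F] X).restrict h'
  val_inv := LinearMap.ext fun w => Subtype.ext (app_inv g w)
  inv_val := LinearMap.ext fun w => Subtype.ext (inv_app g w)

theorem resU_apply (W : Submodule F X) (g : (X →ₗ[F] X)ˣ) (h h') (w : W) :
    ((((resU W g h h' : (W →ₗ[F] W)ˣ) : W →ₗ[F] W) w : W) : X) = (g : X →ₗ[F] X) w := rfl

theorem ord_two_five : orderOf ((2 : ℕ) : ZMod 5) = 4 := by
  rw [orderOf_eq_iff (by norm_num)]
  refine ⟨by decide, ?_⟩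
  intro m hm h0
  have : m = 1 ∨ m = 2 ∨ m = 3 := by omega
  rcases this with rfl | rfl | rfl <;> decide

theorem ord_two_seven : orderOf ((2 : ℕ) : ZMod 7) = 3 := by
  rw [orderOf_eq_iff (by norm_num)]
  refine ⟨by decide, ?_⟩
  intro m hm h0
  have : m = 1 ∨ m = 2 := by omega
  rcases this with rfl | rfl <;> decide

theorem ord_two_17 : orderOf ((2 : ℕ) : ZMod 17) = 8 := by
  rw [orderOf_eq_iff (by norm_num)]
  refine ⟨by decide, ?_⟩
  intro m hm h0
  have : m = 1 ∨ m = 2 ∨ m = 3 ∨ m = 4 ∨ m = 5 ∨ m = 6 ∨ m = 7 := by omega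
  rcases this with rfl | rfl | rfl | rfl | rfl | rfl | rfl <;> decide

/-- an element of order `r` fixes small invariant subspaces -/
theorem fix_small {r : ℕ} (hr : r.Prime) (hrF : ¬ r ∣ Fintype.card F) {e : ℕ}
    (he : orderOf ((Fintype.card F : ℕ) : ZMod r) = e) {g : (X →ₗ[F] X)ˣ} (hg : g ^ r = 1) (W : Submodule F X)
    (hW : ∀ w ∈ W, (g : X →ₗ[F] X) w ∈ W) (hlt : finrank F W < e) : ∀ w ∈ W, (g : X →ₗ[F] X) w = w := by
  have hg' : (g : X →ₗ[F] X) ^ r ^ 1 = 1 := by
    rw [pow_one, ← Units.val_pow_eq_pow_val, hg]; rfl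
  have h1 := finrank_fix hr hrF hg' W hW
  rw [he] at h1
  have h2 : finrank F ↥(W ⊓ fixS (g : X →ₗ[F] X)) ≤ finrank F W := Submodule.finrank_mono inf_le_left
  have h3 : finrank F W - finrank F ↥(W ⊓ fixS (g : X →ₗ[F] X)) = 0 :=
    Nat.eq_zero_of_dvd_of_lt h1 (by omega)
  have h4 : W ⊓ fixS (g : X →ₗ[F] X) = W := Submodule.eq_of_le_of_finrank_eq inf_le_left (by omega)
  intro w hw
  rw [← h4] at hw
  exact hw.2

/-- the data of an element `y` of order 5 acting irreducibly on `[X, y]` -/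
theorem irr_of {g : (X →ₗ[F] X)ˣ} (hF : Fintype.card F = 2) (hg : g ^ 5 = 1) {U : Submodule F X}
    (hU : finrank F U = 4) (hUf : ∀ u ∈ U, (g : X →ₗ[F] X) u = u → u = 0) (W : Submodule F X) (hW : W ≤ U)
    (hWg : ∀ w ∈ W, (g : X →ₗ[F] X) w ∈ W) : W = ⊥ ∨ W = U := by
  have hg' : (g : X →ₗ[F] X) ^ 5 ^ 1 = 1 := by
    rw [pow_one, ← Units.val_pow_eq_pow_val, hg]; rfl
  have h1 := finrank_fix (by norm_num) (by rw [hF]; norm_num) hg' W hWg
  have h2 : W ⊓ fixS (g : X →ₗ[F] X) = ⊥ := by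
    rw [Submodule.eq_bot_iff]
    rintro w ⟨h3, h4⟩
    exact hUf w (hW h3) h4
  rw [h2, finrank_bot, Nat.sub_zero, hF, ord_two_five] at h1
  have h3 : finrank F W ≤ 4 := hU ▸ Submodule.finrank_mono hW
  obtain ⟨m, hm⟩ := h1
  rcases Nat.eq_zero_or_pos m with h | h
  · left
    rw [h, mul_zero] at hm
    exact Submodule.finrank_eq_zero.1 hm
  · right
    exact Submodule.eq_of_le_of_finrank_eq hW (by omega)

variable {M : Type w} [Group M] [Finite M]

theorem natCard (hF : Fintype.card F = 2) : Nat.card F = 2 := by rw [Nat.card_eq_fintype_card, hF]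

/-- the prime 3 -/
theorem no_three (hF : Fintype.card F = 2) [Finite X] [Nontrivial X] (f : M →* (X →ₗ[F] X)ˣ)
    (hirr : ∀ W : Submodule F X, (∀ m, ∀ w ∈ W, (f m : X →ₗ[F] X) w ∈ W) → W = ⊥ ∨ W = ⊤)
    {A : Subgroup (X →ₗ[F] X)ˣ} (hAf : A ≤ f.range)
    (hab : ∀ a ∈ A, ∀ b ∈ A, a * b = b * a) (h3 : ∀ a ∈ A, a ^ 3 = 1)
    (hnA : ∀ m, ∀ a ∈ A, f m * a * (f m)⁻¹ ∈ A) (hfix : fixU A = ⊥) (hdim : finrank F X < 10)
    {y : M} (hy : f y ^ 5 = 1) {U : Submodule F X} (hU : finrank F U = 4)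
    (hUr : U = LinearMap.range ((f y : X →ₗ[F] X) - 1))
    (hUf : ∀ u ∈ U, (f y : X →ₗ[F] X) u = u → u = 0) (B : X → X → F)
    (hBl : ∀ x y z, B (x + y) z = B x z + B y z) (hBs : ∀ x y, B x y = B y x) (hB0 : ∀ x, B x x = 0)
    (hB : ∃ x ∈ U, ∃ z ∈ U, B x z ≠ 0)
    (hBf : ∀ m x z, B ((f m : X →ₗ[F] X) x) ((f m : X →ₗ[F] X) z) = B x z) : False := by
  have hcom := comm_five (natCard hF) hab h3 hfix f hirr hnA hy hdim
  have hUy : ∀ u ∈ U, (f y : X →ₗ[F] X) u ∈ U := by
    intro u hu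
    rw [hUr] at hu ⊢
    obtain ⟨w, rfl⟩ := hu
    refine ⟨(f y : X →ₗ[F] X) w, ?_⟩
    rw [LinearMap.sub_apply, LinearMap.sub_apply, Module.End.one_apply, Module.End.one_apply, map_sub]
  have hUa : ∀ a ∈ A, ∀ u ∈ U, (a : X →ₗ[F] X) u ∈ U := by
    intro a ha u hu
    rw [hUr] at hu ⊢
    obtain ⟨w, rfl⟩ := hu
    refine ⟨(a : X →ₗ[F] X) w, ?_⟩
    rw [LinearMap.sub_apply, LinearMap.sub_apply, Module.End.one_apply, Module.End.one_apply, map_sub, ← mul_app,
      hcom a ha, mul_app]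
  -- each `a` is trivial on `U`
  have htriv : ∀ a ∈ A, ∀ u ∈ U, (a : X →ₗ[F] X) u = u := by
    intro a ha
    have hc : ∀ x, (f y : X →ₗ[F] X) ((a : X →ₗ[F] X) x) = (a : X →ₗ[F] X) ((f y : X →ₗ[F] X) x) := fun x => by
      rw [← mul_app, hcom a ha, mul_app]
    rcases irr_of hF hy hU hUf (U ⊓ fixS (a : X →ₗ[F] X)) inf_le_left (fun w hw => ⟨hUy w hw.1, by
      show (a : X →ₗ[F] X) ((f y : X →ₗ[F] X) w) = (f y : X →ₗ[F] X) w
      rw [← hc, show (a : X →ₗ[F] X) w = w from hw.2]⟩) with h | h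
    · exfalso
      have hcube : ∀ x, (a : X →ₗ[F] X) ((a : X →ₗ[F] X) ((a : X →ₗ[F] X) x)) = x := by
        intro w
        have : a * a * a = 1 := by rw [← pow_two, ← pow_succ, h3 a ha]
        rw [← mul_app, ← mul_app, this]; rfl
      have hquad : ∀ u ∈ U, (a : X →ₗ[F] X) ((a : X →ₗ[F] X) u) = (a : X →ₗ[F] X) u + u := by
        intro u hu
        have hmem : (a : X →ₗ[F] X) ((a : X →ₗ[F] X) u) + (a : X →ₗ[F] X) u + u ∈ U ⊓ fixS (a : X →ₗ[F] X) := by
          refine ⟨Submodule.add_mem _ (Submodule.add_mem _ (hUa a ha _ (hUa a ha u hu)) (hUa a ha u hu)) hu, ?_⟩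
          show (a : X →ₗ[F] X) ((a : X →ₗ[F] X) ((a : X →ₗ[F] X) u) + (a : X →ₗ[F] X) u + u) =
            (a : X →ₗ[F] X) ((a : X →ₗ[F] X) u) + (a : X →ₗ[F] X) u + u
          rw [map_add, map_add, hcube]
          abel
        rw [h, Submodule.mem_bot, add_assoc] at hmem
        have e2 := add_self (natCard hF) ((a : X →ₗ[F] X) u + u)
        rw [← e2] at hmem
        exact add_right_cancel hmem
      have hUa' : ∀ u ∈ U, ((a⁻¹ : (X →ₗ[F] X)ˣ) : X →ₗ[F] X) u ∈ U := hUa a⁻¹ (inv_mem ha)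
      have hUy' : ∀ u ∈ U, (((f y)⁻¹ : (X →ₗ[F] X)ˣ) : X →ₗ[F] X) u ∈ U := by
        intro u hu
        have e1 : (f y)⁻¹ = f y * f y * f y * f y := by
          symm
          apply eq_inv_of_mul_eq_one_left
          rw [← hy]; simp only [pow_succ, pow_zero, one_mul]
        rw [e1]
        exact hUy _ (hUy _ (hUy _ (hUy u hu)))
      obtain ⟨x0, hx0, z0, hz0, hxz⟩ := hB
      obtain ⟨ma, hma⟩ := hAf ha
      refine no_torus (X := U) (natCard hF) hU (fun x z => B x z) (fun x z w => ?_) (fun x z => hBs x z)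
        (fun x => hB0 x) ⟨⟨x0, hx0⟩, ⟨z0, hz0⟩, hxz⟩ (a := resU U a (hUa a ha) hUa') (y := resU U (f y) hUy hUy')
        ?_ ?_ ?_ ?_ ?_ ?_
      · exact hBl x z w
      · apply Units.ext
        refine LinearMap.ext fun x => Subtype.ext ?_
        exact hc x
      · intro x
        exact Subtype.ext (hquad x x.2)
      · apply Units.ext
        refine LinearMap.ext fun x => Subtype.ext ?_
        have e1 : ∀ n : ℕ, ∀ x : U, (((resU U (f y) hUy hUy' ^ n : (U →ₗ[F] U)ˣ) : U →ₗ[F] U) x : X) =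
            ((f y ^ n : (X →ₗ[F] X)ˣ) : X →ₗ[F] X) x := by
          intro n
          induction n with
          | zero => intro x; rfl
          | succ n ih =>
            intro x
            rw [pow_succ, pow_succ, mul_app, mul_app, ih]
            rfl
        rw [e1, hy]
        rfl
      · intro x hx
        exact Subtype.ext (hUf x x.2 (congrArg Subtype.val hx))
      · intro x z
        show B ((a : X →ₗ[F] X) x) ((a : X →ₗ[F] X) z) = B x z
        rw [← hma]
        exact hBf ma x z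
      · intro x z
        exact hBf y x z
    · intro u hu
      rw [← h] at hu
      exact hu.2
  have h1 : U ≤ fixU A := fun u hu a ha => htriv a ha u hu
  rw [hfix, le_bot_iff] at h1
  rw [h1, finrank_bot] at hU
  norm_num at hU

theorem finite_units : Finite (X →ₗ[F] X)ˣ := by
  have : Finite F := Finite.of_fintype F
  have : Finite X := Module.finite_of_finite F
  have : Finite (X →ₗ[F] X) := Finite.of_injective (fun f : X →ₗ[F] X => (f : X → X)) DFunLike.coe_injective
  infer_instance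

/-- abelian groups of exponent `t` whose order is small are centralised -/
theorem comm_of_card {t k p : ℕ} (ht : t.Prime) (hp : p.Prime) (htp : t ≠ p) {A : Subgroup (X →ₗ[F] X)ˣ}
    (hA : ∀ a ∈ A, a ^ t = 1) {g : (X →ₗ[F] X)ˣ} (hg : g ^ p = 1) (hgA : ∀ a ∈ A, g * a * g⁻¹ ∈ A)
    (hcard : ¬ t ^ (k + 1) ∣ Nat.card (X →ₗ[F] X)ˣ) (h : ∀ j, 1 ≤ j → j ≤ k → ¬ p ∣ t ^ j - 1) :
    ∀ a ∈ A, g * a = a * g := by
  have hfin : Finite (X →ₗ[F] X)ˣ := finite_units
  have htf : Fact t.Prime := ⟨ht⟩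
  have hpA : IsPGroup t A := fun a => ⟨1, Subtype.ext (by rw [pow_one]; exact hA a a.2)⟩
  obtain ⟨m, hm⟩ := IsPGroup.iff_card.1 hpA
  have hmk : m ≤ k := by
    by_contra hcon
    apply hcard
    have h1 : t ^ m ∣ Nat.card (X →ₗ[F] X)ˣ := hm ▸ Subgroup.card_subgroup_dvd_card A
    exact (pow_dvd_pow t (by omega)).trans h1
  rcases (Nat.dvd_prime hp).1 (orderOf_dvd_of_pow_eq_one hg) with h1 | h1
  · rw [orderOf_eq_one_iff] at h1
    intro a _
    rw [h1, one_mul, mul_one]
  · exact cent_of_order hp h1 ht htp hm hgA fun j hj hj' => h j hj (hj'.trans hmk)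

theorem finite_X (F : Type u) [Field F] [Fintype F] (X : Type v) [AddCommGroup X] [Module F X]
    [FiniteDimensional F X] : Finite X := by
  have : Finite F := Finite.of_fintype F
  exact Module.finite_of_finite F

/-- `y` is not trivial -/
theorem nontriv {f : M →* (X →ₗ[F] X)ˣ} {y : M} {U : Submodule F X} (hU : finrank F U ≠ 0)
    (hUf : ∀ u ∈ U, (f y : X →ₗ[F] X) u = u → u = 0) : ∃ m, f m ≠ 1 := by
  refine ⟨y, fun h => hU ?_⟩
  have : U = ⊥ := by
    rw [Submodule.eq_bot_iff]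
    intro u hu
    exact hUf u hu (by rw [h]; rfl)
  rw [this, finrank_bot]

/-- **Dimension 6.** -/
theorem irr6 (hF : Fintype.card F = 2) (hX : finrank F X = 6) (hsol : Group.IsSolvable M) (f : M →* (X →ₗ[F] X)ˣ)
    (hirr : ∀ W : Submodule F X, (∀ m, ∀ w ∈ W, (f m : X →ₗ[F] X) w ∈ W) → W = ⊥ ∨ W = ⊤)
    {y : M} (hy : f y ^ 5 = 1) {U Z : Submodule F X} (hU : finrank F U = 4)
    (hUr : U = LinearMap.range ((f y : X →ₗ[F] X) - 1))
    (hUf : ∀ u ∈ U, (f y : X →ₗ[F] X) u = u → u = 0)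
    (hZ : finrank F Z = 2) (hZf : Z = fixS (f y : X →ₗ[F] X)) (B : X → X → F)
    (hBl : ∀ x y z, B (x + y) z = B x z + B y z) (hBs : ∀ x y, B x y = B y x) (hB0 : ∀ x, B x x = 0)
    (hB : ∃ x ∈ U, ∃ z ∈ U, B x z ≠ 0)
    (hBf : ∀ m x z, B ((f m : X →ₗ[F] X) x) ((f m : X →ₗ[F] X) z) = B x z) : False := by
  have hXf : Finite X := finite_X F X
  have hXn : Nontrivial X := Module.nontrivial_of_finrank_pos (R := F) (by omega)
  obtain ⟨t, ht, A, hAf, hA1, hab, hexp, hnA, hfix⟩ := exists_A hsol f hirr (nontriv (by rw [hU]; norm_num) hUf)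
  have h1 := prime_dvd ht hexp hfix
  have h2 : Nat.card X = 64 := by
    rw [Module.natCard_eq_pow_finrank (K := F), natCard hF, hX]; norm_num
  rw [h2] at h1
  have ht' : t = 3 ∨ t = 7 := by
    have h3 : t ∣ 3 ^ 2 * 7 := by rwa [show 3 ^ 2 * 7 = 64 - 1 by norm_num]
    rcases (ht.dvd_mul).1 h3 with h | h
    · exact Or.inl ((Nat.prime_dvd_prime_iff_eq ht (by norm_num)).1 (ht.dvd_of_dvd_pow h))
    · exact Or.inr ((Nat.prime_dvd_prime_iff_eq ht (by norm_num)).1 h)
  rcases ht' with rfl | rfl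
  · exact no_three hF f hirr hAf hab hexp hnA hfix (by omega) hy hU hUr hUf B hBl hBs hB0 hB hBf
  · have hcom := comm_of_card (k := 2) (p := 5) (by norm_num) (by norm_num) (by norm_num) hexp hy (hnA y)
      (by rw [card_units6 hF hX]; norm_num) (by
        intro j hj hj'
        interval_cases j <;> norm_num)
    have h3 : Z ≤ fixU A := by
      intro z hz a ha
      refine fix_small (r := 7) (by norm_num) (by rw [hF]; norm_num) (e := 3) (by rw [hF]; exact ord_two_seven)
        (hexp a ha) Z (fun w hw => ?_) (by omega) z hz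
      rw [hZf] at hw ⊢
      show (f y : X →ₗ[F] X) ((a : X →ₗ[F] X) w) = (a : X →ₗ[F] X) w
      rw [← mul_app, hcom a ha, mul_app]
      exact congrArg _ hw
    rw [hfix, le_bot_iff] at h3
    rw [h3, finrank_bot] at hZ
    norm_num at hZ

/-- 5-elements in dimension 4 -/
theorem mem_zpowers4 (hF : Fintype.card F = 2) (hX : finrank F X = 4) {g c : (X →ₗ[F] X)ˣ} (hg : g ^ 5 = 1)
    (hc : c ^ 5 = 1) (hc1 : c ≠ 1) (hgc : g * c = c * g) : g ∈ zpowers c := by
  have hfin : Finite (X →ₗ[F] X)ˣ := finite_units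
  by_cases hg1 : g = 1
  · rw [hg1]; exact one_mem _
  have hp5 : Fact (Nat.Prime 5) := ⟨by norm_num⟩
  exact Cfsg.Agent.H518.SU.comm_of_not_sq (r := 5) (by norm_num) (by rw [card_units4 hF hX]; norm_num) c g
    (orderOf_eq_prime hc hc1) (orderOf_eq_prime hg hg1) hgc.symm

/-- **Dimension 4, the normaliser of `⟨y⟩`.** -/
theorem norm5 (hF : Fintype.card F = 2) (hX : finrank F X = 4) (hsol : Group.IsSolvable M) (f : M →* (X →ₗ[F] X)ˣ)
    {y : M} (hy : f y ^ 5 = 1) (hyf : ∀ u, (f y : X →ₗ[F] X) u = u → u = 0) (B : X → X → F)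
    (hBl : ∀ x y z, B (x + y) z = B x z + B y z) (hBs : ∀ x y, B x y = B y x) (hB0 : ∀ x, B x x = 0)
    (hB : ∃ x z, B x z ≠ 0)
    (hBf : ∀ m x z, B ((f m : X →ₗ[F] X) x) ((f m : X →ₗ[F] X) z) = B x z) :
    ∀ m, f m * f y * (f m)⁻¹ ∈ zpowers (f y) := by
  have hXf : Finite X := finite_X F X
  have hXn : Nontrivial X := Module.nontrivial_of_finrank_pos (R := F) (by omega)
  have hfin : Finite (X →ₗ[F] X)ˣ := finite_units
  have htop : finrank F (⊤ : Submodule F X) = 4 := by rw [finrank_top, hX]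
  have hirr : ∀ W : Submodule F X, (∀ m, ∀ w ∈ W, (f m : X →ₗ[F] X) w ∈ W) → W = ⊥ ∨ W = ⊤ := fun W hW =>
    irr_of hF hy htop (fun u _ hu => hyf u hu) W le_top (hW y)
  have hr : (⊤ : Submodule F X) = LinearMap.range ((f y : X →ₗ[F] X) - 1) := by
    have h1 : LinearMap.ker ((f y : X →ₗ[F] X) - 1) = ⊥ := by
      rw [LinearMap.ker_eq_bot']
      intro u hu
      rw [LinearMap.sub_apply, Module.End.one_apply, sub_eq_zero] at hu
      exact hyf u hu
    exact (LinearMap.range_eq_top.2 (LinearMap.injective_iff_surjective.1 (LinearMap.ker_eq_bot.1 h1))).symm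
  obtain ⟨t, ht, A, hAf, hA1, hab, hexp, hnA, hfix⟩ := exists_A hsol f hirr
    (nontriv (U := ⊤) (by rw [htop]; norm_num) (fun u _ hu => hyf u hu))
  have h1 := prime_dvd ht hexp hfix
  have h2 : Nat.card X = 16 := by
    rw [Module.natCard_eq_pow_finrank (K := F), natCard hF, hX]; norm_num
  rw [h2] at h1
  have ht' : t = 3 ∨ t = 5 := by
    have h3 : t ∣ 3 * 5 := by rwa [show 3 * 5 = 16 - 1 by norm_num]
    rcases (ht.dvd_mul).1 h3 with h | h
    · exact Or.inl ((Nat.prime_dvd_prime_iff_eq ht (by norm_num)).1 h)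
    · exact Or.inr ((Nat.prime_dvd_prime_iff_eq ht (by norm_num)).1 h)
  rcases ht' with rfl | rfl
  · obtain ⟨x, z, hxz⟩ := hB
    exact (no_three hF f hirr hAf hab hexp hnA hfix (by omega) hy htop hr (fun u _ hu => hyf u hu) B hBl hBs hB0
      ⟨x, Submodule.mem_top, z, Submodule.mem_top, hxz⟩ hBf).elim
  · -- `y` centralises a nontrivial element of `A`
    have hp5 : Fact (Nat.Prime 5) := ⟨by norm_num⟩
    have hpA : IsPGroup 5 A := fun a => ⟨1, Subtype.ext (by rw [pow_one]; exact hexp a a.2)⟩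
    have hcent : ∃ c ∈ A, c ≠ 1 ∧ f y * c = c * f y := by
      have h3 := fix_modEq' (r := 5) (by norm_num) (y := f y) hy (S := (A : Set (X →ₗ[F] X)ˣ)) (hnA y)
      obtain ⟨k, hk⟩ := IsPGroup.iff_card.1 hpA
      have hk0 : k ≠ 0 := by
        rintro rfl
        exact hA1 (Subgroup.card_eq_one.1 (by rw [hk, pow_zero]))
      have h4 : (A : Set (X →ₗ[F] X)ˣ).ncard = 5 ^ k := by rw [← hk]; rfl
      rw [h4] at h3
      have h5 : 5 ∣ {s | s ∈ (A : Set (X →ₗ[F] X)ˣ) ∧ f y * s = s * f y}.ncard :=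
        (Nat.ModEq.dvd_iff h3 dvd_rfl).1 (dvd_pow_self 5 hk0)
      by_contra hcon
      push Not at hcon
      have h6 : {s | s ∈ (A : Set (X →ₗ[F] X)ˣ) ∧ f y * s = s * f y} = {1} := by
        ext s
        constructor
        · rintro ⟨hs1, hs2⟩
          by_contra hne
          exact hcon s hs1 hne hs2
        · rintro rfl
          exact ⟨one_mem A, by rw [mul_one, one_mul]⟩
      rw [h6, Set.ncard_singleton] at h5
      norm_num at h5
    obtain ⟨c, hc, hc1, hyc⟩ := hcent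
    have hyc' := mem_zpowers4 hF hX hy (hexp c hc) hc1 hyc
    have hyA : f y ∈ A := (zpowers_le.2 hc) hyc'
    intro m
    have h3 := hnA m _ hyA
    have hy1 : f y ≠ 1 := by
      intro h
      obtain ⟨z, hz⟩ := exists_ne (0 : X)
      exact hz (hyf z (by rw [h]; rfl))
    refine mem_zpowers4 hF hX ?_ hy hy1 (hab _ h3 _ hyA)
    rw [conj_pow, hy]; group

theorem exists_cent {p : ℕ} (hp : p.Prime) {A : Subgroup (X →ₗ[F] X)ˣ} (hexp : ∀ a ∈ A, a ^ p = 1) (hA1 : A ≠ ⊥)
    {g : (X →ₗ[F] X)ˣ} (hg : g ^ p = 1) (hgA : ∀ a ∈ A, g * a * g⁻¹ ∈ A) : ∃ c ∈ A, c ≠ 1 ∧ g * c = c * g := by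
  have hfin : Finite (X →ₗ[F] X)ˣ := finite_units
  have hpf : Fact p.Prime := ⟨hp⟩
  have hpA : IsPGroup p A := fun a => ⟨1, Subtype.ext (by rw [pow_one]; exact hexp a a.2)⟩
  have h3 := fix_modEq' (r := p) hp (y := g) hg (S := (A : Set (X →ₗ[F] X)ˣ)) hgA
  obtain ⟨k, hk⟩ := IsPGroup.iff_card.1 hpA
  have hk0 : k ≠ 0 := by
    rintro rfl
    exact hA1 (Subgroup.card_eq_one.1 (by rw [hk, pow_zero]))
  have h4 : (A : Set (X →ₗ[F] X)ˣ).ncard = p ^ k := by rw [← hk]; rfl
  rw [h4] at h3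
  have h5 : p ∣ {s | s ∈ (A : Set (X →ₗ[F] X)ˣ) ∧ g * s = s * g}.ncard :=
    (Nat.ModEq.dvd_iff h3 dvd_rfl).1 (dvd_pow_self p hk0)
  by_contra hcon
  push Not at hcon
  have h6 : {s | s ∈ (A : Set (X →ₗ[F] X)ˣ) ∧ g * s = s * g} = {1} := by
    ext s
    constructor
    · rintro ⟨hs1, hs2⟩
      by_contra hne
      exact hcon s hs1 hne hs2
    · rintro rfl
      exact ⟨one_mem A, by rw [mul_one, one_mul]⟩
  rw [h6, Set.ncard_singleton] at h5
  exact hp.one_lt.ne' (Nat.dvd_one.1 h5)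

theorem resU_pow (W : Submodule F X) (g : (X →ₗ[F] X)ˣ) (h h') (n : ℕ) (w : W) :
    ((((resU W g h h' ^ n : (W →ₗ[F] W)ˣ) : W →ₗ[F] W) w : W) : X) = ((g ^ n : (X →ₗ[F] X)ˣ) : X →ₗ[F] X) w := by
  induction n generalizing w with
  | zero => rfl
  | succ n ih =>
    rw [pow_succ, pow_succ, mul_app, mul_app, ih]
    rfl

/-- **Dimension 8.** -/
theorem irr8 (hF : Fintype.card F = 2) (hX : finrank F X = 8) (hsol : Group.IsSolvable M) (f : M →* (X →ₗ[F] X)ˣ)
    (hirr : ∀ W : Submodule F X, (∀ m, ∀ w ∈ W, (f m : X →ₗ[F] X) w ∈ W) → W = ⊥ ∨ W = ⊤)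
    {y z : M} (hy : f y ^ 5 = 1) (hz : f z ^ 3 = 1) (hyz : f y * f z = f z * f y)
    {U Z P H : Submodule F X} (hU : finrank F U = 4)
    (hUr : U = LinearMap.range ((f y : X →ₗ[F] X) - 1))
    (hUf : ∀ u ∈ U, (f y : X →ₗ[F] X) u = u → u = 0)
    (hZ : finrank F Z = 4) (hZf : Z = fixS (f y : X →ₗ[F] X)) (hUZ : U ⊔ Z = ⊤)
    (hP : finrank F P = 2) (hH : finrank F H = 2) (hHf : H = Z ⊓ fixS (f z : X →ₗ[F] X))
    (hPH : Z ≤ P ⊔ H) (hPr : ∀ w ∈ Z, (f z : X →ₗ[F] X) w - w ∈ P)
    (hPs : ∀ p ∈ P, ∃ w ∈ Z, (f z : X →ₗ[F] X) w - w = p) (B : X → X → F)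
    (hBl : ∀ x y z, B (x + y) z = B x z + B y z) (hBs : ∀ x y, B x y = B y x) (hB0 : ∀ x, B x x = 0)
    (hB : ∃ x ∈ U, ∃ z ∈ U, B x z ≠ 0)
    (hBf : ∀ m x z, B ((f m : X →ₗ[F] X) x) ((f m : X →ₗ[F] X) z) = B x z) : False := by
  have hXf : Finite X := finite_X F X
  have hXn : Nontrivial X := Module.nontrivial_of_finrank_pos (R := F) (by omega)
  have hfin : Finite (X →ₗ[F] X)ˣ := finite_units
  obtain ⟨t, ht, A, hAf, hA1, hab, hexp, hnA, hfix⟩ := exists_A hsol f hirr (nontriv (by rw [hU]; norm_num) hUf)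
  have h1 := prime_dvd ht hexp hfix
  have h2 : Nat.card X = 256 := by
    rw [Module.natCard_eq_pow_finrank (K := F), natCard hF, hX]; norm_num
  rw [h2] at h1
  have ht' : t = 3 ∨ t = 5 ∨ t = 17 := by
    have h3 : t ∣ 3 * 5 * 17 := by rwa [show 3 * 5 * 17 = 256 - 1 by norm_num]
    rcases (ht.dvd_mul).1 h3 with h | h
    · rcases (ht.dvd_mul).1 h with h | h
      · exact Or.inl ((Nat.prime_dvd_prime_iff_eq ht (by norm_num)).1 h)
      · exact Or.inr (Or.inl ((Nat.prime_dvd_prime_iff_eq ht (by norm_num)).1 h))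
    · exact Or.inr (Or.inr ((Nat.prime_dvd_prime_iff_eq ht (by norm_num)).1 h))
  -- `Z` is not fixed by `A`
  have hnot : ¬ Z ≤ fixU A := by
    intro h
    rw [hfix, le_bot_iff] at h
    rw [h, finrank_bot] at hZ
    norm_num at hZ
  -- elements commuting with `y`
  have hcZ : ∀ c : (X →ₗ[F] X)ˣ, f y * c = c * f y → ∀ w ∈ Z, (c : X →ₗ[F] X) w ∈ Z := by
    intro c hc w hw
    rw [hZf] at hw ⊢
    show (f y : X →ₗ[F] X) ((c : X →ₗ[F] X) w) = (c : X →ₗ[F] X) w
    rw [← mul_app, hc, mul_app]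
    exact congrArg _ hw
  have hcU : ∀ c : (X →ₗ[F] X)ˣ, f y * c = c * f y → ∀ w ∈ U, (c : X →ₗ[F] X) w ∈ U := by
    intro c hc w hw
    rw [hUr] at hw ⊢
    obtain ⟨x, rfl⟩ := hw
    refine ⟨(c : X →ₗ[F] X) x, ?_⟩
    rw [LinearMap.sub_apply, LinearMap.sub_apply, Module.End.one_apply, Module.End.one_apply, map_sub, ← mul_app, hc,
      mul_app]
  have hinv : ∀ c : (X →ₗ[F] X)ˣ, f y * c = c * f y → f y * c⁻¹ = c⁻¹ * f y := by
    intro c hc
    have : Commute (f y) c := hc
    exact this.inv_right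
  rcases ht' with rfl | rfl | rfl
  · exact no_three hF f hirr hAf hab hexp hnA hfix (by omega) hy hU hUr hUf B hBl hBs hB0 hB hBf
  · -- the centraliser of `y` in `A`
    have key : ∀ c ∈ A, f y * c = c * f y → ∀ w ∈ Z, (c : X →ₗ[F] X) w = w := by
      -- `z` commutes with the action on `Z`
      have hzc : f y * f z = f z * f y := hyz
      let A' : Subgroup (Z →ₗ[F] Z)ˣ :=
        { carrier := {g | ∃ c ∈ A, f y * c = c * f y ∧ ∀ w : Z, (((g : Z →ₗ[F] Z) w : Z) : X) = (c : X →ₗ[F] X) w}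
          one_mem' := ⟨1, one_mem A, by rw [mul_one, one_mul], fun w => rfl⟩
          mul_mem' := by
            rintro g g' ⟨c, hc, hc1, hc2⟩ ⟨c', hc', hc1', hc2'⟩
            refine ⟨c * c', mul_mem hc hc', ?_, fun w => ?_⟩
            · rw [← mul_assoc, hc1, mul_assoc, hc1', mul_assoc]
            · rw [mul_app, hc2, hc2', mul_app]
          inv_mem' := by
            rintro g ⟨c, hc, hc1, hc2⟩
            refine ⟨c⁻¹, inv_mem hc, hinv c hc1, fun w => ?_⟩
            apply app_inj c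
            rw [app_inv, ← hc2]
            exact congrArg Subtype.val (app_inv g w) }
      have hA' : ∀ g ∈ A', g ^ 5 = 1 := by
        rintro g ⟨c, hc, hc1, hc2⟩
        have hpow : ∀ n : ℕ, ∀ w : Z, ((((g ^ n : (Z →ₗ[F] Z)ˣ) : Z →ₗ[F] Z) w : Z) : X) =
            ((c ^ n : (X →ₗ[F] X)ˣ) : X →ₗ[F] X) w := by
          intro n
          induction n with
          | zero => intro w; rfl
          | succ n ih => intro w; rw [pow_succ, pow_succ, mul_app, mul_app, ih, hc2]
        apply Units.ext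
        refine LinearMap.ext fun w => Subtype.ext ?_
        rw [hpow, hexp c hc]; rfl
      have hzZ : ∀ w ∈ Z, (f z : X →ₗ[F] X) w ∈ Z := hcZ _ hyz
      have hzZ' : ∀ w ∈ Z, (((f z)⁻¹ : (X →ₗ[F] X)ˣ) : X →ₗ[F] X) w ∈ Z := hcZ _ (hinv _ hyz)
      have hcomm := comm_of_card (X := Z) (k := 1) (t := 5) (p := 3) (by norm_num) (by norm_num) (by norm_num) hA'
        (g := resU Z (f z) hzZ hzZ') (by
          apply Units.ext
          refine LinearMap.ext fun w => Subtype.ext ?_
          rw [resU_pow, hz]; rfl) (by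
          rintro g ⟨c, hc, hc1, hc2⟩
          refine ⟨f z * c * (f z)⁻¹, hnA z c hc, ?_, fun w => ?_⟩
          · have e1 : Commute (f y) (f z) := hyz
            have e2 : Commute (f y) c := hc1
            exact (e1.mul_right e2).mul_right e1.inv_right
          · rw [mul_app, mul_app, mul_app, mul_app, resU_apply, hc2]
            rfl)
        (by rw [card_units4 hF hZ]; norm_num) (by
          intro j hj hj'
          have : j = 1 := by omega
          rw [this]; norm_num)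
      intro c hc hyc
      have hcommZ : ∀ w ∈ Z, (f z : X →ₗ[F] X) ((c : X →ₗ[F] X) w) = (c : X →ₗ[F] X) ((f z : X →ₗ[F] X) w) := by
        intro w hw
        have h3 := hcomm (resU Z c (hcZ c hyc) (hcZ _ (hinv c hyc))) ⟨c, hc, hyc, fun w => rfl⟩
        have h4 := congrArg (fun g : (Z →ₗ[F] Z)ˣ => (((g : Z →ₗ[F] Z) ⟨w, hw⟩ : Z) : X)) h3
        exact h4
      have hcP : ∀ w ∈ P, (c : X →ₗ[F] X) w = w := by
        refine fix_small (r := 5) (by norm_num) (by rw [hF]; norm_num) (e := 4) (by rw [hF]; exact ord_two_five)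
          (hexp c hc) P (fun w hw => ?_) (by omega)
        obtain ⟨x, hx, rfl⟩ := hPs w hw
        rw [map_sub, ← hcommZ x hx]
        exact hPr _ (hcZ c hyc x hx)
      have hcH : ∀ w ∈ H, (c : X →ₗ[F] X) w = w := by
        refine fix_small (r := 5) (by norm_num) (by rw [hF]; norm_num) (e := 4) (by rw [hF]; exact ord_two_five)
          (hexp c hc) H (fun w hw => ?_) (by omega)
        rw [hHf] at hw ⊢
        refine ⟨hcZ c hyc w hw.1, ?_⟩
        show (f z : X →ₗ[F] X) ((c : X →ₗ[F] X) w) = (c : X →ₗ[F] X) w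
        rw [hcommZ w hw.1, show (f z : X →ₗ[F] X) w = w from hw.2]
      intro w hw
      obtain ⟨a, ha, b, hb, rfl⟩ := Submodule.mem_sup.1 (hPH hw)
      rw [map_add, hcP a ha, hcH b hb]
    obtain ⟨c, hc, hc1, hyc⟩ := exists_cent (by norm_num) hexp hA1 hy (hnA y)
    have hcUne : resU U c (hcU c hyc) (hcU _ (hinv c hyc)) ≠ 1 := by
      intro h
      apply hc1
      apply Units.ext
      refine LinearMap.ext fun x => ?_
      obtain ⟨a, ha, b, hb, rfl⟩ := Submodule.mem_sup.1 (hUZ ▸ (Submodule.mem_top : x ∈ ⊤))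
      have h3 : (c : X →ₗ[F] X) a = a :=
        congrArg (fun g : (U →ₗ[F] U)ˣ => (((g : U →ₗ[F] U) ⟨a, ha⟩ : U) : X)) h
      rw [map_add, h3, key c hc hyc b hb]
      rfl
    have hyU : ∀ w ∈ U, (f y : X →ₗ[F] X) w ∈ U := hcU _ rfl
    have hyU' : ∀ w ∈ U, (((f y)⁻¹ : (X →ₗ[F] X)ˣ) : X →ₗ[F] X) w ∈ U := hcU _ (hinv _ rfl)
    have h3 := mem_zpowers4 (X := U) hF hU (g := resU U (f y) hyU hyU')
      (c := resU U c (hcU c hyc) (hcU _ (hinv c hyc))) (by
        apply Units.ext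
        refine LinearMap.ext fun w => Subtype.ext ?_
        rw [resU_pow, hy]; rfl) (by
        apply Units.ext
        refine LinearMap.ext fun w => Subtype.ext ?_
        rw [resU_pow, hexp c hc]; rfl) hcUne (by
        apply Units.ext
        refine LinearMap.ext fun w => Subtype.ext ?_
        show (f y : X →ₗ[F] X) ((c : X →ₗ[F] X) w) = (c : X →ₗ[F] X) ((f y : X →ₗ[F] X) w)
        rw [← mul_app, hyc, mul_app])
    have hfU : Finite (U →ₗ[F] U)ˣ := finite_units
    obtain ⟨n, hn⟩ := (mem_powers_iff_mem_zpowers.2 h3)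
    have hyA : f y ∈ A := by
      have h4 : c ^ n = f y := by
        apply Units.ext
        refine LinearMap.ext fun x => ?_
        obtain ⟨a, ha, b, hb, rfl⟩ := Submodule.mem_sup.1 (hUZ ▸ (Submodule.mem_top : x ∈ ⊤))
        have h5 : ((c ^ n : (X →ₗ[F] X)ˣ) : X →ₗ[F] X) a = (f y : X →ₗ[F] X) a := by
          have h6 := congrArg (fun g : (U →ₗ[F] U)ˣ => (((g : U →ₗ[F] U) ⟨a, ha⟩ : U) : X)) hn
          rw [← resU_pow U c (hcU c hyc) (hcU _ (hinv c hyc)) n ⟨a, ha⟩]
          exact h6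
        have h7 : (f y : X →ₗ[F] X) b = b := by
          rw [hZf] at hb
          exact hb
        rw [map_add, map_add, h5, h7, pow_app_fix (key c hc hyc b hb)]
      rw [← h4]
      exact pow_mem hc n
    exact hnot fun w hw a ha => key a ha (hab _ hyA _ ha) w hw
  · have hcom := comm_of_card (k := 1) (p := 5) (by norm_num) (by norm_num) (by norm_num) hexp hy (hnA y)
      (by rw [card_units8 hF hX]; norm_num) (by
        intro j hj hj'
        have : j = 1 := by omega
        rw [this]; norm_num)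
    exact hnot fun w hw a ha => fix_small (r := 17) (by norm_num) (by rw [hF]; norm_num) (e := 8)
        (by rw [hF]; exact ord_two_17) (hexp a ha) Z (hcZ a (hcom a ha)) (by omega) w hw

theorem ord_two_three : orderOf ((2 : ℕ) : ZMod 3) = 2 := by
  rw [orderOf_eq_iff (by norm_num)]
  refine ⟨by decide, ?_⟩
  intro m hm h0
  have : m = 1 := by omega
  rcases this with rfl
  decide

/-- an element of order 3 preserving the quadratic form on a hyperbolic plane is trivial on it -/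
theorem cube_triv {g : (X →ₗ[F] X)ˣ} (hg : g ^ 3 = 1) {H : Submodule F X} {u1 u2 : X}
    (hH : ∀ w ∈ H, w = 0 ∨ w = u1 ∨ w = u2 ∨ w = u1 + u2) (hu1 : u1 ∈ H) (hu2 : u2 ∈ H) (Q : X → F)
    (h1 : Q u1 = 0) (h2 : Q u2 = 0) (h12 : Q (u1 + u2) = 1) (h01 : u1 ≠ 0) (h02 : u2 ≠ 0) (hne : u1 ≠ u2)
    (hgH : ∀ w ∈ H, (g : X →ₗ[F] X) w ∈ H) (hQ : ∀ x, Q ((g : X →ₗ[F] X) x) = Q x) :
    ∀ w ∈ H, (g : X →ₗ[F] X) w = w := by
  have hzero : ∀ {x : X}, (g : X →ₗ[F] X) x = 0 → x = 0 := fun {x} h => app_inj g (by rw [h, map_zero])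
  have hQ12 : ∀ {x : X}, Q x = 0 → (g : X →ₗ[F] X) x ≠ u1 + u2 := by
    intro x hx h
    have := hQ x
    rw [h, h12, hx] at this
    exact one_ne_zero this
  have hcube : ∀ x, (g : X →ₗ[F] X) ((g : X →ₗ[F] X) ((g : X →ₗ[F] X) x)) = x := by
    intro w
    have : g * g * g = 1 := by rw [← pow_two, ← pow_succ, hg]
    rw [← mul_app, ← mul_app, this]; rfl
  have e1 : (g : X →ₗ[F] X) u1 = u1 := by
    rcases hH _ (hgH _ hu1) with h | h | h | h
    · exact absurd (hzero h) h01
    · exact h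
    · exfalso
      rcases hH _ (hgH _ hu2) with h' | h' | h' | h'
      · exact h02 (hzero h')
      · have := hcube u1
        rw [h, h', h] at this
        exact hne this.symm
      · exact hne (app_inj g (by rw [h, h']))
      · exact hQ12 h2 h'
    · exact absurd h (hQ12 h1)
  have e2 : (g : X →ₗ[F] X) u2 = u2 := by
    rcases hH _ (hgH _ hu2) with h | h | h | h
    · exact absurd (hzero h) h02
    · exact absurd (app_inj g (by rw [h, e1])) hne
    · exact h
    · exact absurd h (hQ12 h2)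
  intro w hw
  rcases hH w hw with rfl | rfl | rfl | rfl
  · exact map_zero _
  · exact e1
  · exact e2
  · rw [map_add, e1, e2]

/-- **Dimension 4, with an element of order 3.** -/
theorem irr4 (hF : Fintype.card F = 2) (hX : finrank F X = 4) (hsol : Group.IsSolvable M) (f : M →* (X →ₗ[F] X)ˣ)
    (hirr : ∀ W : Submodule F X, (∀ m, ∀ w ∈ W, (f m : X →ₗ[F] X) w ∈ W) → W = ⊥ ∨ W = ⊤)
    {z : M} (hz : f z ^ 3 = 1) {P H : Submodule F X} (hP : finrank F P = 2) (hPf : ∀ p ∈ P, (f z : X →ₗ[F] X) p = p → p = 0)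
    (hPr : P = LinearMap.range ((f z : X →ₗ[F] X) - 1)) (hHf : H = fixS (f z : X →ₗ[F] X)) (hPH : P ⊔ H = ⊤)
    {u1 u2 : X} (hH : ∀ w ∈ H, w = 0 ∨ w = u1 ∨ w = u2 ∨ w = u1 + u2) (hu1 : u1 ∈ H) (hu2 : u2 ∈ H) (Q : X → F)
    (h1 : Q u1 = 0) (h2 : Q u2 = 0) (h12 : Q (u1 + u2) = 1) (h01 : u1 ≠ 0) (h02 : u2 ≠ 0) (hne : u1 ≠ u2)
    (hQ : ∀ m, ∀ x, Q ((f m : X →ₗ[F] X) x) = Q x) : False := by
  have hXf : Finite X := finite_X F X
  have hXn : Nontrivial X := Module.nontrivial_of_finrank_pos (R := F) (by omega)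
  have hfin : Finite (X →ₗ[F] X)ˣ := finite_units
  obtain ⟨t, ht, A, hAf, hA1, hab, hexp, hnA, hfix⟩ := exists_A hsol f hirr (nontriv (by rw [hP]; norm_num) hPf)
  have h3 := prime_dvd ht hexp hfix
  have h4 : Nat.card X = 16 := by
    rw [Module.natCard_eq_pow_finrank (K := F), natCard hF, hX]; norm_num
  rw [h4] at h3
  have ht' : t = 3 ∨ t = 5 := by
    have h5 : t ∣ 3 * 5 := by rwa [show 3 * 5 = 16 - 1 by norm_num]
    rcases (ht.dvd_mul).1 h5 with h | h
    · exact Or.inl ((Nat.prime_dvd_prime_iff_eq ht (by norm_num)).1 h)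
    · exact Or.inr ((Nat.prime_dvd_prime_iff_eq ht (by norm_num)).1 h)
  have hnot : ¬ H ≤ fixU A := by
    intro h
    rw [hfix, le_bot_iff] at h
    rw [h, Submodule.mem_bot] at hu1
    exact h01 hu1
  have hQA : ∀ a ∈ A, ∀ x, Q ((a : X →ₗ[F] X) x) = Q x := by
    intro a ha x
    obtain ⟨m, rfl⟩ := hAf ha
    exact hQ m x
  have hcH : ∀ c : (X →ₗ[F] X)ˣ, f z * c = c * f z → ∀ w ∈ H, (c : X →ₗ[F] X) w ∈ H := by
    intro c hc w hw
    rw [hHf] at hw ⊢
    show (f z : X →ₗ[F] X) ((c : X →ₗ[F] X) w) = (c : X →ₗ[F] X) w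
    rw [← mul_app, hc, mul_app]
    exact congrArg _ hw
  rcases ht' with rfl | rfl
  · obtain ⟨c, hc, hc1, hzc⟩ := exists_cent (by norm_num) hexp hA1 hz (hnA z)
    have htriv := cube_triv (hexp c hc) hH hu1 hu2 Q h1 h2 h12 h01 h02 hne (hcH c hzc) (hQA c hc)
    -- `fixS c = H`
    have hzP : ∀ w ∈ P, (f z : X →ₗ[F] X) w ∈ P := by
      intro w hw
      rw [hPr] at hw ⊢
      obtain ⟨x, rfl⟩ := hw
      refine ⟨(f z : X →ₗ[F] X) x, ?_⟩
      rw [LinearMap.sub_apply, LinearMap.sub_apply, Module.End.one_apply, Module.End.one_apply, map_sub]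
    have hint : P ⊓ fixS (c : X →ₗ[F] X) = ⊥ := by
      have hzf : ∀ w ∈ P ⊓ fixS (c : X →ₗ[F] X), (f z : X →ₗ[F] X) w ∈ P ⊓ fixS (c : X →ₗ[F] X) := by
        rintro w ⟨hw1, hw2⟩
        refine ⟨hzP w hw1, ?_⟩
        show (c : X →ₗ[F] X) ((f z : X →ₗ[F] X) w) = (f z : X →ₗ[F] X) w
        rw [← mul_app, ← hzc, mul_app, show (c : X →ₗ[F] X) w = w from hw2]
      by_cases hlt : finrank F ↥(P ⊓ fixS (c : X →ₗ[F] X)) < 2
      · have h5 := fix_small (r := 3) (by norm_num) (by rw [hF]; norm_num) (e := 2) (by rw [hF]; exact ord_two_three)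
          hz _ hzf hlt
        rw [Submodule.eq_bot_iff]
        intro w hw
        exact hPf w hw.1 (h5 w hw)
      · exfalso
        apply hc1
        have h5 : P ⊓ fixS (c : X →ₗ[F] X) = P := Submodule.eq_of_le_of_finrank_le inf_le_left (by omega)
        apply Units.ext
        refine LinearMap.ext fun x => ?_
        obtain ⟨a, ha, b, hb, rfl⟩ := Submodule.mem_sup.1 (hPH ▸ (Submodule.mem_top : x ∈ ⊤))
        rw [← h5] at ha
        rw [map_add, show (c : X →ₗ[F] X) a = a from ha.2, htriv b hb]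
        rfl
    have hfc : ∀ x, (c : X →ₗ[F] X) x = x → x ∈ H := by
      intro x hx
      obtain ⟨a, ha, b, hb, rfl⟩ := Submodule.mem_sup.1 (hPH ▸ (Submodule.mem_top : x ∈ ⊤))
      rw [map_add, htriv b hb, add_left_inj] at hx
      have h5 : a ∈ P ⊓ fixS (c : X →ₗ[F] X) := ⟨ha, hx⟩
      rw [hint, Submodule.mem_bot] at h5
      rw [h5, zero_add]
      exact hb
    have hAH : ∀ a ∈ A, ∀ w ∈ H, (a : X →ₗ[F] X) w ∈ H := by
      intro a ha w hw
      apply hfc
      rw [← mul_app, hab c hc a ha, mul_app, htriv w hw]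
    exact hnot fun w hw a ha => cube_triv (hexp a ha) hH hu1 hu2 Q h1 h2 h12 h01 h02 hne (hAH a ha) (hQA a ha) w hw
  · have hcom := comm_of_card (k := 1) (p := 3) (by norm_num) (by norm_num) (by norm_num) hexp hz (hnA z)
      (by rw [card_units4 hF hX]; norm_num) (by
        intro j hj hj'
        have : j = 1 := by omega
        rw [this]; norm_num)
    have hHlt : finrank F H < 4 := by
      have h5 := Submodule.finrank_lt (K := F) (V := X) (s := H) (by
        intro hHt
        have h6 : P = ⊥ := by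
          rw [Submodule.eq_bot_iff]
          intro p hp
          refine hPf p hp ?_
          have : p ∈ H := hHt ▸ Submodule.mem_top
          rw [hHf] at this
          exact this
        rw [h6, finrank_bot] at hP
        norm_num at hP)
      rwa [hX] at h5
    exact hnot fun w hw a ha => fix_small (r := 5) (by norm_num) (by rw [hF]; norm_num) (e := 4)
        (by rw [hF]; exact ord_two_five) (hexp a ha) H (hcH a (hcom a ha)) hHlt w hw

end Cfsg.Agent.H99.O8
end

-- part: H99/O8/Fix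
section
/-!
# S3943, the row `Ω⁺₈(2)` (helper99): solvable subgroups of `O⁺₈(2)` containing an element of order 15 have a fixed vector
-/

set_option autoImplicit false
set_option linter.unusedSectionVars false

namespace Cfsg.Agent.H99.O8

open Module Subgroup QuadraticMap Cfsg.Agent.H518.DghpFix Cfsg.Agent.H99.AS Cfsg.Agent.LieClassical.OrthCore
  Cfsg.Agent.LieClassical.OrthTrans

universe u v w

variable {F : Type u} [Field F] [Fintype F] {V : Type v} [AddCommGroup V] [Module F V] [FiniteDimensional F V]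

/-- the element `yz` of order 15 and its decomposition of `V` -/
structure Cfg (Q : QuadraticForm F V) (y z : V ≃ₗ[F] V) (U P : Submodule F V) (u1 u2 : V) : Prop where
  hF : Fintype.card F = 2
  nondeg : Nondeg Q
  dim : finrank F V = 8
  hU : finrank F U = 4
  hP : finrank F P = 2
  yO : y ∈ O Q
  zO : z ∈ O Q
  y5 : y ^ 5 = 1
  z3 : z ^ 3 = 1
  yz : y * z = z * y
  yU : ∀ v, y v - v ∈ U
  yUf : ∀ u ∈ U, y u = u → u = 0
  yP : ∀ p ∈ P, y p = p
  y1 : y u1 = u1
  y2 : y u2 = u2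
  zP : ∀ v, z v - v ∈ P
  zPf : ∀ p ∈ P, z p = p → p = 0
  zU : ∀ u ∈ U, z u = u
  z1 : z u1 = u1
  z2 : z u2 = u2
  hyp : Hyp Q u1 u2
  UP : ∀ u ∈ U, ∀ p ∈ P, polar Q u p = 0
  U1 : ∀ u ∈ U, polar Q u1 u = 0
  U2 : ∀ u ∈ U, polar Q u2 u = 0
  P1 : ∀ p ∈ P, polar Q u1 p = 0
  P2 : ∀ p ∈ P, polar Q u2 p = 0
  top : ∀ v, ∃ u ∈ U, ∃ p ∈ P, ∃ a b : F, v = u + p + (a • u1 + b • u2)
  QP : ∀ p ∈ P, p ≠ 0 → Q p = 1
  QU : {u | u ∈ U ∧ u ≠ 0 ∧ Q u = 0}.ncard ≤ 5

theorem eq01 (hF : Fintype.card F = 2) (a : F) : a = 0 ∨ a = 1 := by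
  classical
  by_contra h
  push Not at h
  have h1 : ({0, 1, a} : Finset F).card ≤ Fintype.card F := Finset.card_le_univ _
  have h2 : ({0, 1, a} : Finset F).card = 3 := by
    rw [Finset.card_eq_three]
    exact ⟨0, 1, a, zero_ne_one, h.1.symm, h.2.symm, rfl⟩
  omega

theorem two_zero (hF : Fintype.card F = 2) : (2 : F) = 0 := two_eq_zero (natCard hF)

theorem neg_eq (hF : Fintype.card F = 2) (v : V) : -v = v := by
  rw [neg_eq_iff_add_eq_zero, ← two_smul F v, two_zero hF, zero_smul]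

theorem self_add (hF : Fintype.card F = 2) (v : V) : v + v = 0 := by
  rw [← two_smul F v, two_zero hF, zero_smul]

variable {Q : QuadraticForm F V} {y z : V ≃ₗ[F] V} {U P : Submodule F V} {u1 u2 : V}

theorem polar_self0 (hF : Fintype.card F = 2) (v : V) : polar Q v v = 0 := by
  rw [polar_self', two_zero hF, zero_mul]

namespace Cfg

variable (C : Cfg Q y z U P u1 u2)
include C

theorem polar1 {u p : V} (hu : u ∈ U) (hp : p ∈ P) (a b : F) : polar Q u1 (u + p + (a • u1 + b • u2)) = b := by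
  rw [polar_add_right, polar_add_right, polar_add_right, polar_smul_right, polar_smul_right, C.U1 u hu, C.P1 p hp,
    C.hyp.polar_left, C.hyp.pair, smul_eq_mul, smul_eq_mul]
  ring

theorem polar2 {u p : V} (hu : u ∈ U) (hp : p ∈ P) (a b : F) : polar Q u2 (u + p + (a • u1 + b • u2)) = a := by
  rw [polar_add_right, polar_add_right, polar_add_right, polar_smul_right, polar_smul_right, C.U2 u hu, C.P2 p hp,
    C.hyp.polar_right, C.hyp.pair', smul_eq_mul, smul_eq_mul]
  ring

theorem polarU {u u' p : V} (hu : u ∈ U) (hp : p ∈ P) (a b : F) :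
    polar Q u (u' + p + (a • u1 + b • u2)) = polar Q u u' := by
  rw [polar_add_right, polar_add_right, polar_add_right, polar_smul_right, polar_smul_right, C.UP u hu p hp,
    polar_comm Q u u1, polar_comm Q u u2, C.U1 u hu, C.U2 u hu, smul_zero, smul_zero]
  ring

theorem polarP {u p' p : V} (hu : u ∈ U) (hp : p ∈ P) (a b : F) :
    polar Q p (u + p' + (a • u1 + b • u2)) = polar Q p p' := by
  rw [polar_add_right, polar_add_right, polar_add_right, polar_smul_right, polar_smul_right, polar_comm Q p u,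
    C.UP u hu p hp, polar_comm Q p u1, polar_comm Q p u2, C.P1 p hp, C.P2 p hp, smul_zero, smul_zero]
  ring

/-- `U` is nondegenerate -/
theorem ndU {u : V} (hu : u ∈ U) (h : ∀ u' ∈ U, polar Q u u' = 0) : u = 0 := by
  apply C.nondeg
  intro v
  obtain ⟨u', hu', p, hp, a, b, rfl⟩ := C.top v
  rw [C.polarU hu hp]
  exact h u' hu'

/-- `P` is nondegenerate -/
theorem ndP {p : V} (hp : p ∈ P) (h : ∀ p' ∈ P, polar Q p p' = 0) : p = 0 := by
  apply C.nondeg
  intro v
  obtain ⟨u, hu, p', hp', a, b, rfl⟩ := C.top v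
  rw [C.polarP hu hp]
  exact h p' hp'

theorem zero_of {u p : V} (hu : u ∈ U) (hp : p ∈ P) {a b : F} (h : u + p + (a • u1 + b • u2) = 0) :
    u = 0 ∧ p = 0 ∧ a = 0 ∧ b = 0 := by
  have hb := C.polar1 hu hp a b
  have ha := C.polar2 hu hp a b
  rw [h, polar_zero_right] at hb ha
  rw [← hb, ← ha, zero_smul, zero_smul, add_zero, add_zero] at h
  have hu0 : u = 0 := by
    apply C.ndU hu
    intro u' hu'
    rw [eq_neg_of_add_eq_zero_left h, polar_neg_left, polar_comm, C.UP u' hu' p hp, neg_zero]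
  rw [hu0, zero_add] at h
  exact ⟨hu0, h, ha.symm, hb.symm⟩

theorem inj_of {u p u' p' : V} (hu : u ∈ U) (hp : p ∈ P) (hu' : u' ∈ U) (hp' : p' ∈ P) {a b a' b' : F}
    (h : u + p + (a • u1 + b • u2) = u' + p' + (a' • u1 + b' • u2)) : u = u' ∧ p = p' ∧ a = a' ∧ b = b' := by
  have h1 : (u - u') + (p - p') + ((a - a') • u1 + (b - b') • u2) = 0 := by
    rw [sub_smul, sub_smul, ← sub_eq_zero.2 h]
    abel
  obtain ⟨e1, e2, e3, e4⟩ := C.zero_of (sub_mem hu hu') (sub_mem hp hp') h1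
  exact ⟨sub_eq_zero.1 e1, sub_eq_zero.1 e2, sub_eq_zero.1 e3, sub_eq_zero.1 e4⟩

theorem y_app {u p : V} (hp : p ∈ P) (a b : F) :
    y (u + p + (a • u1 + b • u2)) = y u + p + (a • u1 + b • u2) := by
  rw [map_add, map_add, map_add, map_smul, map_smul, C.yP p hp, C.y1, C.y2]

theorem z_app {u p : V} (hu : u ∈ U) (a b : F) :
    z (u + p + (a • u1 + b • u2)) = u + z p + (a • u1 + b • u2) := by
  rw [map_add, map_add, map_add, map_smul, map_smul, C.zU u hu, C.z1, C.z2]

theorem yU' {u : V} (hu : u ∈ U) : y u ∈ U := by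
  have := add_mem (C.yU u) hu
  rwa [sub_add_cancel] at this

theorem zP' {p : V} (hp : p ∈ P) : z p ∈ P := by
  have := add_mem (C.zP p) hp
  rwa [sub_add_cancel] at this

theorem y_fix_iff {u p : V} (hu : u ∈ U) (hp : p ∈ P) (a b : F) :
    y (u + p + (a • u1 + b • u2)) = u + p + (a • u1 + b • u2) ↔ u = 0 := by
  rw [C.y_app hp]
  constructor
  · intro h
    exact C.yUf u hu (C.inj_of (C.yU' hu) hp hu hp h).1
  · rintro rfl
    rw [map_zero]

theorem z_fix_iff {u p : V} (hu : u ∈ U) (hp : p ∈ P) (a b : F) :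
    z (u + p + (a • u1 + b • u2)) = u + p + (a • u1 + b • u2) ↔ p = 0 := by
  rw [C.z_app hu]
  constructor
  · intro h
    exact C.zPf p hp (C.inj_of hu (C.zP' hp) hu hp h).2.1
  · rintro rfl
    rw [map_zero]

theorem finrank_U_lt {W : Submodule F V} (hW : ∀ w ∈ W, y w ∈ W) {w : V} (hw : w ∈ W) (hne : y w ≠ w) : U ≤ W := by
  have h5 : ((LinearMap.GeneralLinearGroup.generalLinearEquiv F V).symm y) ^ 5 = 1 := by
    rw [← map_pow, C.y5, map_one]
  rcases irr_of C.hF h5 C.hU (fun u hu => C.yUf u hu) (W ⊓ U) inf_le_right (fun v hv =>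
    ⟨hW v hv.1, C.yU' hv.2⟩) with h | h
  · exfalso
    have h1 : y w - w ∈ W ⊓ U := ⟨sub_mem (hW w hw) hw, C.yU w⟩
    rw [h, Submodule.mem_bot, sub_eq_zero] at h1
    exact hne h1
  · rw [← h]; exact inf_le_left

theorem finrank_P_lt {W : Submodule F V} (hW : ∀ w ∈ W, z w ∈ W) {w : V} (hw : w ∈ W) (hne : z w ≠ w) : P ≤ W := by
  have h3 : ((LinearMap.GeneralLinearGroup.generalLinearEquiv F V).symm z) ^ 3 = 1 := by
    rw [← map_pow, C.z3, map_one]
  by_cases hlt : finrank F ↥(W ⊓ P) < 2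
  · exfalso
    have h1 : z w - w ∈ W ⊓ P := ⟨sub_mem (hW w hw) hw, C.zP w⟩
    have h2 := fix_small (r := 3) (by norm_num) (by rw [C.hF]; norm_num) (e := 2) (by rw [C.hF]; exact ord_two_three)
      h3 (W ⊓ P) (fun v hv => ⟨hW v hv.1, C.zP' hv.2⟩) hlt _ h1
    exact hne (sub_eq_zero.1 (C.zPf _ h1.2 h2))
  · have h1 : W ⊓ P = P := Submodule.eq_of_le_of_finrank_le inf_le_right (by have := C.hP; omega)
    rw [← h1]; exact inf_le_left

/-- components of vectors of an invariant subspace -/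
theorem compU {W : Submodule F V} (hW : ∀ w ∈ W, y w ∈ W) {u p : V} (hu : u ∈ U) (hp : p ∈ P) {a b : F}
    (h : u + p + (a • u1 + b • u2) ∈ W) : u ∈ W ∧ (u = 0 ∨ U ≤ W) := by
  by_cases h1 : y (u + p + (a • u1 + b • u2)) = u + p + (a • u1 + b • u2)
  · rw [C.y_fix_iff hu hp] at h1
    rw [h1]
    exact ⟨W.zero_mem, Or.inl rfl⟩
  · have h2 := C.finrank_U_lt hW h h1
    exact ⟨h2 hu, Or.inr h2⟩

theorem compP {W : Submodule F V} (hW : ∀ w ∈ W, z w ∈ W) {u p : V} (hu : u ∈ U) (hp : p ∈ P) {a b : F}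
    (h : u + p + (a • u1 + b • u2) ∈ W) : p ∈ W ∧ (p = 0 ∨ P ≤ W) := by
  by_cases h1 : z (u + p + (a • u1 + b • u2)) = u + p + (a • u1 + b • u2)
  · rw [C.z_fix_iff hu hp] at h1
    rw [h1]
    exact ⟨W.zero_mem, Or.inl rfl⟩
  · have h2 := C.finrank_P_lt hW h h1
    exact ⟨h2 hp, Or.inr h2⟩

theorem compH {W : Submodule F V} (hy : ∀ w ∈ W, y w ∈ W) (hz : ∀ w ∈ W, z w ∈ W) {u p : V} (hu : u ∈ U) (hp : p ∈ P)
    {a b : F} (h : u + p + (a • u1 + b • u2) ∈ W) : a • u1 + b • u2 ∈ W := by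
  have h1 := sub_mem h (add_mem (C.compU hy hu hp h).1 (C.compP hz hu hp h).1)
  rwa [add_sub_cancel_left] at h1

/-- the radical of an invariant subspace is in `H` -/
theorem rad_mem {W : Submodule F V} (hy : ∀ w ∈ W, y w ∈ W) (hz : ∀ w ∈ W, z w ∈ W) {u p : V} (hu : u ∈ U) (hp : p ∈ P)
    {a b : F} (h : u + p + (a • u1 + b • u2) ∈ W)
    (hrad : ∀ w ∈ W, polar Q (u + p + (a • u1 + b • u2)) w = 0) : u = 0 ∧ p = 0 := by
  constructor
  · rcases (C.compU hy hu hp h).2 with h1 | h1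
    · exact h1
    · apply C.ndU hu
      intro u' hu'
      have h2 := hrad u' (h1 hu')
      rwa [polar_comm, C.polarU hu' hp, polar_comm] at h2
  · rcases (C.compP hz hu hp h).2 with h1 | h1
    · exact h1
    · apply C.ndP hp
      intro p' hp'
      have h2 := hrad p' (h1 hp')
      rwa [polar_comm, C.polarP hu hp', polar_comm] at h2

theorem hcases (a b : F) : a • u1 + b • u2 = 0 ∨ a • u1 + b • u2 = u1 ∨ a • u1 + b • u2 = u2 ∨
    a • u1 + b • u2 = u1 + u2 := by
  rcases eq01 C.hF a with rfl | rfl <;> rcases eq01 C.hF b with rfl | rfl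
  · left; rw [zero_smul, zero_smul, add_zero]
  · right; right; left; rw [zero_smul, zero_add, one_smul]
  · right; left; rw [zero_smul, add_zero, one_smul]
  · right; right; right; rw [one_smul, one_smul]

theorem ne12 : u1 ≠ u2 := by
  intro h
  have h1 := C.hyp.pair
  rw [← h, C.hyp.polar_left] at h1
  exact zero_ne_one h1

theorem ne_n : u1 + u2 ≠ 0 := by
  intro h
  have h1 := C.hyp.pair
  rw [eq_neg_of_add_eq_zero_right h, polar_neg_right, C.hyp.polar_left, neg_zero] at h1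
  exact zero_ne_one h1

theorem Qn : Q (u1 + u2) = 1 := by
  rw [Q_add, C.hyp.left, C.hyp.right, C.hyp.pair]
  ring

end Cfg

/-- the plane `H` -/
def HH (F : Type u) [Field F] {V : Type v} [AddCommGroup V] [Module F V] (u1 u2 : V) : Submodule F V :=
  Submodule.span F {u1, u2}

omit [Fintype F] [FiniteDimensional F V] in
theorem mem_HH {v : V} : v ∈ HH F u1 u2 ↔ ∃ a b : F, a • u1 + b • u2 = v := Submodule.mem_span_pair

/-- the orthogonal complement -/
def perp (Q : QuadraticForm F V) (W : Submodule F V) : Submodule F V where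
  carrier := {x | ∀ w ∈ W, polar Q w x = 0}
  zero_mem' := fun w _ => polar_zero_right Q w
  add_mem' := fun {a b} ha hb w hw => by rw [polar_add_right, ha w hw, hb w hw, add_zero]
  smul_mem' := fun c x hx w hw => by rw [polar_smul_right, hx w hw, smul_zero]

/-- restriction of a group of linear maps to an invariant subspace -/
def resM (M : Subgroup (V ≃ₗ[F] V)) (X : Submodule F V) (hX : ∀ m ∈ M, ∀ x ∈ X, m x ∈ X) : M →* (X →ₗ[F] X)ˣ where
  toFun m :=
    { val := ((m : V ≃ₗ[F] V) : V →ₗ[F] V).restrict (hX m m.2)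
      inv := (((m⁻¹ : M) : V ≃ₗ[F] V) : V →ₗ[F] V).restrict (hX _ (m⁻¹).2)
      val_inv := LinearMap.ext fun x => Subtype.ext (LinearEquiv.apply_symm_apply (m : V ≃ₗ[F] V) x)
      inv_val := LinearMap.ext fun x => Subtype.ext (LinearEquiv.symm_apply_apply (m : V ≃ₗ[F] V) x) }
  map_one' := Units.ext (LinearMap.ext fun _ => rfl)
  map_mul' _ _ := Units.ext (LinearMap.ext fun _ => rfl)

namespace Cfg

variable (C : Cfg Q y z U P u1 u2)
include C

theorem mem_PH {v : V} : v ∈ P ⊔ HH F u1 u2 ↔ y v = v := by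
  constructor
  · intro h
    obtain ⟨p, hp, h', hh, rfl⟩ := Submodule.mem_sup.1 h
    obtain ⟨a, b, rfl⟩ := mem_HH.1 hh
    rw [map_add, map_add, map_smul, map_smul, C.yP p hp, C.y1, C.y2]
  · intro h
    obtain ⟨u, hu, p, hp, a, b, rfl⟩ := C.top v
    rw [C.y_fix_iff hu hp] at h
    rw [h, zero_add]
    exact add_mem (Submodule.mem_sup_left hp) (Submodule.mem_sup_right (mem_HH.2 ⟨a, b, rfl⟩))

theorem mem_UH {v : V} : v ∈ U ⊔ HH F u1 u2 ↔ z v = v := by
  constructor
  · intro h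
    obtain ⟨p, hp, h', hh, rfl⟩ := Submodule.mem_sup.1 h
    obtain ⟨a, b, rfl⟩ := mem_HH.1 hh
    rw [map_add, map_add, map_smul, map_smul, C.zU p hp, C.z1, C.z2]
  · intro h
    obtain ⟨u, hu, p, hp, a, b, rfl⟩ := C.top v
    rw [C.z_fix_iff hu hp] at h
    rw [h, add_zero]
    exact add_mem (Submodule.mem_sup_left hu) (Submodule.mem_sup_right (mem_HH.2 ⟨a, b, rfl⟩))

theorem mem_H {v : V} : v ∈ HH F u1 u2 ↔ y v = v ∧ z v = v := by
  constructor
  · intro h
    exact ⟨C.mem_PH.1 (Submodule.mem_sup_right h), C.mem_UH.1 (Submodule.mem_sup_right h)⟩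
  · rintro ⟨h1, h2⟩
    obtain ⟨u, hu, p, hp, a, b, rfl⟩ := C.top v
    rw [C.y_fix_iff hu hp] at h1
    rw [C.z_fix_iff hu hp] at h2
    rw [h1, h2, zero_add, zero_add]
    exact mem_HH.2 ⟨a, b, rfl⟩

theorem H_cases {v : V} (hv : v ∈ HH F u1 u2) : v = 0 ∨ v = u1 ∨ v = u2 ∨ v = u1 + u2 := by
  obtain ⟨a, b, rfl⟩ := mem_HH.1 hv
  exact C.hcases a b

theorem finrank_H : finrank F (HH F u1 u2) = 2 := by
  have hli : LinearIndependent F ![u1, u2] := by
    rw [LinearIndependent.pair_iff]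
    intro a b h
    have h1 := C.zero_of (u := 0) (p := 0) U.zero_mem P.zero_mem (a := a) (b := b) (by rw [h]; simp)
    exact h1.2.2
  have h1 := finrank_span_eq_card hli
  have h2 : HH F u1 u2 = Submodule.span F (Set.range ![u1, u2]) := by
    rw [HH]
    congr 1
    simp [Matrix.range_cons, Set.pair_comm]
  rw [h2, h1]
  rfl

theorem finrank_PH : finrank F ↥(P ⊔ HH F u1 u2) = 4 := by
  have h1 := Submodule.finrank_sup_add_finrank_inf_eq P (HH F u1 u2)
  have h2 : P ⊓ HH F u1 u2 = ⊥ := by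
    rw [Submodule.eq_bot_iff]
    rintro v ⟨h2, h3⟩
    exact C.zPf v h2 (C.mem_H.1 h3).2
  rw [h2, finrank_bot, C.hP, C.finrank_H] at h1
  omega

theorem finrank_UH : finrank F ↥(U ⊔ HH F u1 u2) = 6 := by
  have h1 := Submodule.finrank_sup_add_finrank_inf_eq U (HH F u1 u2)
  have h2 : U ⊓ HH F u1 u2 = ⊥ := by
    rw [Submodule.eq_bot_iff]
    rintro v ⟨h2, h3⟩
    exact C.yUf v h2 (C.mem_H.1 h3).1
  rw [h2, finrank_bot, C.hU, C.finrank_H] at h1
  omega

theorem U_surj {u : V} (hu : u ∈ U) : ∃ w ∈ U, y w - w = u := by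
  have hinj : LinearMap.ker (((y : V →ₗ[F] V) - 1).restrict (p := U) (q := U) (fun v _ => C.yU v)) = ⊥ := by
    rw [LinearMap.ker_eq_bot']
    intro w hw
    have h1 := congrArg Subtype.val hw
    exact Subtype.ext (C.yUf w w.2 (sub_eq_zero.1 h1))
  obtain ⟨w, hw⟩ := (LinearMap.injective_iff_surjective.1 (LinearMap.ker_eq_bot.1 hinj)) ⟨u, hu⟩
  exact ⟨w, w.2, congrArg Subtype.val hw⟩

theorem P_surj {u : V} (hu : u ∈ P) : ∃ w ∈ P, z w - w = u := by
  have hinj : LinearMap.ker (((z : V →ₗ[F] V) - 1).restrict (p := P) (q := P) (fun v _ => C.zP v)) = ⊥ := by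
    rw [LinearMap.ker_eq_bot']
    intro w hw
    have h1 := congrArg Subtype.val hw
    exact Subtype.ext (C.zPf w w.2 (sub_eq_zero.1 h1))
  obtain ⟨w, hw⟩ := (LinearMap.injective_iff_surjective.1 (LinearMap.ker_eq_bot.1 hinj)) ⟨u, hu⟩
  exact ⟨w, w.2, congrArg Subtype.val hw⟩

theorem U_nd : ∃ x ∈ U, ∃ w ∈ U, polar Q x w ≠ 0 := by
  have : Nontrivial U := Module.nontrivial_of_finrank_pos (R := F) (by rw [C.hU]; norm_num)
  obtain ⟨x, hx⟩ := exists_ne (0 : U)
  by_contra hcon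
  push Not at hcon
  exact hx (Subtype.ext (C.ndU x.2 (fun u' hu' => hcon x x.2 u' hu')))

/-- **The minimal subspace is irreducible.** -/
theorem min_irr {M : Subgroup (V ≃ₗ[F] V)} (hMO : M ≤ O Q) (hy : y ∈ M) (hz : z ∈ M)
    (hno : ∀ w, (w = u1 ∨ w = u2 ∨ w = u1 + u2) → ¬ ∀ m ∈ M, m w = w) {X : Submodule F V}
    (hX : ∀ m ∈ M, ∀ x ∈ X, m x ∈ X) (h1 : u1 ∈ X) (h2 : u2 ∈ X)
    (hmin : ∀ W ≤ X, (∀ m ∈ M, ∀ x ∈ W, m x ∈ W) → u1 ∈ W → u2 ∈ W → W = X) (W : Submodule F V) (hWX : W ≤ X)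
    (hW : ∀ m ∈ M, ∀ x ∈ W, m x ∈ W) : W = ⊥ ∨ W = X := by
  have hWy : ∀ w ∈ W, y w ∈ W := hW y hy
  have hWz : ∀ w ∈ W, z w ∈ W := hW z hz
  by_cases hb : u1 ∈ W ∧ u2 ∈ W
  · exact Or.inr (hmin W hWX hW hb.1 hb.2)
  by_cases hw : ∃ w ∈ W, w = u1 ∨ w = u2 ∨ w = u1 + u2
  · exfalso
    obtain ⟨w, hwW, hw⟩ := hw
    have huniq : ∀ a b : F, a • u1 + b • u2 ∈ W → a • u1 + b • u2 = 0 ∨ a • u1 + b • u2 = w := by
      intro a b hab
      by_contra hcon
      push Not at hcon
      apply hb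
      have key : ∀ c d : V, c ∈ W → d ∈ W → (c = u1 ∨ c = u2 ∨ c = u1 + u2) → (d = u1 ∨ d = u2 ∨ d = u1 + u2) →
          c ≠ d → u1 ∈ W ∧ u2 ∈ W := by
        intro c d hc hd hc' hd' hne
        rcases hc' with rfl | rfl | rfl <;> rcases hd' with rfl | rfl | rfl
        · exact absurd rfl hne
        · exact ⟨hc, hd⟩
        · exact ⟨hc, by have := sub_mem hd hc; rwa [add_sub_cancel_left] at this⟩
        · exact ⟨hd, hc⟩
        · exact absurd rfl hne
        · exact ⟨by have := sub_mem hd hc; rwa [add_sub_cancel_right] at this, hc⟩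
        · exact ⟨hd, by have := sub_mem hc hd; rwa [add_sub_cancel_left] at this⟩
        · exact ⟨by have := sub_mem hc hd; rwa [add_sub_cancel_right] at this, hd⟩
        · exact absurd rfl hne
      refine key (a • u1 + b • u2) w hab hwW ?_ hw hcon.2
      rcases C.hcases a b with h | h
      · exact absurd h hcon.1
      · exact h
    have hwU : ∀ u ∈ U, polar Q w u = 0 := by
      intro u hu
      rcases hw with rfl | rfl | rfl
      · exact C.U1 u hu
      · exact C.U2 u hu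
      · rw [polar_add_left, C.U1 u hu, C.U2 u hu, add_zero]
    have hwP : ∀ u ∈ P, polar Q w u = 0 := by
      intro u hu
      rcases hw with rfl | rfl | rfl
      · exact C.P1 u hu
      · exact C.P2 u hu
      · rw [polar_add_left, C.P1 u hu, C.P2 u hu, add_zero]
    have hw0 : w ≠ 0 := by
      rcases hw with rfl | rfl | rfl
      · exact C.hyp.left_ne
      · exact C.hyp.right_ne
      · exact C.ne_n
    have hrad : ∀ v ∈ W, polar Q w v = 0 := by
      intro v hv
      obtain ⟨u, hu, p, hp, a, b, rfl⟩ := C.top v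
      have h3 := C.compH hWy hWz hu hp hv
      rw [polar_add_right, polar_add_right, hwU u hu, hwP p hp, zero_add, zero_add]
      rcases huniq a b h3 with h | h
      · rw [h, polar_zero_right]
      · rw [h, polar_self0 C.hF]
    apply hno w hw
    intro m hm
    have hmO := hMO hm
    obtain ⟨u, hu, p, hp, a, b, he⟩ := C.top (m w)
    have h3 : u + p + (a • u1 + b • u2) ∈ W := he ▸ hW m hm w hwW
    have h4 := C.rad_mem hWy hWz hu hp h3 (by
      intro v hv
      rw [← he]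
      have h5 := polar_map hmO w (m⁻¹ v)
      rw [show m (m⁻¹ v) = v from LinearEquiv.apply_symm_apply m v] at h5
      rw [h5]
      exact hrad _ (hW m⁻¹ (inv_mem hm) v hv))
    rw [h4.1, h4.2, zero_add, zero_add] at he h3
    rcases huniq a b h3 with h | h
    · exfalso
      rw [h] at he
      exact hw0 (m.injective (by rw [he, map_zero]))
    · rw [he, h]
  · left
    have hH0 : ∀ a b : F, a • u1 + b • u2 ∈ W → a • u1 + b • u2 = 0 := by
      intro a b hab
      rcases C.hcases a b with h | h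
      · exact h
      · exact absurd ⟨_, hab, h⟩ hw
    have hperp : ∀ v ∈ W, polar Q u1 v = 0 ∧ polar Q u2 v = 0 := by
      intro v hv
      obtain ⟨u, hu, p, hp, a, b, rfl⟩ := C.top v
      have h3 := hH0 a b (C.compH hWy hWz hu hp hv)
      constructor
      · rw [h3, polar_add_right, polar_add_right, C.U1 u hu, C.P1 p hp, polar_zero_right, add_zero, add_zero]
      · rw [h3, polar_add_right, polar_add_right, C.U2 u hu, C.P2 p hp, polar_zero_right, add_zero, add_zero]
    have h3 : X ⊓ perp Q W = X := by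
      refine hmin (X ⊓ perp Q W) inf_le_left ?_ ⟨h1, ?_⟩ ⟨h2, ?_⟩
      · intro m hm x hx
        refine ⟨hX m hm x hx.1, ?_⟩
        intro w hw
        have h5 := polar_map (hMO hm) (m⁻¹ w) x
        rw [show m (m⁻¹ w) = w from LinearEquiv.apply_symm_apply m w] at h5
        rw [h5]
        exact hx.2 _ (hW m⁻¹ (inv_mem hm) w hw)
      · intro w hw
        rw [polar_comm]
        exact (hperp w hw).1
      · intro w hw
        rw [polar_comm]
        exact (hperp w hw).2
    rw [Submodule.eq_bot_iff]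
    intro v hv
    obtain ⟨u, hu, p, hp, a, b, rfl⟩ := C.top v
    have h4 := C.rad_mem hWy hWz hu hp hv (by
      intro w hw
      have h5 : u + p + (a • u1 + b • u2) ∈ X ⊓ perp Q W := h3.symm ▸ hWX hv
      rw [polar_comm]
      exact h5.2 w hw)
    rw [h4.1, h4.2, zero_add, zero_add] at hv ⊢
    exact hH0 a b hv

theorem finrank_comap {X W : Submodule F V} (h : W ≤ X) : finrank F ↥(W.comap X.subtype) = finrank F W :=
  (Submodule.comapSubtypeEquivOfLe h).finrank_eq

theorem resM_y5 {M : Subgroup (V ≃ₗ[F] V)} (hy : y ∈ M) {X : Submodule F V} (hX : ∀ m ∈ M, ∀ x ∈ X, m x ∈ X) :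
    resM M X hX ⟨y, hy⟩ ^ 5 = 1 := by
  rw [← map_pow, show (⟨y, hy⟩ : M) ^ 5 = 1 from Subtype.ext C.y5, map_one]

theorem resM_z3 {M : Subgroup (V ≃ₗ[F] V)} (hz : z ∈ M) {X : Submodule F V} (hX : ∀ m ∈ M, ∀ x ∈ X, m x ∈ X) :
    resM M X hX ⟨z, hz⟩ ^ 3 = 1 := by
  rw [← map_pow, show (⟨z, hz⟩ : M) ^ 3 = 1 from Subtype.ext C.z3, map_one]

theorem resM_Ur {M : Subgroup (V ≃ₗ[F] V)} (hy : y ∈ M) {X : Submodule F V} (hX : ∀ m ∈ M, ∀ x ∈ X, m x ∈ X)
    (hUX : U ≤ X) : U.comap X.subtype = LinearMap.range ((resM M X hX ⟨y, hy⟩ : X →ₗ[F] X) - 1) := by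
  ext x
  constructor
  · intro hx
    obtain ⟨w, hw, he⟩ := C.U_surj hx
    exact ⟨⟨w, hUX hw⟩, Subtype.ext he⟩
  · rintro ⟨w, rfl⟩
    exact C.yU w

theorem resM_Pr {M : Subgroup (V ≃ₗ[F] V)} (hz : z ∈ M) {X : Submodule F V} (hX : ∀ m ∈ M, ∀ x ∈ X, m x ∈ X)
    (hPX : P ≤ X) : P.comap X.subtype = LinearMap.range ((resM M X hX ⟨z, hz⟩ : X →ₗ[F] X) - 1) := by
  ext x
  constructor
  · intro hx
    obtain ⟨w, hw, he⟩ := C.P_surj hx
    exact ⟨⟨w, hPX hw⟩, Subtype.ext he⟩
  · rintro ⟨w, rfl⟩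
    exact C.zP w

theorem resM_Uf {M : Subgroup (V ≃ₗ[F] V)} (hy : y ∈ M) {X : Submodule F V} (hX : ∀ m ∈ M, ∀ x ∈ X, m x ∈ X) :
    ∀ u ∈ U.comap X.subtype, (resM M X hX ⟨y, hy⟩ : X →ₗ[F] X) u = u → u = 0 := fun u hu h =>
  Subtype.ext (C.yUf u hu (congrArg Subtype.val h))

theorem resM_Pf {M : Subgroup (V ≃ₗ[F] V)} (hz : z ∈ M) {X : Submodule F V} (hX : ∀ m ∈ M, ∀ x ∈ X, m x ∈ X) :
    ∀ u ∈ P.comap X.subtype, (resM M X hX ⟨z, hz⟩ : X →ₗ[F] X) u = u → u = 0 := fun u hu h =>
  Subtype.ext (C.zPf u hu (congrArg Subtype.val h))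

theorem nd_comap {X : Submodule F V} (hUX : U ≤ X) : ∃ x ∈ U.comap X.subtype, ∃ w ∈ U.comap X.subtype,
    polar Q (x : V) w ≠ 0 := by
  obtain ⟨x, hx, w, hw, h⟩ := C.U_nd
  exact ⟨⟨x, hUX hx⟩, hx, ⟨w, hUX hw⟩, hw, h⟩

/-- **A solvable group of isometries containing `y` and `z` has a nonzero fixed vector in `H`.** -/
theorem fix_exists {M : Subgroup (V ≃ₗ[F] V)} [Finite M] (hsol : Group.IsSolvable M) (hMO : M ≤ O Q) (hy : y ∈ M)
    (hz : z ∈ M) : ∃ w, (w = u1 ∨ w = u2 ∨ w = u1 + u2) ∧ ∀ m ∈ M, m w = w := by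
  by_contra hcon
  push Not at hcon
  have hno : ∀ w, (w = u1 ∨ w = u2 ∨ w = u1 + u2) → ¬ ∀ m ∈ M, m w = w := by
    intro w hw h
    obtain ⟨m, hm, h1⟩ := hcon w hw
    exact h1 (h m hm)
  have hVf : Finite V := finite_X F V
  have hSf : Finite (Submodule F V) := Finite.of_injective (fun W : Submodule F V => (W : Set V)) SetLike.coe_injective
  have hne : ({X : Submodule F V | (∀ m ∈ M, ∀ x ∈ X, m x ∈ X) ∧ u1 ∈ X ∧ u2 ∈ X}).Nonempty :=
    ⟨⊤, fun _ _ _ _ => Submodule.mem_top, Submodule.mem_top, Submodule.mem_top⟩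
  obtain ⟨X, hXm⟩ := Set.Finite.exists_minimal (Set.toFinite _) hne
  obtain ⟨hX, h1, h2⟩ := hXm.1
  have hirr0 := C.min_irr hMO hy hz hno hX h1 h2 (fun W hWX hW h1' h2' => le_antisymm hWX (hXm.2 ⟨hW, h1', h2'⟩ hWX))
  have hirr : ∀ W : Submodule F X, (∀ m, ∀ w ∈ W, (resM M X hX m : X →ₗ[F] X) w ∈ W) → W = ⊥ ∨ W = ⊤ := by
    intro W hW
    rcases hirr0 (W.map X.subtype) (Submodule.map_subtype_le _ _) (by
      rintro m hm _ ⟨w, hw, rfl⟩
      exact ⟨_, hW ⟨m, hm⟩ w hw, rfl⟩) with h | h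
    · left
      exact Submodule.map_injective_of_injective X.subtype_injective (h.trans (Submodule.map_bot _).symm)
    · right
      rw [eq_top_iff]
      rintro ⟨x, hx⟩ _
      have hx' := hx
      rw [← h] at hx'
      obtain ⟨w, hw, he⟩ := hx'
      have : w = ⟨x, hx⟩ := Subtype.ext he
      rwa [← this]
  have hBf : ∀ (m : M) (x w : X), polar Q (((resM M X hX m : X →ₗ[F] X) x : X) : V)
      (((resM M X hX m : X →ₗ[F] X) w : X) : V) = polar Q (x : V) w := fun m x w => polar_map (hMO m.2) x w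
  have hBl : ∀ x w v : X, polar Q ((x + w : X) : V) (v : V) = polar Q (x : V) v + polar Q (w : V) v := fun x w v =>
    polar_add_left _ _ _ _
  have hBs : ∀ x w : X, polar Q (x : V) w = polar Q (w : V) x := fun x w => polar_comm _ _ _
  have hB0 : ∀ x : X, polar Q (x : V) x = 0 := fun x => polar_self0 C.hF _
  have hHX : HH F u1 u2 ≤ X := by
    intro v hv
    obtain ⟨a, b, rfl⟩ := mem_HH.1 hv
    exact add_mem (X.smul_mem a h1) (X.smul_mem b h2)
  by_cases hyX : ∀ x ∈ X, y x = x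
  · by_cases hzX : ∀ x ∈ X, z x = x
    · -- `X = H`
      apply hno (u1 + u2) (Or.inr (Or.inr rfl))
      intro m hm
      have h3 := hX m hm _ (add_mem h1 h2)
      have h4 : Q (m (u1 + u2)) = 1 := by rw [hMO hm (u1 + u2), C.Qn]
      rcases C.H_cases (C.mem_H.2 ⟨hyX _ h3, hzX _ h3⟩) with h | h | h | h
      · rw [h, QuadraticMap.map_zero] at h4
        exact absurd h4 zero_ne_one
      · rw [h, C.hyp.left] at h4
        exact absurd h4 zero_ne_one
      · rw [h, C.hyp.right] at h4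
        exact absurd h4 zero_ne_one
      · exact h
    · -- `X = P ⊔ H`
      push Not at hzX
      obtain ⟨x, hx, hxz⟩ := hzX
      have hPX : P ≤ X := C.finrank_P_lt (hX z hz) hx hxz
      have hXe : X = P ⊔ HH F u1 u2 := le_antisymm (fun v hv => C.mem_PH.2 (hyX v hv)) (sup_le hPX hHX)
      have hXd : finrank F X = 4 := by
        have := C.finrank_PH
        rwa [← hXe] at this
      refine irr4 C.hF hXd hsol (resM M X hX) hirr (z := ⟨z, hz⟩) (C.resM_z3 hz hX) (P := P.comap X.subtype)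
        (H := (HH F u1 u2).comap X.subtype) (by rw [C.finrank_comap hPX, C.hP]) (C.resM_Pf hz hX)
        (C.resM_Pr hz hX hPX) ?_ ?_ (u1 := ⟨u1, h1⟩) (u2 := ⟨u2, h2⟩) ?_ ?_ ?_ (fun x => Q (x : V)) C.hyp.left
        C.hyp.right C.Qn (fun h => C.hyp.left_ne (congrArg Subtype.val h)) (fun h => C.hyp.right_ne
        (congrArg Subtype.val h)) (fun h => C.ne12 (congrArg Subtype.val h)) (fun m x => hMO m.2 x)
      · ext v
        constructor
        · intro hv
          exact Subtype.ext (C.mem_H.1 hv).2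
        · intro hv
          exact C.mem_H.2 ⟨hyX v v.2, congrArg Subtype.val hv⟩
      · rw [eq_top_iff]
        rintro ⟨v, hv⟩ _
        have hv' := hv
        rw [hXe] at hv'
        obtain ⟨p, hp, h', hh, rfl⟩ := Submodule.mem_sup.1 hv'
        exact Submodule.mem_sup.2 ⟨⟨p, hPX hp⟩, hp, ⟨h', hHX hh⟩, hh, rfl⟩
      · intro w hw
        rcases C.H_cases hw with h | h | h | h
        · exact Or.inl (Subtype.ext h)
        · exact Or.inr (Or.inl (Subtype.ext h))
        · exact Or.inr (Or.inr (Or.inl (Subtype.ext h)))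
        · exact Or.inr (Or.inr (Or.inr (Subtype.ext h)))
      · exact mem_HH.2 ⟨1, 0, by simp⟩
      · exact mem_HH.2 ⟨0, 1, by simp⟩
  · push Not at hyX
    obtain ⟨x, hx, hxy⟩ := hyX
    have hUX : U ≤ X := C.finrank_U_lt (hX y hy) hx hxy
    by_cases hzX : ∀ x ∈ X, z x = x
    · -- `X = U ⊔ H`
      have hXe : X = U ⊔ HH F u1 u2 := le_antisymm (fun v hv => C.mem_UH.2 (hzX v hv)) (sup_le hUX hHX)
      have hXd : finrank F X = 6 := by
        have := C.finrank_UH
        rwa [← hXe] at this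
      refine irr6 C.hF hXd hsol (resM M X hX) hirr (y := ⟨y, hy⟩) (C.resM_y5 hy hX) (U := U.comap X.subtype)
        (Z := (HH F u1 u2).comap X.subtype) (by rw [C.finrank_comap hUX, C.hU]) (C.resM_Ur hy hX hUX)
        (C.resM_Uf hy hX) (by rw [C.finrank_comap hHX, C.finrank_H]) ?_ (fun x w => polar Q (x : V) w) hBl hBs hB0
        (C.nd_comap hUX) hBf
      ext v
      constructor
      · intro hv
        exact Subtype.ext (C.mem_H.1 hv).1
      · intro hv
        exact C.mem_H.2 ⟨congrArg Subtype.val hv, hzX v v.2⟩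
    · -- `X = V`
      push Not at hzX
      obtain ⟨x, hx, hxz⟩ := hzX
      have hPX : P ≤ X := C.finrank_P_lt (hX z hz) hx hxz
      have hXe : X = ⊤ := by
        rw [eq_top_iff]
        intro v _
        obtain ⟨u, hu, p, hp, a, b, rfl⟩ := C.top v
        exact add_mem (add_mem (hUX hu) (hPX hp)) (hHX (mem_HH.2 ⟨a, b, rfl⟩))
      have hXd : finrank F X = 8 := by rw [hXe, finrank_top, C.dim]
      have hPHX : P ⊔ HH F u1 u2 ≤ X := sup_le hPX hHX
      refine irr8 C.hF hXd hsol (resM M X hX) hirr (y := ⟨y, hy⟩) (z := ⟨z, hz⟩) (C.resM_y5 hy hX) (C.resM_z3 hz hX)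
        ?_ (U := U.comap X.subtype) (Z := (P ⊔ HH F u1 u2).comap X.subtype) (P := P.comap X.subtype)
        (H := (HH F u1 u2).comap X.subtype) (by rw [C.finrank_comap hUX, C.hU]) (C.resM_Ur hy hX hUX)
        (C.resM_Uf hy hX) (by rw [C.finrank_comap hPHX, C.finrank_PH]) ?_ ?_ (by rw [C.finrank_comap hPX, C.hP])
        (by rw [C.finrank_comap hHX, C.finrank_H]) ?_ ?_ ?_ ?_ (fun x w => polar Q (x : V) w) hBl hBs hB0
        (C.nd_comap hUX) hBf
      · rw [← map_mul, ← map_mul]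
        exact congrArg _ (Subtype.ext C.yz)
      · ext v
        constructor
        · intro hv
          exact Subtype.ext (C.mem_PH.1 hv)
        · intro hv
          exact C.mem_PH.2 (congrArg Subtype.val hv)
      · rw [eq_top_iff]
        rintro v _
        obtain ⟨u, hu, p, hp, a, b, he⟩ := C.top v
        have h3 : p + (a • u1 + b • u2) ∈ P ⊔ HH F u1 u2 := add_mem (Submodule.mem_sup_left hp)
          (Submodule.mem_sup_right (mem_HH.2 ⟨a, b, rfl⟩))
        exact Submodule.mem_sup.2 ⟨⟨u, hUX hu⟩, hu, ⟨_, hPHX h3⟩, h3, Subtype.ext (by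
          rw [he]
          show u + (p + (a • u1 + b • u2)) = _
          rw [add_assoc])⟩
      · ext v
        constructor
        · intro hv
          exact ⟨Submodule.mem_sup_right hv, Subtype.ext (C.mem_H.1 hv).2⟩
        · rintro ⟨hv1, hv2⟩
          exact C.mem_H.2 ⟨C.mem_PH.1 hv1, congrArg Subtype.val hv2⟩
      · intro v hv
        obtain ⟨p, hp, h', hh, he⟩ := Submodule.mem_sup.1 hv
        exact Submodule.mem_sup.2 ⟨⟨p, hPX hp⟩, hp, ⟨h', hHX hh⟩, hh, Subtype.ext he⟩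
      · intro w _
        exact C.zP w
      · intro p hp
        obtain ⟨w, hw, he⟩ := C.P_surj hp
        exact ⟨⟨w, hPX hw⟩, Submodule.mem_sup_left hw, Subtype.ext he⟩

end Cfg

end Cfsg.Agent.H99.O8
end

-- part: H99/O8/Struct
section
/-!
# S3943, the row `Ω⁺₈(2)` (helper99): solvable subgroups of `O⁺₈(2)` containing an element of order 15
-/

set_option autoImplicit false
set_option linter.unusedSectionVars false

namespace Cfsg.Agent.H99.O8

open Module Subgroup QuadraticMap Cfsg.Agent.H518.DghpFix Cfsg.Agent.H99.AS Cfsg.Agent.LieClassical.OrthCore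
  Cfsg.Agent.LieClassical.OrthTrans

universe u v w

section Rank

variable {F : Type u} [Field F] [Fintype F] {X : Type v} [AddCommGroup X] [Module F X] [FiniteDimensional F X]

theorem conj_iter {G : Type*} [Group G] {a y : G} {k : ℕ} (h : a * y * a⁻¹ = y ^ k) (j : ℕ) :
    a ^ j * y * (a ^ j)⁻¹ = y ^ (k ^ j) := by
  induction j with
  | zero => simp
  | succ j ih =>
    have e1 : a ^ (j + 1) * y * (a ^ (j + 1))⁻¹ = a * (a ^ j * y * (a ^ j)⁻¹) * a⁻¹ := by
      rw [pow_succ']; group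
    have e2 : a * y ^ (k ^ j) * a⁻¹ = (a * y * a⁻¹) ^ (k ^ j) := by rw [conj_pow]
    rw [e1, ih, e2, h, ← pow_mul, pow_succ']

theorem sq_five : ∀ c : ZMod 5, c ^ 2 = 1 → c ≠ 1 → c = 4 := by decide

/-- elements normalising a Singer-like cyclic group of order 5 -/
theorem rank_two (hF : Fintype.card F = 2) (hX : finrank F X = 4) {a y : (X →ₗ[F] X)ˣ} {r : ℕ} (hr : r.Prime)
    (har : a ^ r = 1) (ha1 : a ≠ 1) (hy : y ^ 5 = 1) (hyf : ∀ u, (y : X →ₗ[F] X) u = u → u = 0)
    (hn : a * y * a⁻¹ ∈ zpowers y) (hrk : finrank F ↥(LinearMap.range ((a : X →ₗ[F] X) - 1)) ≤ 2) :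
    r = 2 ∧ finrank F ↥(LinearMap.range ((a : X →ₗ[F] X) - 1)) = 2 := by
  have hfin : Finite (X →ₗ[F] X)ˣ := finite_units
  have hXn : Nontrivial X := Module.nontrivial_of_finrank_pos (R := F) (by omega)
  have hp5 : Fact (Nat.Prime 5) := ⟨by norm_num⟩
  have hy1 : y ≠ 1 := by
    intro h
    obtain ⟨z, hz⟩ := exists_ne (0 : X)
    exact hz (hyf z (by rw [h]; rfl))
  have hyo : orderOf y = 5 := orderOf_eq_prime hy hy1
  have htop : finrank F (⊤ : Submodule F X) = 4 := by rw [finrank_top, hX]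
  have hker : ∀ {g : (X →ₗ[F] X)ˣ}, LinearMap.ker ((g : X →ₗ[F] X) - 1) = fixS (g : X →ₗ[F] X) := by
    intro g
    ext v
    rw [LinearMap.mem_ker, LinearMap.sub_apply, Module.End.one_apply, sub_eq_zero]
    rfl
  have hrn := LinearMap.finrank_range_add_finrank_ker ((a : X →ₗ[F] X) - 1)
  rw [hker, hX] at hrn
  -- the commuting case is impossible
  have hncomm : ¬ a * y = y * a := by
    intro hc
    rcases irr_of hF hy htop (fun u _ hu => hyf u hu) (fixS (a : X →ₗ[F] X)) le_top (fun w hw => by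
      show (a : X →ₗ[F] X) ((y : X →ₗ[F] X) w) = (y : X →ₗ[F] X) w
      rw [← mul_app, hc, mul_app, show (a : X →ₗ[F] X) w = w from hw]) with h | h
    · rw [h, finrank_bot] at hrn
      omega
    · apply ha1
      apply Units.ext
      refine LinearMap.ext fun x => ?_
      have : x ∈ fixS (a : X →ₗ[F] X) := h ▸ Submodule.mem_top
      exact this
  obtain ⟨k, hk⟩ := (mem_powers_iff_mem_zpowers.2 hn)
  have hk : a * y * a⁻¹ = y ^ k := hk.symm
  have hkr : ((k : ℕ) : ZMod 5) ^ r = 1 := by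
    have h1 := conj_iter hk r
    rw [har, one_mul, inv_one, mul_one] at h1
    have h2 : y ^ 1 = y ^ (k ^ r) := by rw [pow_one]; exact h1
    rw [pow_eq_pow_iff_modEq, hyo] at h2
    have h3 := (ZMod.natCast_eq_natCast_iff _ _ _).2 h2
    rw [Nat.cast_pow, Nat.cast_one] at h3
    exact h3.symm
  have hk1 : ((k : ℕ) : ZMod 5) ≠ 1 := by
    intro h
    apply hncomm
    have h1 : k ≡ 1 [MOD 5] := (ZMod.natCast_eq_natCast_iff _ _ _).1 (by rw [h, Nat.cast_one])
    rw [← hyo, ← pow_eq_pow_iff_modEq, pow_one] at h1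
    rw [h1] at hk
    exact mul_inv_eq_iff_eq_mul.1 hk
  have hr2 : r = 2 := by
    by_contra hne
    apply hk1
    have h0 : ((k : ℕ) : ZMod 5) ≠ 0 := by
      intro h
      rw [h, zero_pow hr.ne_zero] at hkr
      exact zero_ne_one hkr
    have h4 : ((k : ℕ) : ZMod 5) ^ 4 = 1 := ZMod.pow_card_sub_one_eq_one h0
    have h5 : orderOf ((k : ℕ) : ZMod 5) ∣ Nat.gcd r 4 :=
      Nat.dvd_gcd (orderOf_dvd_of_pow_eq_one hkr) (orderOf_dvd_of_pow_eq_one h4)
    have h6 : Nat.gcd r 4 = 1 := by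
      have : Nat.Coprime r 2 := (Nat.coprime_primes hr Nat.prime_two).2 hne
      have h7 : Nat.Coprime r (2 ^ 2) := this.pow_right 2
      exact h7
    rw [h6, Nat.dvd_one, orderOf_eq_one_iff] at h5
    exact h5
  refine ⟨hr2, ?_⟩
  rw [hr2] at har hkr
  have hk4 : ((k : ℕ) : ZMod 5) = 4 := by
    exact sq_five _ hkr hk1
  have hinv : a * y = y⁻¹ * a := by
    have h1 : k ≡ 4 [MOD 5] := (ZMod.natCast_eq_natCast_iff _ _ _).1 (by rw [hk4]; rfl)
    rw [← hyo, ← pow_eq_pow_iff_modEq] at h1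
    have h2 : y ^ 4 = y⁻¹ := by
      apply eq_inv_of_mul_eq_one_left
      rw [← pow_succ, hy]
    rw [h1, h2] at hk
    exact mul_inv_eq_iff_eq_mul.1 hk
  -- `C(a)` meets `y² C(a)` trivially
  have h2 : finrank F ↥(fixS (a : X →ₗ[F] X)) + finrank F ↥(fixS (a : X →ₗ[F] X)) ≤ 4 := by
    have hinj : Function.Injective ((y ^ 2 : (X →ₗ[F] X)ˣ) : X →ₗ[F] X) := fun v w h => app_inj _ h
    have h3 : finrank F ↥((fixS (a : X →ₗ[F] X)).map ((y ^ 2 : (X →ₗ[F] X)ˣ) : X →ₗ[F] X)) =
        finrank F ↥(fixS (a : X →ₗ[F] X)) := ((Submodule.equivMapOfInjective _ hinj _).finrank_eq).symm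
    have h4 : fixS (a : X →ₗ[F] X) ⊓ (fixS (a : X →ₗ[F] X)).map ((y ^ 2 : (X →ₗ[F] X)ˣ) : X →ₗ[F] X) = ⊥ := by
      rw [Submodule.eq_bot_iff]
      rintro v ⟨hv1, w, hw, hv2⟩
      have hv1 : (a : X →ₗ[F] X) v = v := hv1
      have hw : (a : X →ₗ[F] X) w = w := hw
      have e1 : a * y * y ^ 2 = y ^ 2 * a := by
        have e2 : a * y * y ^ 2 = y⁻¹ ^ 3 * a := by
          have e3 : ∀ n : ℕ, a * y ^ n = y⁻¹ ^ n * a := by
            intro n
            induction n with
            | zero => simp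
            | succ n ih => rw [pow_succ, ← mul_assoc, ih, mul_assoc, hinv, ← mul_assoc, ← pow_succ]
          rw [← e3 3, pow_succ' y 2, mul_assoc]
        have e3 : y⁻¹ ^ 3 = y ^ 2 := by
          rw [inv_pow]
          apply inv_eq_of_mul_eq_one_left
          rw [← pow_add, hy]
        rw [e2, e3]
      have e4 : (a : X →ₗ[F] X) ((y : X →ₗ[F] X) v) = v := by
        rw [← hv2, ← mul_app, ← mul_app, e1, mul_app, hw]
      exact hyf v (app_inj a (by rw [e4, hv1]))
    have h5 := Submodule.finrank_sup_add_finrank_inf_eq (fixS (a : X →ₗ[F] X))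
      ((fixS (a : X →ₗ[F] X)).map ((y ^ 2 : (X →ₗ[F] X)ˣ) : X →ₗ[F] X))
    rw [h4, finrank_bot, h3, add_zero] at h5
    rw [← h5, ← hX]
    exact Submodule.finrank_le _
  omega

end Rank

variable {F : Type u} [Field F] [Fintype F] {V : Type v} [AddCommGroup V] [Module F V] [FiniteDimensional F V]

/-- the projection to `U ⊕ P` along `H` -/
def prY (Q : QuadraticForm F V) (u1 u2 : V) : V →ₗ[F] V :=
  LinearMap.id - (polarBilin Q u2).smulRight u1 - (polarBilin Q u1).smulRight u2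

variable {Q : QuadraticForm F V} {y z : V ≃ₗ[F] V} {U P : Submodule F V} {u1 u2 : V}

omit [Fintype F] [FiniteDimensional F V] in
theorem prY_apply (v : V) : prY Q u1 u2 v = v - polar Q u2 v • u1 - polar Q u1 v • u2 := by
  simp only [prY, LinearMap.sub_apply, LinearMap.id_apply, LinearMap.smulRight_apply, polarBilin_apply_apply]

namespace Cfg

variable (C : Cfg Q y z U P u1 u2)
include C

theorem prY_of {u p : V} (hu : u ∈ U) (hp : p ∈ P) (a b : F) : prY Q u1 u2 (u + p + (a • u1 + b • u2)) = u + p := by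
  rw [prY_apply, C.polar1 hu hp, C.polar2 hu hp]; abel

theorem mem_Y {v : V} : v ∈ U ⊔ P ↔ polar Q u1 v = 0 ∧ polar Q u2 v = 0 := by
  constructor
  · intro h
    obtain ⟨u, hu, p, hp, rfl⟩ := Submodule.mem_sup.1 h
    rw [polar_add_right, polar_add_right, C.U1 u hu, C.U2 u hu, C.P1 p hp, C.P2 p hp, add_zero]
    exact ⟨rfl, rfl⟩
  · intro h
    obtain ⟨u, hu, p, hp, a, b, rfl⟩ := C.top v
    rw [C.polar1 hu hp, C.polar2 hu hp] at h
    rw [h.1, h.2, zero_smul, zero_smul, add_zero, add_zero]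
    exact Submodule.mem_sup.2 ⟨u, hu, p, hp, rfl⟩

theorem prY_mem (v : V) : prY Q u1 u2 v ∈ U ⊔ P := by
  obtain ⟨u, hu, p, hp, a, b, rfl⟩ := C.top v
  rw [C.prY_of hu hp]
  exact Submodule.mem_sup.2 ⟨u, hu, p, hp, rfl⟩

theorem prY_self {v : V} (hv : v ∈ U ⊔ P) : prY Q u1 u2 v = v := by
  rw [prY_apply, (C.mem_Y.1 hv).1, (C.mem_Y.1 hv).2, zero_smul, zero_smul, sub_zero, sub_zero]

theorem mem_w {w : V} (hw : w = u1 ∨ w = u2 ∨ w = u1 + u2) {v : V} (hv : v ∈ U ⊔ P) : polar Q w v = 0 := by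
  have h := C.mem_Y.1 hv
  rcases hw with rfl | rfl | rfl
  · exact h.1
  · exact h.2
  · rw [polar_add_left, h.1, h.2, add_zero]

theorem w_dec {w : V} (hw : w = u1 ∨ w = u2 ∨ w = u1 + u2) {v : V} (h : polar Q w v = 0) :
    v = prY Q u1 u2 v ∨ v = prY Q u1 u2 v + w := by
  obtain ⟨u, hu, p, hp, a, b, rfl⟩ := C.top v
  rw [C.prY_of hu hp]
  rcases hw with rfl | rfl | rfl
  · rw [C.polar1 hu hp] at h
    rw [h, zero_smul, add_zero]
    rcases eq01 C.hF a with rfl | rfl
    · left; rw [zero_smul, add_zero]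
    · right; rw [one_smul]
  · rw [C.polar2 hu hp] at h
    rw [h, zero_smul, zero_add]
    rcases eq01 C.hF b with rfl | rfl
    · left; rw [zero_smul, add_zero]
    · right; rw [one_smul]
  · rw [polar_add_left, C.polar1 hu hp, C.polar2 hu hp] at h
    rcases eq01 C.hF a with rfl | rfl <;> rcases eq01 C.hF b with rfl | rfl
    · left; rw [zero_smul, zero_smul, add_zero, add_zero]
    · rw [add_zero] at h; exact absurd h one_ne_zero
    · rw [zero_add] at h; exact absurd h one_ne_zero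
    · right; rw [one_smul, one_smul]

theorem prY_w {w : V} (hw : w = u1 ∨ w = u2 ∨ w = u1 + u2) : prY Q u1 u2 w = 0 := by
  have key : ∀ a b : F, prY Q u1 u2 (a • u1 + b • u2) = 0 := by
    intro a b
    have h := C.prY_of U.zero_mem P.zero_mem a b
    rwa [add_zero, zero_add] at h
  rcases hw with rfl | rfl | rfl
  · have := key 1 0
    rwa [one_smul, zero_smul, add_zero] at this
  · have := key 0 1
    rwa [one_smul, zero_smul, zero_add] at this
  · have := key 1 1
    rwa [one_smul, one_smul] at this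

theorem prY_comp {w : V} (hw : w = u1 ∨ w = u2 ∨ w = u1 + u2) {m : V ≃ₗ[F] V} (hm : m w = w) {v : V}
    (hv : polar Q w v = 0) : prY Q u1 u2 (m v) = prY Q u1 u2 (m (prY Q u1 u2 v)) := by
  rcases C.w_dec hw hv with h | h
  · rw [← h]
  · conv_lhs => rw [h]
    rw [map_add, hm, map_add, C.prY_w hw, add_zero]

theorem polar_prY {w : V} (hw : w = u1 ∨ w = u2 ∨ w = u1 + u2) {a b : V} (ha : polar Q w a = 0)
    (hb : polar Q w b = 0) : polar Q (prY Q u1 u2 a) (prY Q u1 u2 b) = polar Q a b := by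
  have ha' : polar Q a w = 0 := by rw [polar_comm]; exact ha
  have hpa : polar Q (prY Q u1 u2 a) w = 0 := by rw [polar_comm]; exact C.mem_w hw (C.prY_mem a)
  have hww : polar Q w w = 0 := polar_self0 C.hF w
  have e1 : polar Q a b = polar Q (prY Q u1 u2 a) b := by
    rcases C.w_dec hw ha with h | h
    · rw [← h]
    · conv_lhs => rw [h]
      rw [polar_add_left, hb, add_zero]
  have e2 : polar Q (prY Q u1 u2 a) b = polar Q (prY Q u1 u2 a) (prY Q u1 u2 b) := by
    rcases C.w_dec hw hb with h | h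
    · rw [← h]
    · conv_lhs => rw [h]
      rw [polar_add_right, hpa, add_zero]
  rw [e1, e2]

/-- the fixed vector is orthogonal to its images -/
theorem polar_m {w : V} {M : Subgroup (V ≃ₗ[F] V)} (hMO : M ≤ O Q) (hMw : ∀ m ∈ M, m w = w) {m : V ≃ₗ[F] V}
    (hm : m ∈ M) {v : V} (hv : polar Q w v = 0) : polar Q w (m v) = 0 := by
  have h := polar_map (hMO hm) w v
  rw [hMw m hm] at h
  rw [h, hv]

end Cfg

/-- the action on `W ≤ U ⊕ P` through the projection -/
def rho (C : Cfg Q y z U P u1 u2) {w : V} (hw : w = u1 ∨ w = u2 ∨ w = u1 + u2) (M : Subgroup (V ≃ₗ[F] V))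
    (hMO : M ≤ O Q) (hMw : ∀ m ∈ M, m w = w) (W : Submodule F V) (hWY : W ≤ U ⊔ P)
    (hW : ∀ m ∈ M, ∀ v ∈ W, prY Q u1 u2 (m v) ∈ W) : M →* (W →ₗ[F] W) where
  toFun m := ((prY Q u1 u2) ∘ₗ ((m : V ≃ₗ[F] V) : V →ₗ[F] V)).restrict (hW m m.2)
  map_one' := LinearMap.ext fun v => Subtype.ext (C.prY_self (hWY v.2))
  map_mul' a b := LinearMap.ext fun v => Subtype.ext
    (C.prY_comp hw (hMw a a.2) (C.polar_m hMO hMw b.2 (C.mem_w hw (hWY v.2))))

/-- the action by units -/
def rhoU (C : Cfg Q y z U P u1 u2) {w : V} (hw : w = u1 ∨ w = u2 ∨ w = u1 + u2) (M : Subgroup (V ≃ₗ[F] V))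
    (hMO : M ≤ O Q) (hMw : ∀ m ∈ M, m w = w) (W : Submodule F V) (hWY : W ≤ U ⊔ P)
    (hW : ∀ m ∈ M, ∀ v ∈ W, prY Q u1 u2 (m v) ∈ W) : M →* (W →ₗ[F] W)ˣ :=
  (rho C hw M hMO hMw W hWY hW).toHomUnits

namespace Cfg

variable (C : Cfg Q y z U P u1 u2)
include C

theorem y_Y {v : V} (hv : v ∈ U ⊔ P) : y v ∈ U ⊔ P := by
  have := add_mem (Submodule.mem_sup_left (C.yU v) : y v - v ∈ U ⊔ P) hv
  rwa [sub_add_cancel] at this

theorem z_Y {v : V} (hv : v ∈ U ⊔ P) : z v ∈ U ⊔ P := by
  have := add_mem (Submodule.mem_sup_right (C.zP v) : z v - v ∈ U ⊔ P) hv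
  rwa [sub_add_cancel] at this

theorem fix_Y {v : V} (hv : v ∈ U ⊔ P) (h : y v = v) : v ∈ P := by
  obtain ⟨u, hu, p, hp, rfl⟩ := Submodule.mem_sup.1 hv
  have h1 := C.y_fix_iff hu hp 0 0
  rw [zero_smul, zero_smul, add_zero, add_zero] at h1
  rw [h1.1 h, zero_add]
  exact hp

theorem fix_Y' {v : V} (hv : v ∈ U ⊔ P) (h : z v = v) : v ∈ U := by
  obtain ⟨u, hu, p, hp, rfl⟩ := Submodule.mem_sup.1 hv
  have h1 := C.z_fix_iff hu hp 0 0
  rw [zero_smul, zero_smul, add_zero, add_zero] at h1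
  rw [h1.1 h, add_zero]
  exact hu

theorem finrank_Y : finrank F ↥(U ⊔ P) = 6 := by
  have h1 := Submodule.finrank_sup_add_finrank_inf_eq U P
  have h2 : U ⊓ P = ⊥ := by
    rw [Submodule.eq_bot_iff]
    rintro v ⟨h2, h3⟩
    exact C.yUf v h2 (C.yP v h3)
  rw [h2, finrank_bot, C.hU, C.hP] at h1
  omega

theorem round {w : V} (hw : w = u1 ∨ w = u2 ∨ w = u1 + u2) {M : Subgroup (V ≃ₗ[F] V)} (hMO : M ≤ O Q)
    (hMw : ∀ m ∈ M, m w = w) {m : V ≃ₗ[F] V} (hm : m ∈ M) {v : V} (hv : v ∈ U ⊔ P) :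
    prY Q u1 u2 (m (prY Q u1 u2 (m⁻¹ v))) = v := by
  rw [← C.prY_comp hw (hMw m hm) (C.polar_m hMO hMw (inv_mem hm) (C.mem_w hw hv)),
    show m (m⁻¹ v) = v from LinearEquiv.apply_symm_apply m v, C.prY_self hv]

theorem dualP {w : V} (hw : w = u1 ∨ w = u2 ∨ w = u1 + u2) {M : Subgroup (V ≃ₗ[F] V)} (hMO : M ≤ O Q)
    (hMw : ∀ m ∈ M, m w = w) (h : ∀ m ∈ M, ∀ u ∈ U, prY Q u1 u2 (m u) ∈ U) :
    ∀ m ∈ M, ∀ p ∈ P, prY Q u1 u2 (m p) ∈ P := by
  intro m hm p hp
  obtain ⟨u', hu', p', hp', he⟩ := Submodule.mem_sup.1 (C.prY_mem (m p))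
  have h0 : u' = 0 := by
    apply C.ndU hu'
    intro u hu
    have hu2 := h m⁻¹ (inv_mem hm) u hu
    have e1 := C.round hw hMO hMw hm (Submodule.mem_sup_left hu : u ∈ U ⊔ P)
    have e2 : polar Q u (prY Q u1 u2 (m p)) = 0 := by
      conv_lhs => rw [← e1]
      rw [C.polar_prY hw (C.polar_m hMO hMw hm (C.mem_w hw (Submodule.mem_sup_left hu2)))
        (C.polar_m hMO hMw hm (C.mem_w hw (Submodule.mem_sup_right hp))), polar_map (hMO hm), C.UP _ hu2 p hp]
    rw [← he, polar_add_right, C.UP u hu p' hp', add_zero] at e2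
    rw [polar_comm]
    exact e2
  rw [← he, h0, zero_add]
  exact hp'

theorem dualU {w : V} (hw : w = u1 ∨ w = u2 ∨ w = u1 + u2) {M : Subgroup (V ≃ₗ[F] V)} (hMO : M ≤ O Q)
    (hMw : ∀ m ∈ M, m w = w) (h : ∀ m ∈ M, ∀ u ∈ P, prY Q u1 u2 (m u) ∈ P) :
    ∀ m ∈ M, ∀ p ∈ U, prY Q u1 u2 (m p) ∈ U := by
  intro m hm p hp
  obtain ⟨u', hu', p', hp', he⟩ := Submodule.mem_sup.1 (C.prY_mem (m p))
  have h0 : p' = 0 := by
    apply C.ndP hp'
    intro u hu
    have hu2 := h m⁻¹ (inv_mem hm) u hu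
    have e1 := C.round hw hMO hMw hm (Submodule.mem_sup_right hu : u ∈ U ⊔ P)
    have e2 : polar Q u (prY Q u1 u2 (m p)) = 0 := by
      conv_lhs => rw [← e1]
      rw [C.polar_prY hw (C.polar_m hMO hMw hm (C.mem_w hw (Submodule.mem_sup_right hu2)))
        (C.polar_m hMO hMw hm (C.mem_w hw (Submodule.mem_sup_left hp))), polar_map (hMO hm), polar_comm,
        C.UP _ hp _ hu2]
    rw [← he, polar_add_right, polar_comm Q u u', C.UP u' hu' u hu, zero_add] at e2
    rw [polar_comm]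
    exact e2
  rw [← he, h0, add_zero]
  exact hu'

/-- **`U` and `P` are invariant modulo `w`.** -/
theorem inv_UP {M : Subgroup (V ≃ₗ[F] V)} [Finite M] (hsol : Group.IsSolvable M) (hMO : M ≤ O Q) (hy : y ∈ M)
    (hz : z ∈ M) {w : V} (hw : w = u1 ∨ w = u2 ∨ w = u1 + u2) (hMw : ∀ m ∈ M, m w = w) :
    (∀ m ∈ M, ∀ u ∈ U, prY Q u1 u2 (m u) ∈ U) ∧ (∀ m ∈ M, ∀ p ∈ P, prY Q u1 u2 (m p) ∈ P) := by
  have hX : ∀ m ∈ M, ∀ v ∈ U ⊔ P, prY Q u1 u2 (m v) ∈ U ⊔ P := fun m _ v _ => C.prY_mem _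
  set f := rhoU C hw M hMO hMw (U ⊔ P) le_rfl hX with hf
  by_cases hirr : ∀ W : Submodule F ↥(U ⊔ P), (∀ m, ∀ v ∈ W, (f m : ↥(U ⊔ P) →ₗ[F] ↥(U ⊔ P)) v ∈ W) → W = ⊥ ∨ W = ⊤
  · exfalso
    have hfy : ∀ v : ↥(U ⊔ P), (((f ⟨y, hy⟩ : ↥(U ⊔ P) →ₗ[F] ↥(U ⊔ P)) v : ↥(U ⊔ P)) : V) = y v := fun v =>
      C.prY_self (C.y_Y v.2)
    refine irr6 C.hF C.finrank_Y hsol f hirr (y := ⟨y, hy⟩) ?_ (U := U.comap (U ⊔ P).subtype)
      (Z := P.comap (U ⊔ P).subtype) (by rw [C.finrank_comap le_sup_left, C.hU]) ?_ ?_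
      (by rw [C.finrank_comap le_sup_right, C.hP]) ?_ (fun x w => polar Q (x : V) w)
      (fun x w v => polar_add_left _ _ _ _) (fun x w => polar_comm _ _ _) (fun x => polar_self0 C.hF _)
      (C.nd_comap le_sup_left) ?_
    · rw [← map_pow, show (⟨y, hy⟩ : M) ^ 5 = 1 from Subtype.ext C.y5, map_one]
    · ext x
      constructor
      · intro hx
        obtain ⟨v, hv, he⟩ := C.U_surj hx
        refine ⟨⟨v, Submodule.mem_sup_left hv⟩, Subtype.ext ?_⟩
        rw [LinearMap.sub_apply, Module.End.one_apply, Submodule.coe_sub, hfy]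
        exact he
      · rintro ⟨v, rfl⟩
        show (((f ⟨y, hy⟩ : ↥(U ⊔ P) →ₗ[F] ↥(U ⊔ P)) v : ↥(U ⊔ P)) : V) - (v : V) ∈ U
        rw [hfy]
        exact C.yU v
    · intro u hu h
      refine Subtype.ext (C.yUf u hu ?_)
      rw [← hfy, h]
    · ext x
      constructor
      · intro hx
        refine Subtype.ext ?_
        show (((f ⟨y, hy⟩ : ↥(U ⊔ P) →ₗ[F] ↥(U ⊔ P)) x : ↥(U ⊔ P)) : V) = x
        rw [hfy]
        exact C.yP x hx
      · intro hx
        exact C.fix_Y x.2 ((hfy x).symm.trans (congrArg Subtype.val hx))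
    · intro m x v
      show polar Q (prY Q u1 u2 ((m : V ≃ₗ[F] V) x)) (prY Q u1 u2 ((m : V ≃ₗ[F] V) v)) = polar Q (x : V) v
      rw [C.polar_prY hw (C.polar_m hMO hMw m.2 (C.mem_w hw x.2)) (C.polar_m hMO hMw m.2 (C.mem_w hw v.2)),
        polar_map (hMO m.2)]
  · push Not at hirr
    obtain ⟨W, hW, hW1, hW2⟩ := hirr
    set W0 := W.map (U ⊔ P).subtype with hW0
    have hW0Y : W0 ≤ U ⊔ P := Submodule.map_subtype_le _ _
    have hinv : ∀ m ∈ M, ∀ v ∈ W0, prY Q u1 u2 (m v) ∈ W0 := by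
      rintro m hm _ ⟨v, hv, rfl⟩
      exact ⟨_, hW ⟨m, hm⟩ v hv, rfl⟩
    have hW0y : ∀ v ∈ W0, y v ∈ W0 := by
      intro v hv
      have h1 := hinv y hy v hv
      rwa [C.prY_self (C.y_Y (hW0Y hv))] at h1
    have hW0z : ∀ v ∈ W0, z v ∈ W0 := by
      intro v hv
      have h1 := hinv z hz v hv
      rwa [C.prY_self (C.z_Y (hW0Y hv))] at h1
    have hne1 : W0 ≠ ⊥ := fun h => hW1 (Submodule.map_injective_of_injective (U ⊔ P).subtype_injective
      (h.trans (Submodule.map_bot _).symm))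
    have hne2 : W0 ≠ U ⊔ P := by
      intro h
      apply hW2
      rw [eq_top_iff]
      rintro ⟨x, hx⟩ _
      have hx' := hx
      rw [← h] at hx'
      obtain ⟨v, hv, he⟩ := hx'
      have : v = ⟨x, hx⟩ := Subtype.ext he
      rwa [← this]
    by_cases hyX : ∀ x ∈ W0, y x = x
    · have hWP : W0 ≤ P := fun v hv => C.fix_Y (hW0Y hv) (hyX v hv)
      have hPW : P ≤ W0 := by
        by_contra hcon
        apply hne1
        rw [Submodule.eq_bot_iff]
        intro v hv
        by_contra hv0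
        exact hcon (C.finrank_P_lt hW0z hv (fun h => hv0 (C.zPf v (hWP hv) h)))
      have hWe : W0 = P := le_antisymm hWP hPW
      rw [hWe] at hinv
      exact ⟨C.dualU hw hMO hMw hinv, hinv⟩
    · push Not at hyX
      obtain ⟨x, hx, hxy⟩ := hyX
      have hUW := C.finrank_U_lt hW0y hx hxy
      have hzX : ∀ x ∈ W0, z x = x := by
        by_contra hcon
        push Not at hcon
        obtain ⟨x', hx', hxz⟩ := hcon
        exact hne2 (le_antisymm hW0Y (sup_le hUW (C.finrank_P_lt hW0z hx' hxz)))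
      have hWe : W0 = U := le_antisymm (fun v hv => C.fix_Y' (hW0Y hv) (hzX v hv)) hUW
      rw [hWe] at hinv
      exact ⟨hinv, C.dualP hw hMO hMw hinv⟩

end Cfg

/-- `[V, x]` -/
def RR (x : V ≃ₗ[F] V) : Submodule F V := LinearMap.range ((x : V →ₗ[F] V) - 1)

omit [Fintype F] [FiniteDimensional F V] in
theorem mem_RR {x : V ≃ₗ[F] V} {v : V} : v ∈ RR x ↔ ∃ w, x w - w = v := Iff.rfl

omit [Fintype F] [FiniteDimensional F V] in
/-- `C_V(x) ⊥ [V, x]` -/
theorem polar_RR {x : V ≃ₗ[F] V} (hx : x ∈ O Q) {u v : V} (hu : x u = u) (hv : v ∈ RR x) : polar Q u v = 0 := by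
  obtain ⟨w, rfl⟩ := mem_RR.1 hv
  have h := polar_map hx u w
  rw [hu] at h
  rw [polar_sub_right, h, sub_self]

namespace Cfg

variable (C : Cfg Q y z U P u1 u2)
include C

/-- **The three cases.** -/
theorem three_cases {M : Subgroup (V ≃ₗ[F] V)} [Finite M] (hsol : Group.IsSolvable M) (hMO : M ≤ O Q) (hy : y ∈ M)
    (hz : z ∈ M) {w : V} (hw : w = u1 ∨ w = u2 ∨ w = u1 + u2) (hMw : ∀ m ∈ M, m w = w) {x : V ≃ₗ[F] V} (hx : x ∈ M)
    {r : ℕ} (hr : r.Prime) (hxr : x ^ r = 1) (hR : finrank F (RR x) ≤ 2) :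
    w ∈ RR x ∨ (∀ v ∈ RR x, ∃ p ∈ P, v = p ∨ v = p + w) ∨
      (r = 2 ∧ finrank F (RR x) = 2 ∧ ∀ v ∈ RR x, ∃ u ∈ U, v = u ∨ v = u + w) := by
  obtain ⟨hU, hP⟩ := C.inv_UP hsol hMO hy hz hw hMw
  by_cases hwR : w ∈ RR x
  · exact Or.inl hwR
  right
  set f := rhoU C hw M hMO hMw U le_sup_left hU with hf
  have hfy : ∀ v : U, (((f ⟨y, hy⟩ : U →ₗ[F] U) v : U) : V) = y v := fun v =>
    C.prY_self (C.y_Y (Submodule.mem_sup_left v.2))
  have hdec : ∀ v ∈ RR x, v = prY Q u1 u2 v ∨ v = prY Q u1 u2 v + w := fun v hv =>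
    C.w_dec hw (polar_RR (hMO hx) (hMw x hx) hv)
  by_cases ha : f ⟨x, hx⟩ = 1
  · left
    have hxu : ∀ u ∈ U, x u = u := by
      intro u hu
      have h1 : prY Q u1 u2 (x u) = u := congrArg (fun g : (U →ₗ[F] U)ˣ => (((g : U →ₗ[F] U) ⟨u, hu⟩ : U) : V)) ha
      rcases C.w_dec hw (C.polar_m hMO hMw hx (C.mem_w hw (Submodule.mem_sup_left hu))) with h | h
      · rw [h, h1]
      · exfalso
        apply hwR
        refine mem_RR.2 ⟨u, ?_⟩
        rw [h1] at h
        rw [h, add_sub_cancel_left]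
    intro v hv
    obtain ⟨u', hu', p', hp', he⟩ := Submodule.mem_sup.1 (C.prY_mem v)
    have h0 : u' = 0 := by
      apply C.ndU hu'
      intro u hu
      have h1 := polar_RR (hMO hx) (hxu u hu) hv
      have h2 : polar Q u (prY Q u1 u2 v) = 0 := by
        rcases hdec v hv with h | h
        · rw [← h]; exact h1
        · rw [h, polar_add_right, polar_comm Q u w, C.mem_w hw (Submodule.mem_sup_left hu), add_zero] at h1
          exact h1
      rw [← he, polar_add_right, C.UP u hu p' hp', add_zero] at h2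
      rw [polar_comm]
      exact h2
    rw [h0, zero_add] at he
    refine ⟨p', hp', ?_⟩
    rw [he]
    exact hdec v hv
  · right
    have hy5 : f ⟨y, hy⟩ ^ 5 = 1 := by
      rw [← map_pow, show (⟨y, hy⟩ : M) ^ 5 = 1 from Subtype.ext C.y5, map_one]
    have hyf : ∀ u, (f ⟨y, hy⟩ : U →ₗ[F] U) u = u → u = 0 := by
      intro u h
      refine Subtype.ext (C.yUf u u.2 ?_)
      rw [← hfy, h]
    have hn := norm5 C.hF C.hU hsol f (y := ⟨y, hy⟩) hy5 hyf (fun a b => polar Q (a : V) b)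
      (fun a b v => polar_add_left _ _ _ _) (fun a b => polar_comm _ _ _) (fun a => polar_self0 C.hF _) (by
        obtain ⟨a, ha, b, hb, h⟩ := C.U_nd
        exact ⟨⟨a, ha⟩, ⟨b, hb⟩, h⟩) (by
        intro m a v
        show polar Q (prY Q u1 u2 ((m : V ≃ₗ[F] V) a)) (prY Q u1 u2 ((m : V ≃ₗ[F] V) v)) = polar Q (a : V) v
        rw [C.polar_prY hw (C.polar_m hMO hMw m.2 (C.mem_w hw (Submodule.mem_sup_left a.2)))
          (C.polar_m hMO hMw m.2 (C.mem_w hw (Submodule.mem_sup_left v.2))), polar_map (hMO m.2)]) ⟨x, hx⟩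
    have hle : (LinearMap.range ((f ⟨x, hx⟩ : U →ₗ[F] U) - 1)).map U.subtype ≤ (RR x).map (prY Q u1 u2) := by
      rintro _ ⟨_, ⟨u, rfl⟩, rfl⟩
      refine ⟨x u - u, mem_RR.2 ⟨u, rfl⟩, ?_⟩
      rw [map_sub, C.prY_self (Submodule.mem_sup_left u.2)]
      rfl
    have hfr : finrank F ↥((LinearMap.range ((f ⟨x, hx⟩ : U →ₗ[F] U) - 1)).map U.subtype) =
        finrank F ↥(LinearMap.range ((f ⟨x, hx⟩ : U →ₗ[F] U) - 1)) :=
      ((Submodule.equivMapOfInjective _ U.subtype_injective _).finrank_eq).symm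
    have h1 := Submodule.finrank_mono hle
    have h2 := Submodule.finrank_map_le (prY Q u1 u2) (RR x)
    rw [hfr] at h1
    have h3 := rank_two C.hF C.hU hr (a := f ⟨x, hx⟩) (y := f ⟨y, hy⟩) (by
      rw [← map_pow, show (⟨x, hx⟩ : M) ^ r = 1 from Subtype.ext hxr, map_one]) ha hy5 hyf hn (by omega)
    refine ⟨h3.1, by omega, ?_⟩
    have h4 : (LinearMap.range ((f ⟨x, hx⟩ : U →ₗ[F] U) - 1)).map U.subtype = (RR x).map (prY Q u1 u2) :=
      Submodule.eq_of_le_of_finrank_le hle (by omega)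
    intro v hv
    have h5 : prY Q u1 u2 v ∈ (RR x).map (prY Q u1 u2) := ⟨v, hv, rfl⟩
    rw [← h4] at h5
    obtain ⟨u, _, he⟩ := h5
    refine ⟨prY Q u1 u2 v, ?_, hdec v hv⟩
    rw [← he]
    exact u.2

end Cfg

end Cfsg.Agent.H99.O8
end

-- part: H99/O8/Count
section
/-!
# S3943, the row `Ω⁺₈(2)` (helper99): counting the conjugates of the element of order 15
-/

set_option autoImplicit false
set_option linter.unusedSectionVars false

namespace Cfsg.Agent.H99.O8

open Module Subgroup QuadraticMap Cfsg.Agent.H518.DghpFix Cfsg.Agent.H99.AS Cfsg.Agent.LieClassical.OrthCore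
  Cfsg.Agent.LieClassical.OrthTrans

universe u v w

theorem ncard_biUnion_bound {G : Type*} [Finite G] {ι : Type*} {t : Set ι} (ht : t.Finite) (N : ι → Set G) {c d : ℕ}
    (h : ∀ i ∈ t, c * (N i).ncard ≤ d) : c * (⋃ i ∈ t, N i).ncard ≤ t.ncard * d := by
  induction t, ht using Set.Finite.induction_on with
  | empty => simp
  | @insert a s ha hs ih =>
    rw [Set.biUnion_insert, Set.ncard_insert_of_notMem ha hs]
    have h1 := ih fun i hi => h i (Set.mem_insert_of_mem _ hi)
    have h2 := h a (Set.mem_insert _ _)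
    have h3 := Set.ncard_union_le (N a) (⋃ i ∈ s, N i)
    calc c * (N a ∪ ⋃ i ∈ s, N i).ncard ≤ c * ((N a).ncard + (⋃ i ∈ s, N i).ncard) := Nat.mul_le_mul_left _ h3
      _ = c * (N a).ncard + c * (⋃ i ∈ s, N i).ncard := by ring
      _ ≤ d + s.ncard * d := by omega
      _ = (s.ncard + 1) * d := by ring

variable {F : Type u} [Field F] [Fintype F] {V : Type v} [AddCommGroup V] [Module F V] [FiniteDimensional F V]

/-- the elements moving `a` to `b` -/
def NN (Q : QuadraticForm F V) (a b : V) : Set ↥(E Q) := {g | (g : V ≃ₗ[F] V) a = b}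

variable {Q : QuadraticForm F V}

theorem finite_E (Q : QuadraticForm F V) : Finite ↥(E Q) := by
  have : Finite V := finite_X F V
  have : Finite (V ≃ₗ[F] V) := Finite.of_injective (fun g : V ≃ₗ[F] V => (g : V → V)) DFunLike.coe_injective
  infer_instance

theorem Qmap {g : V ≃ₗ[F] V} (hg : g ∈ E Q) (v : V) : Q (g v) = Q v := E_le_O hg v

theorem NN_bound (hG : Good Q) {a b : V} (ha : a ≠ 0) {k : ℕ} (hk : k ≤ {v : V | v ≠ 0 ∧ Q v = Q a}.ncard) :
    k * (NN Q a b).ncard ≤ Nat.card ↥(E Q) := by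
  have hfE := finite_E Q
  have hfV : Finite V := finite_X F V
  by_cases he : (NN Q a b).Nonempty
  · obtain ⟨g0, hg0⟩ := he
    have hg0 : (g0 : V ≃ₗ[F] V) a = b := hg0
    have hb : b ≠ 0 := by
      intro h
      rw [h] at hg0
      exact ha ((g0 : V ≃ₗ[F] V).injective (by rw [hg0, map_zero]))
    have hQb : Q b = Q a := by rw [← hg0]; exact Qmap g0.2 a
    have hch : ∀ v : {v : V | v ≠ 0 ∧ Q v = Q a}, ∃ g : ↥(E Q), (g : V ≃ₗ[F] V) b = v := by
      rintro ⟨v, hv0, hv⟩
      obtain ⟨g, hg, h⟩ := hG.trans_norm hb hv0 (hQb.trans hv.symm)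
      exact ⟨⟨g, hg⟩, h⟩
    choose c hc using hch
    have hinj : Function.Injective (fun p : {v : V | v ≠ 0 ∧ Q v = Q a} × (NN Q a b) => c p.1 * p.2) := by
      rintro ⟨v, g, hg⟩ ⟨v', g', hg'⟩ h
      have h : c v * g = c v' * g' := h
      have h1 := congrArg (fun k : ↥(E Q) => (k : V ≃ₗ[F] V) a) h
      have h2 : (c v : V ≃ₗ[F] V) ((g : V ≃ₗ[F] V) a) = (c v' : V ≃ₗ[F] V) ((g' : V ≃ₗ[F] V) a) := h1
      rw [show (g : V ≃ₗ[F] V) a = b from hg, show (g' : V ≃ₗ[F] V) a = b from hg', hc, hc] at h2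
      have h3 : v = v' := Subtype.ext h2
      subst h3
      have h4 : g = g' := mul_left_cancel h
      subst h4
      rfl
    have h1 := Nat.card_le_card_of_injective _ hinj
    rw [Nat.card_prod] at h1
    calc k * (NN Q a b).ncard ≤ {v : V | v ≠ 0 ∧ Q v = Q a}.ncard * (NN Q a b).ncard := Nat.mul_le_mul_right _ hk
      _ ≤ _ := h1
  · rw [Set.not_nonempty_iff_eq_empty] at he
    rw [he, Set.ncard_empty, mul_zero]
    exact Nat.zero_le _

/-- the numbers of vectors -/
structure Num (Q : QuadraticForm F V) : Prop where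
  good : Good Q
  h135 : 135 ≤ {v : V | v ≠ 0 ∧ Q v = 0}.ncard
  h120 : 120 ≤ {v : V | Q v = 1}.ncard

theorem Num.sing (hN : Num Q) {a : V} (b : V) (ha : a ≠ 0) (hQ : Q a = 0) :
    135 * (NN Q a b).ncard ≤ Nat.card ↥(E Q) := by
  apply NN_bound hN.good ha
  rw [hQ]
  exact hN.h135

theorem Num.nonsing (hN : Num Q) {a : V} (b : V) (hQ : Q a = 1) :
    120 * (NN Q a b).ncard ≤ Nat.card ↥(E Q) := by
  have ha : a ≠ 0 := by
    rintro rfl
    rw [QuadraticMap.map_zero] at hQ
    exact zero_ne_one hQ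
  apply NN_bound hN.good ha
  rw [hQ]
  refine hN.h120.trans (Set.ncard_le_ncard ?_ ?_)
  · intro v hv
    refine ⟨?_, hv⟩
    rintro rfl
    have hv : Q (0 : V) = 1 := hv
    rw [QuadraticMap.map_zero] at hv
    exact zero_ne_one hv
  · have hfV : Finite V := finite_X F V
    exact Set.toFinite _

theorem Num.any (hN : Num Q) (hF : Fintype.card F = 2) {a : V} (b : V) (ha : a ≠ 0) :
    135 * (NN Q a b).ncard ≤ 2 * Nat.card ↥(E Q) := by
  rcases eq01 hF (Q a) with h | h
  · have := hN.sing b ha h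
    omega
  · have := hN.nonsing b h
    omega

variable {y z : V ≃ₗ[F] V} {U P : Submodule F V} {u1 u2 : V}

/-- the three vectors -/
theorem three_bound (C : Cfg Q y z U P u1 u2) (hN : Num Q) (b : V) :
    135 * (NN Q u1 b ∪ NN Q u2 b ∪ NN Q (u1 + u2) b).ncard ≤ 2 * Nat.card ↥(E Q) := by
  have hfE := finite_E Q
  rcases eq01 C.hF (Q b) with h | h
  · have h0 : NN Q (u1 + u2) b = ∅ := by
      rw [Set.eq_empty_iff_forall_notMem]
      intro g hg
      have h1 := Qmap g.2 (u1 + u2)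
      rw [show (g : V ≃ₗ[F] V) (u1 + u2) = b from hg, h, C.Qn] at h1
      exact zero_ne_one h1
    rw [h0, Set.union_empty]
    have h1 := Set.ncard_union_le (NN Q u1 b) (NN Q u2 b)
    have h2 := hN.sing b C.hyp.left_ne C.hyp.left
    have h3 := hN.sing b C.hyp.right_ne C.hyp.right
    omega
  · have h0 : NN Q u1 b = ∅ := by
      rw [Set.eq_empty_iff_forall_notMem]
      intro g hg
      have h1 := Qmap g.2 u1
      rw [show (g : V ≃ₗ[F] V) u1 = b from hg, h, C.hyp.left] at h1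
      exact one_ne_zero h1
    have h0' : NN Q u2 b = ∅ := by
      rw [Set.eq_empty_iff_forall_notMem]
      intro g hg
      have h1 := Qmap g.2 u2
      rw [show (g : V ≃ₗ[F] V) u2 = b from hg, h, C.hyp.right] at h1
      exact one_ne_zero h1
    rw [h0, h0', Set.union_empty, Set.empty_union]
    have h2 := hN.nonsing b C.Qn
    omega

/-- the number of vectors -/
theorem card_sub (hF : Fintype.card F = 2) (W : Submodule F V) {k : ℕ} (hk : finrank F W ≤ k) :
    (W : Set V).ncard ≤ 2 ^ k := by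
  have h1 : (W : Set V).ncard = 2 ^ finrank F W := by
    rw [← natCard hF, ← Module.natCard_eq_pow_finrank (K := F) (V := W)]
    rfl
  rw [h1]
  exact Nat.pow_le_pow_right (by norm_num) hk

theorem card_sub_ne (hF : Fintype.card F = 2) (W : Submodule F V) {k : ℕ} (hk : finrank F W ≤ k) :
    {v | v ∈ W ∧ v ≠ 0}.ncard + 1 ≤ 2 ^ k := by
  have hfV : Finite V := finite_X F V
  refine le_trans ?_ (card_sub hF W hk)
  have h1 : (W : Set V) = insert 0 {v | v ∈ W ∧ v ≠ 0} := by
    ext v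
    rw [Set.mem_insert_iff]
    constructor
    · intro hv
      by_cases h : v = 0
      · exact Or.inl h
      · exact Or.inr ⟨hv, h⟩
    · rintro (rfl | h)
      · exact W.zero_mem
      · exact h.1
  rw [h1, Set.ncard_insert_of_notMem (fun h => h.2 rfl) (Set.toFinite _)]

/-- the bad elements -/
def Bad (Q : QuadraticForm F V) (y z x : V ≃ₗ[F] V) : Set ↥(E Q) :=
  {g | ∃ M : Subgroup (V ≃ₗ[F] V), M ≤ O Q ∧ Group.IsSolvable M ∧ x ∈ M ∧
    (g : V ≃ₗ[F] V) * y * (g : V ≃ₗ[F] V)⁻¹ ∈ M ∧ (g : V ≃ₗ[F] V) * z * (g : V ≃ₗ[F] V)⁻¹ ∈ M}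

theorem finite_GL : Finite (V ≃ₗ[F] V) := by
  have : Finite V := finite_X F V
  exact Finite.of_injective (fun g : V ≃ₗ[F] V => (g : V → V)) DFunLike.coe_injective

omit [Fintype F] [FiniteDimensional F V] in
theorem inv_app' (g : V ≃ₗ[F] V) (v : V) : g⁻¹ (g v) = v := LinearEquiv.symm_apply_apply g v

omit [Fintype F] [FiniteDimensional F V] in
theorem app_inv' (g : V ≃ₗ[F] V) (v : V) : g (g⁻¹ v) = v := LinearEquiv.apply_symm_apply g v

/-- bad elements and the three vectors -/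
theorem bad_w (C : Cfg Q y z U P u1 u2) {x : V ≃ₗ[F] V} {g : ↥(E Q)} (hg : g ∈ Bad Q y z x) :
    ∃ w, (w = u1 ∨ w = u2 ∨ w = u1 + u2) ∧ x ((g : V ≃ₗ[F] V) w) = (g : V ≃ₗ[F] V) w ∧
      ∀ r : ℕ, r.Prime → x ^ r = 1 → finrank F (RR x) ≤ 2 → (g : V ≃ₗ[F] V) w ∈ RR x ∨
        (∀ v ∈ RR x, ∃ p ∈ P, v = (g : V ≃ₗ[F] V) p ∨ v = (g : V ≃ₗ[F] V) (p + w)) ∨
        (r = 2 ∧ finrank F (RR x) = 2 ∧ ∀ v ∈ RR x, ∃ u ∈ U, v = (g : V ≃ₗ[F] V) u ∨ v = (g : V ≃ₗ[F] V) (u + w)) := by
  obtain ⟨M, hMO, hsol, hxM, hyM, hzM⟩ := hg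
  have hfin : Finite (V ≃ₗ[F] V) := finite_GL
  set k : V ≃ₗ[F] V := (g : V ≃ₗ[F] V) with hk
  have hkO : k ∈ O Q := E_le_O g.2
  set M' := M.map (MulAut.conj k⁻¹).toMonoidHom with hM'
  have hmem : ∀ m : V ≃ₗ[F] V, k * m * k⁻¹ ∈ M → m ∈ M' := fun m hm => ⟨_, hm, by
    show k⁻¹ * (k * m * k⁻¹) * k⁻¹⁻¹ = m
    group⟩
  have hM'O : M' ≤ O Q := by
    rintro _ ⟨m, hm, rfl⟩
    exact mul_mem (mul_mem (inv_mem hkO) (hMO hm)) (inv_mem (inv_mem hkO))
  have hsol' : Group.IsSolvable M' :=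
    Group.isSolvable_of_surjective (MonoidHom.subgroupMap_surjective (MulAut.conj k⁻¹).toMonoidHom M)
  have hyM' := hmem y hyM
  have hzM' := hmem z hzM
  have hxM' : k⁻¹ * x * k ∈ M' := hmem _ (by
    have : k * (k⁻¹ * x * k) * k⁻¹ = x := by group
    rw [this]; exact hxM)
  obtain ⟨w, hw, hMw⟩ := C.fix_exists hsol' hM'O hyM' hzM'
  have hxw : x (k w) = k w := by
    have h1 := hMw _ hxM'
    have h2 : k⁻¹ (x (k w)) = w := h1
    have h3 := congrArg k h2
    rwa [app_inv'] at h3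
  refine ⟨w, hw, hxw, ?_⟩
  intro r hr hxr hR
  have hRR : ∀ v, v ∈ RR (k⁻¹ * x * k) ↔ k v ∈ RR x := by
    intro v
    rw [mem_RR, mem_RR]
    constructor
    · rintro ⟨a, ha⟩
      refine ⟨k a, ?_⟩
      have h1 : k⁻¹ (x (k a)) - a = v := ha
      rw [← h1, map_sub, app_inv']
    · rintro ⟨a, ha⟩
      refine ⟨k⁻¹ a, ?_⟩
      show k⁻¹ (x (k (k⁻¹ a))) - k⁻¹ a = v
      rw [app_inv', ← map_sub, ha, inv_app']
  have hRm : (RR (k⁻¹ * x * k)).map (k : V →ₗ[F] V) = RR x := by
    ext v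
    constructor
    · rintro ⟨a, ha, rfl⟩
      exact (hRR a).1 ha
    · intro hv
      refine ⟨k⁻¹ v, (hRR _).2 ?_, app_inv' k v⟩
      rw [app_inv']; exact hv
  have hfr : finrank F (RR (k⁻¹ * x * k)) = finrank F (RR x) := by
    rw [← hRm]
    exact (LinearEquiv.finrank_map_eq k _).symm
  have hpow : (k⁻¹ * x * k) ^ r = 1 := by
    have h1 := conj_pow (a := k⁻¹) (b := x) (i := r)
    rw [inv_inv] at h1
    rw [h1, hxr]; group
  rcases C.three_cases hsol' hM'O hyM' hzM' hw hMw hxM' hr hpow (by rw [hfr]; exact hR) with h | h | h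
  · exact Or.inl ((hRR w).1 h)
  · right; left
    intro v hv
    obtain ⟨p, hp, h1⟩ := h (k⁻¹ v) ((hRR _).2 (by rw [app_inv']; exact hv))
    refine ⟨p, hp, ?_⟩
    rcases h1 with h1 | h1
    · left; rw [← h1, app_inv']
    · right; rw [← h1, app_inv']
  · right; right
    refine ⟨h.1, by rw [← hfr]; exact h.2.1, ?_⟩
    intro v hv
    obtain ⟨p, hp, h1⟩ := h.2.2 (k⁻¹ v) ((hRR _).2 (by rw [app_inv']; exact hv))
    refine ⟨p, hp, ?_⟩
    rcases h1 with h1 | h1
    · left; rw [← h1, app_inv']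
    · right; rw [← h1, app_inv']

/-- the image of an involution is totally isotropic -/
theorem polar_RR_two (hF : Fintype.card F = 2) {x : V ≃ₗ[F] V} (hx : x ∈ O Q) (hx2 : x ^ 2 = 1) {a b : V}
    (ha : a ∈ RR x) (hb : b ∈ RR x) : polar Q a b = 0 := by
  refine polar_RR hx ?_ hb
  obtain ⟨c, rfl⟩ := mem_RR.1 ha
  have h1 : x (x c) = c := by
    have : x * x = 1 := by rw [← pow_two, hx2]
    have h2 := congrArg (fun k : V ≃ₗ[F] V => k c) this
    exact h2
  rw [map_sub, h1, ← neg_eq hF (x c - c), neg_sub]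

/-- a singular vector in the image of an involution of rank 2 -/
theorem exists_sing (hF : Fintype.card F = 2) {x : V ≃ₗ[F] V} (hx : x ∈ O Q) (hx2 : x ^ 2 = 1)
    (hR : finrank F (RR x) = 2) : ∃ r0 ∈ RR x, r0 ≠ 0 ∧ Q r0 = 0 := by
  have : Nontrivial (RR x) := Module.nontrivial_of_finrank_pos (R := F) (by rw [hR]; norm_num)
  obtain ⟨⟨a, ha⟩, ha0⟩ := exists_ne (0 : RR x)
  have ha0 : a ≠ 0 := fun h => ha0 (Subtype.ext h)
  have hex : ∃ b ∈ RR x, b ≠ 0 ∧ b ≠ a := by
    by_contra hcon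
    push Not at hcon
    have h1 : (RR x : Set V).ncard = 4 := by
      have h2 : (RR x : Set V).ncard = 2 ^ finrank F (RR x) := by
        rw [← natCard hF, ← Module.natCard_eq_pow_finrank (K := F) (V := RR x)]
        rfl
      rw [h2, hR]
      norm_num
    have h2 : (RR x : Set V) ⊆ {0, a} := by
      intro b hb
      by_cases h : b = 0
      · exact Or.inl h
      · exact Or.inr (hcon b hb h)
    have h3 := Set.ncard_le_ncard h2 (Set.toFinite _)
    have h4 := Set.ncard_pair (ha0.symm)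
    omega
  obtain ⟨b, hb, hb0, hba⟩ := hex
  rcases eq01 hF (Q a) with h1 | h1
  · exact ⟨a, ha, ha0, h1⟩
  rcases eq01 hF (Q b) with h2 | h2
  · exact ⟨b, hb, hb0, h2⟩
  refine ⟨a + b, add_mem ha hb, ?_, ?_⟩
  · intro h
    apply hba
    rw [eq_neg_of_add_eq_zero_right h, neg_eq hF]
  · rw [Q_add, h1, h2, polar_RR_two hF hx hx2 ha hb, add_zero]
    have := two_zero hF
    rw [← this]; norm_num

theorem ncard_image_add (W : Submodule F V) (w : V) {k : ℕ} (h : (W : Set V).ncard ≤ k) :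
    ((fun v => v + w) '' (W : Set V)).ncard ≤ k := by
  have hfV : Finite V := finite_X F V
  exact (Set.ncard_image_le (Set.toFinite _)).trans h

/-- the set of images of `w` -/
theorem three_mem {w b : V} (hw : w = u1 ∨ w = u2 ∨ w = u1 + u2) {g : ↥(E Q)} (h : (g : V ≃ₗ[F] V) w = b) :
    g ∈ NN Q u1 b ∪ NN Q u2 b ∪ NN Q (u1 + u2) b := by
  rcases hw with rfl | rfl | rfl
  · exact Or.inl (Or.inl h)
  · exact Or.inl (Or.inr h)
  · exact Or.inr h

theorem w_ne (C : Cfg Q y z U P u1 u2) {w : V} (hw : w = u1 ∨ w = u2 ∨ w = u1 + u2) : w ≠ 0 := by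
  rcases hw with rfl | rfl | rfl
  · exact C.hyp.left_ne
  · exact C.hyp.right_ne
  · exact C.ne_n

theorem app_ne {g : V ≃ₗ[F] V} {v : V} (h : v ≠ 0) : g v ≠ 0 := fun h' => h (g.injective (by rw [h', map_zero]))

/-- **The bound.** -/
theorem bad_bound (C : Cfg Q y z U P u1 u2) (hN : Num Q) {x : V ≃ₗ[F] V} (hx : x ∈ O Q) (hx1 : x ≠ 1) {r : ℕ}
    (hr : r.Prime) (hxr : x ^ r = 1) : ∃ B : Set ↥(E Q), Bad Q y z x ⊆ B ∧ 2 * B.ncard < Nat.card ↥(E Q) := by
  have hfE := finite_E Q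
  have hfV : Finite V := finite_X F V
  have hpos : 0 < Nat.card ↥(E Q) := Nat.card_pos
  by_cases hR : finrank F (RR x) ≤ 2
  · have hR0 := card_sub_ne C.hF (RR x) hR
    have hB1 := ncard_biUnion_bound (t := {v | v ∈ RR x ∧ v ≠ 0}) (Set.toFinite _)
      (fun b => NN Q u1 b ∪ NN Q u2 b ∪ NN Q (u1 + u2) b) (c := 135) (d := 2 * Nat.card ↥(E Q))
      (fun b _ => three_bound C hN b)
    have hUc : (U : Set V).ncard ≤ 16 := card_sub C.hF U C.hU.le
    have hPc : (P : Set V).ncard ≤ 4 := card_sub C.hF P C.hP.le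
    have hmul : {v | v ∈ RR x ∧ v ≠ 0}.ncard * (2 * Nat.card ↥(E Q)) ≤ 3 * (2 * Nat.card ↥(E Q)) :=
      Nat.mul_le_mul_right _ (by omega)
    by_cases h2 : r = 2 ∧ finrank F (RR x) = 2
    · obtain ⟨r0, hr0, hr00, hQr0⟩ := exists_sing C.hF hx (by rw [← h2.1]; exact hxr) h2.2
      set Z : Set V := {v | v ≠ 0 ∧ Q v = 0 ∧ ∃ w, (w = u1 ∨ w = u2 ∨ w = u1 + u2) ∧
        ((∃ p ∈ P, v = p ∨ v = p + w) ∨ (∃ u ∈ U, v = u ∨ v = u + w))} with hZ
      have hZs : Z ⊆ {u | u ∈ U ∧ u ≠ 0 ∧ Q u = 0} ∪ (fun v => v + u1) '' (U : Set V) ∪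
          (fun v => v + u2) '' (U : Set V) ∪ (fun v => v + (u1 + u2)) '' (U : Set V) ∪
          (fun v => v + (u1 + u2)) '' (P : Set V) := by
        rintro v ⟨hv0, hQv, w, hw, h | h⟩
        · obtain ⟨p, hp, h⟩ := h
          have hp0 : Q p = 0 → p = 0 := by
            intro h1
            by_contra h2
            rw [C.QP p hp h2] at h1
            exact one_ne_zero h1
          rcases h with h | h
          · exfalso
            rw [h] at hv0 hQv
            exact hv0 (hp0 hQv)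
          · rcases hw with rfl | rfl | rfl
            · have h1 : p = 0 := by
                apply hp0
                rw [h, Q_add, C.hyp.left, polar_comm, C.P1 p hp, add_zero, add_zero] at hQv
                exact hQv
              rw [h1] at h
              exact Or.inl (Or.inl (Or.inl (Or.inr ⟨0, U.zero_mem, h.symm⟩)))
            · have h1 : p = 0 := by
                apply hp0
                rw [h, Q_add, C.hyp.right, polar_comm, C.P2 p hp, add_zero, add_zero] at hQv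
                exact hQv
              rw [h1] at h
              exact Or.inl (Or.inl (Or.inr ⟨0, U.zero_mem, h.symm⟩))
            · exact Or.inr ⟨p, hp, h.symm⟩
        · obtain ⟨u, hu, h⟩ := h
          rcases h with h | h
          · exact Or.inl (Or.inl (Or.inl (Or.inl ⟨h ▸ hu, hv0, hQv⟩)))
          · rcases hw with rfl | rfl | rfl
            · exact Or.inl (Or.inl (Or.inl (Or.inr ⟨u, hu, h.symm⟩)))
            · exact Or.inl (Or.inl (Or.inr ⟨u, hu, h.symm⟩))
            · exact Or.inl (Or.inr ⟨u, hu, h.symm⟩)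
      have hZc : Z.ncard ≤ 57 := by
        refine (Set.ncard_le_ncard hZs (Set.toFinite _)).trans ?_
        have e1 := Set.ncard_union_le ({u | u ∈ U ∧ u ≠ 0 ∧ Q u = 0} ∪ (fun v => v + u1) '' (U : Set V) ∪
          (fun v => v + u2) '' (U : Set V) ∪ (fun v => v + (u1 + u2)) '' (U : Set V))
          ((fun v => v + (u1 + u2)) '' (P : Set V))
        have e2 := Set.ncard_union_le ({u | u ∈ U ∧ u ≠ 0 ∧ Q u = 0} ∪ (fun v => v + u1) '' (U : Set V) ∪
          (fun v => v + u2) '' (U : Set V)) ((fun v => v + (u1 + u2)) '' (U : Set V))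
        have e3 := Set.ncard_union_le ({u | u ∈ U ∧ u ≠ 0 ∧ Q u = 0} ∪ (fun v => v + u1) '' (U : Set V))
          ((fun v => v + u2) '' (U : Set V))
        have e4 := Set.ncard_union_le ({u | u ∈ U ∧ u ≠ 0 ∧ Q u = 0}) ((fun v => v + u1) '' (U : Set V))
        have f1 := ncard_image_add U u1 hUc
        have f2 := ncard_image_add U u2 hUc
        have f3 := ncard_image_add U (u1 + u2) hUc
        have f4 := ncard_image_add P (u1 + u2) hPc
        have f5 := C.QU
        omega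
      have hB2 := ncard_biUnion_bound (t := Z) (Set.toFinite _) (fun v => NN Q v r0) (c := 135)
        (d := Nat.card ↥(E Q)) (fun v hv => hN.sing r0 hv.1 hv.2.1)
      have hmul2 : Z.ncard * Nat.card ↥(E Q) ≤ 57 * Nat.card ↥(E Q) := Nat.mul_le_mul_right _ hZc
      refine ⟨(⋃ b ∈ {v | v ∈ RR x ∧ v ≠ 0}, (NN Q u1 b ∪ NN Q u2 b ∪ NN Q (u1 + u2) b)) ∪ ⋃ v ∈ Z, NN Q v r0,
        ?_, ?_⟩
      · intro g hg
        obtain ⟨w, hw, hxw, h⟩ := bad_w C hg
        rcases h r hr hxr hR with h | h | h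
        · left
          exact Set.mem_biUnion (x := (g : V ≃ₗ[F] V) w) ⟨h, app_ne (w_ne C hw)⟩ (three_mem hw rfl)
        · right
          obtain ⟨p, hp, hv⟩ := h r0 hr0
          rcases hv with hv | hv
          · refine Set.mem_biUnion (x := p) ⟨?_, ?_, w, hw, Or.inl ⟨p, hp, Or.inl rfl⟩⟩ hv.symm
            · rintro rfl
              exact hr00 (by rw [hv, map_zero])
            · rw [← Qmap g.2 p, ← hv, hQr0]
          · refine Set.mem_biUnion (x := p + w) ⟨?_, ?_, w, hw, Or.inl ⟨p, hp, Or.inr rfl⟩⟩ hv.symm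
            · intro h0
              exact hr00 (by rw [hv, h0, map_zero])
            · rw [← Qmap g.2 (p + w), ← hv, hQr0]
        · right
          obtain ⟨p, hp, hv⟩ := h.2.2 r0 hr0
          rcases hv with hv | hv
          · refine Set.mem_biUnion (x := p) ⟨?_, ?_, w, hw, Or.inr ⟨p, hp, Or.inl rfl⟩⟩ hv.symm
            · rintro rfl
              exact hr00 (by rw [hv, map_zero])
            · rw [← Qmap g.2 p, ← hv, hQr0]
          · refine Set.mem_biUnion (x := p + w) ⟨?_, ?_, w, hw, Or.inr ⟨p, hp, Or.inr rfl⟩⟩ hv.symm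
            · intro h0
              exact hr00 (by rw [hv, h0, map_zero])
            · rw [← Qmap g.2 (p + w), ← hv, hQr0]
      · have h3 := Set.ncard_union_le (⋃ b ∈ {v | v ∈ RR x ∧ v ≠ 0}, (NN Q u1 b ∪ NN Q u2 b ∪ NN Q (u1 + u2) b))
          (⋃ v ∈ Z, NN Q v r0)
        omega
    · have hex : ∃ r0 ∈ RR x, r0 ≠ 0 := by
        by_contra hcon
        push Not at hcon
        apply hx1
        refine LinearEquiv.ext fun v => ?_
        exact sub_eq_zero.1 (hcon _ (mem_RR.2 ⟨v, rfl⟩))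
      obtain ⟨r0, hr0, hr00⟩ := hex
      set T : Set V := {v | v ≠ 0 ∧ ∃ w, (w = u1 ∨ w = u2 ∨ w = u1 + u2) ∧ (∃ p ∈ P, v = p ∨ v = p + w)} with hT
      have hTs : T ⊆ (P : Set V) ∪ (fun v => v + u1) '' (P : Set V) ∪
          (fun v => v + u2) '' (P : Set V) ∪ (fun v => v + (u1 + u2)) '' (P : Set V) := by
        rintro v ⟨hv0, w, hw, p, hp, h⟩
        rcases h with h | h
        · exact Or.inl (Or.inl (Or.inl (h ▸ hp)))
        · rcases hw with rfl | rfl | rfl
          · exact Or.inl (Or.inl (Or.inr ⟨p, hp, h.symm⟩))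
          · exact Or.inl (Or.inr ⟨p, hp, h.symm⟩)
          · exact Or.inr ⟨p, hp, h.symm⟩
      have hTc : T.ncard ≤ 16 := by
        refine (Set.ncard_le_ncard hTs (Set.toFinite _)).trans ?_
        have e2 := Set.ncard_union_le ((P : Set V) ∪ (fun v => v + u1) '' (P : Set V) ∪
          (fun v => v + u2) '' (P : Set V)) ((fun v => v + (u1 + u2)) '' (P : Set V))
        have e3 := Set.ncard_union_le ((P : Set V) ∪ (fun v => v + u1) '' (P : Set V))
          ((fun v => v + u2) '' (P : Set V))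
        have e4 := Set.ncard_union_le (P : Set V) ((fun v => v + u1) '' (P : Set V))
        have f1 := ncard_image_add P u1 hPc
        have f2 := ncard_image_add P u2 hPc
        have f3 := ncard_image_add P (u1 + u2) hPc
        omega
      have hB2 := ncard_biUnion_bound (t := T) (Set.toFinite _) (fun v => NN Q v r0) (c := 135)
        (d := 2 * Nat.card ↥(E Q)) (fun v hv => hN.any C.hF r0 hv.1)
      have hmul2 : T.ncard * (2 * Nat.card ↥(E Q)) ≤ 16 * (2 * Nat.card ↥(E Q)) := Nat.mul_le_mul_right _ hTc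
      refine ⟨(⋃ b ∈ {v | v ∈ RR x ∧ v ≠ 0}, (NN Q u1 b ∪ NN Q u2 b ∪ NN Q (u1 + u2) b)) ∪ ⋃ v ∈ T, NN Q v r0,
        ?_, ?_⟩
      · intro g hg
        obtain ⟨w, hw, hxw, h⟩ := bad_w C hg
        rcases h r hr hxr hR with h | h | h
        · left
          exact Set.mem_biUnion (x := (g : V ≃ₗ[F] V) w) ⟨h, app_ne (w_ne C hw)⟩ (three_mem hw rfl)
        · right
          obtain ⟨p, hp, hv⟩ := h r0 hr0
          rcases hv with hv | hv
          · refine Set.mem_biUnion (x := p) ⟨?_, w, hw, p, hp, Or.inl rfl⟩ hv.symm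
            rintro rfl
            exact hr00 (by rw [hv, map_zero])
          · refine Set.mem_biUnion (x := p + w) ⟨?_, w, hw, p, hp, Or.inr rfl⟩ hv.symm
            intro h0
            exact hr00 (by rw [hv, h0, map_zero])
        · exact absurd ⟨h.1, h.2.1⟩ h2
      · have h3 := Set.ncard_union_le (⋃ b ∈ {v | v ∈ RR x ∧ v ≠ 0}, (NN Q u1 b ∪ NN Q u2 b ∪ NN Q (u1 + u2) b))
          (⋃ v ∈ T, NN Q v r0)
        omega
  · have hker : finrank F ↥(LinearMap.ker ((x : V →ₗ[F] V) - 1)) ≤ 5 := by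
      have h1 := LinearMap.finrank_range_add_finrank_ker ((x : V →ₗ[F] V) - 1)
      rw [C.dim] at h1
      have h2 : finrank F (RR x) = finrank F ↥(LinearMap.range ((x : V →ₗ[F] V) - 1)) := rfl
      omega
    have hC0 := card_sub_ne C.hF _ hker
    have hB1 := ncard_biUnion_bound (t := {v | v ∈ LinearMap.ker ((x : V →ₗ[F] V) - 1) ∧ v ≠ 0}) (Set.toFinite _)
      (fun b => NN Q u1 b ∪ NN Q u2 b ∪ NN Q (u1 + u2) b) (c := 135) (d := 2 * Nat.card ↥(E Q))
      (fun b _ => three_bound C hN b)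
    have hmul : {v | v ∈ LinearMap.ker ((x : V →ₗ[F] V) - 1) ∧ v ≠ 0}.ncard * (2 * Nat.card ↥(E Q)) ≤
      31 * (2 * Nat.card ↥(E Q)) := Nat.mul_le_mul_right _ (by omega)
    refine ⟨⋃ b ∈ {v | v ∈ LinearMap.ker ((x : V →ₗ[F] V) - 1) ∧ v ≠ 0},
      (NN Q u1 b ∪ NN Q u2 b ∪ NN Q (u1 + u2) b), ?_, ?_⟩
    · intro g hg
      obtain ⟨w, hw, hxw, h⟩ := bad_w C hg
      refine Set.mem_biUnion (x := (g : V ≃ₗ[F] V) w) ⟨?_, app_ne (w_ne C hw)⟩ (three_mem hw rfl)
      rw [LinearMap.mem_ker, LinearMap.sub_apply, Module.End.one_apply, sub_eq_zero]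
      exact hxw
    · omega

end Cfsg.Agent.H99.O8
end

private theorem dce_44f3ee03950f : _root_.True := by
  try have : _root_.True := by simp only [_root_.Cfsg.Agent.H99.O8.prY.eq_1]
  try have : _root_.True := by simp only [_root_.Cfsg.Agent.H99.O8.HH.eq_1]
  exact _root_.True.intro
end

-- part: H500/AS/Plus_mg
section
prune_inst 0x4157075040f62020000000596112020346c00049000008c01cda10b460a01e0228d8228410c0010034a2a018100050008110000904040000004000400000501208082420433500d04a6001f800080000000000000000000000000000000010004000000000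
set_option linter.all false
open scoped Cfsg.Agent.FastGrp

-- part: H500/AS/Orth
section
/-!
# S3943: the counting data for `PΩ_{2m+1}(q)`, `PΩ⁻_{2m}(q)` (helper500)

`cnt_minus`, `cnt_odd`.
-/

set_option autoImplicit false

universe u v w

namespace Cfsg.Agent.H500.AS

open Module Cfsg.Agent.H518.DghpFix Cfsg.Agent.H518.DghpPrim Cfsg.Agent.H518.DghpMat Cfsg.Agent.H518.SU QuadraticMap
open Cfsg.Agent.LieClassical.OmegaReindex Cfsg.Agent.H489.AS

/-- The central quotient. -/
theorem cnt_center {G : Type u} [Group G] [Finite G] {g p a : ℕ} (hp : p.Prime) (hp5 : 5 ≤ p) (ha : 1 ≤ a)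
    (hg : ¬ p ∣ g) (hG : ¬ p ^ (a + 1) ∣ Nat.card G) {y : G} (hy : orderOf y = p ^ a) (hel : El p y)
    (hc : ¬ p ∣ Nat.card (Subgroup.center G)) {c b : ℕ}
    (hcent : ∀ z : G, orderOf z = p → Nat.card (Subgroup.centralizer ({z} : Set G)) ≤ c)
    (hb : ∀ H : Subgroup (G ⧸ Subgroup.center G), H ≠ ⊤ → b ≤ H.index) (hcb : 2 * c ≤ b) :
    Cnt g (G ⧸ Subgroup.center G) := by
  have hk : (QuotientGroup.mk' (Subgroup.center G)).ker = Subgroup.center G := QuotientGroup.ker_mk' _
  have hk' : ¬ p ∣ Nat.card (QuotientGroup.mk' (Subgroup.center G)).ker := by rwa [hk]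
  refine ⟨p, a, b, hp, hp5, ha, hg, ?_, ⟨QuotientGroup.mk' (Subgroup.center G) y, orderOf_map hp hy _ hk',
    hel.map hp _ (QuotientGroup.mk'_surjective _) ?_ hk'⟩, hb, fun u hu => ?_⟩
  · intro h
    apply hG
    rw [Subgroup.card_eq_card_quotient_mul_card_subgroup (Subgroup.center G)]
    exact Dvd.dvd.mul_right h _
  · rw [hk]
    exact Group.isSolvable_of_comm fun a b => Subtype.ext ((Subgroup.mem_center_iff.1 b.2) a)
  · have h1 := cent_quot hp hc hcent u hu
    have h2 : 0 < Nat.card (Subgroup.center G) := Nat.card_pos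
    have h3 : Nat.card (Subgroup.centralizer ({u} : Set (G ⧸ Subgroup.center G))) ≤
        Nat.card (Subgroup.centralizer ({u} : Set (G ⧸ Subgroup.center G))) * Nat.card (Subgroup.center G) :=
      Nat.le_mul_of_pos_right _ h2
    omega

section

variable {ι : Type} [Fintype ι] [DecidableEq ι] {F : Type} [Field F] [Fintype F]

/-- The general orthogonal row. -/
theorem cnt_orth_of {Q : QuadraticForm F (ι → F)} (hQ : (polarBilin Q).Nondegenerate)
    (hn : 3 ≤ Fintype.card ι) (hs : ∃ u : ι → F, u ≠ 0 ∧ Q u = 0) {p a g : ℕ} (hp : p.Prime) (hp5 : 5 ≤ p)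
    (ha : 1 ≤ a) (hpg : ¬ p ∣ g) (h1 : p ^ a ∣ Nat.card (Cfsg.POmega F (⇑Q)))
    (h2 : ¬ p ^ (a + 1) ∣ Nat.card (Cfsg.POmega F (⇑Q))) (hpF : ¬ p ∣ Fintype.card F)
    (h2e : finrank F (ι → F) < 2 * orderOf ((Fintype.card F : ℕ) : ZMod p))
    (hel : ∀ y : Cfsg.Omega F (⇑Q), orderOf y = p ^ a → El p y) {R κ b : ℕ}
    (hR : Fintype.card F ^ orderOf ((Fintype.card F : ℕ) : ZMod p) ≤ R ^ 2)
    (hK : ∀ z : Cfsg.Omega F (⇑Q), orderOf z = p → Nat.card (K1 (matRep (omHom (⇑Q))) z) ≤ κ)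
    (hb : ∀ H : Subgroup (Cfsg.POmega F (⇑Q)), H ≠ ⊤ → b ≤ H.index) (hlast : 2 * ((R + 1) * κ) ≤ b) :
    Cnt g (Cfsg.POmega F (⇑Q)) := by
  have hc := not_dvd_center_omega hQ hn hs hp (by omega)
  have hcard : Nat.card (Cfsg.Omega F (⇑Q)) =
      Nat.card (Cfsg.POmega F (⇑Q)) * Nat.card (Subgroup.center (Cfsg.Omega F (⇑Q))) :=
    Subgroup.card_eq_card_quotient_mul_card_subgroup _
  have hG : p ^ a ∣ Nat.card (Cfsg.Omega F (⇑Q)) := by
    rw [hcard]
    exact Dvd.dvd.mul_right h1 _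
  have hG' : ¬ p ^ (a + 1) ∣ Nat.card (Cfsg.Omega F (⇑Q)) := by
    rw [hcard, mul_comm]
    exact not_pow_dvd_mul_of_not_dvd hp hc h2
  obtain ⟨y, hy⟩ := exists_orderOf hp (by omega) (commuting_of_rep (matRep (omHom (⇑Q)))
    (matRep_injective (omHom_injective _)) hp hpF h2e) hG
  refine cnt_center hp hp5 ha hpg hG' hy (hel y hy) hc (c := (R + 1) * κ) (fun z hz => ?_) hb hlast
  refine (cent_le (matRep (omHom (⇑Q))) (matRep_injective (omHom_injective _)) (frm_polar hQ)
    (fun x y z => polar_add_left Q x y z) (RingHom.id F) (fun c x y => ?_) (fun g u v => omHom_polar _ g u v) hp hpF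
    h2e hz hR).trans (Nat.mul_le_mul_left _ (hK z hz))
  show polar (⇑Q) (c • x) y = c * polar (⇑Q) x y
  rw [polar_smul_left, smul_eq_mul]

/-- facts about an element of order `p` -/
theorem fix_facts {Q : QuadraticForm F (ι → F)} {p e : ℕ} (hp : p.Prime) (hpF : ¬ p ∣ Fintype.card F)
    (he : orderOf ((Fintype.card F : ℕ) : ZMod p) = e) (h2e : finrank F (ι → F) < 2 * e) {z : Cfsg.Omega F (⇑Q)}
    (hz : orderOf z = p) : finrank F (fixS (matRep (omHom (⇑Q)) z)) + e = finrank F (ι → F) ∧ z ^ p = 1 ∧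
      matRep (omHom (⇑Q)) z ^ p ^ 1 = 1 ∧ matRep (omHom (⇑Q)) z ≠ 1 ∧ (p : F) ≠ 0 := by
  have hzp : z ^ p = 1 := by rw [← hz, pow_orderOf_eq_one]
  have h1 : matRep (omHom (⇑Q)) z ^ p ^ 1 = 1 := by rw [pow_one, ← map_pow, hzp, map_one]
  have h2 : matRep (omHom (⇑Q)) z ≠ 1 := by
    intro h
    have h3 : z = 1 := matRep_injective (omHom_injective _) (by rw [h, map_one])
    rw [h3, orderOf_one] at hz
    exact hp.one_lt.ne hz
  exact ⟨finrank_fixS_add hp hpF h1 h2 he h2e, hzp, h1, h2, cast_ne_zero_of_not_dvd hp hpF⟩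

end

section

variable {F : Type} [Field F] [Fintype F] {m q p₀ f : ℕ}

theorem arith_minus {q m : ℕ} (hq : 2 ≤ q) (hm : 4 ≤ m) :
    2 * ((q ^ m + 1) * 1) ≤ (q ^ m + 1) * (q ^ (m - 1) - 1) / (q - 1) := by
  rw [Nat.le_div_iff_mul_le (by omega)]
  have h1 : q ^ 3 ≤ q ^ (m - 1) := Nat.pow_le_pow_right (by omega) (by omega)
  have h2 : 2 * (q - 1) ≤ q ^ (m - 1) - 1 := by
    have h3 : 2 * q ≤ q ^ 3 := by
      have : q ^ 3 = q * (q * q) := by ring
      nlinarith only [hq, _root_.mul_self_nonneg (↑q : ℤ), _root_.Nat.cast_nonneg (α := ℤ) (q)]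
    omega
  calc 2 * ((q ^ m + 1) * 1) * (q - 1) = (q ^ m + 1) * (2 * (q - 1)) := by ring
    _ ≤ _ := Nat.mul_le_mul_left _ h2

/-- `PΩ⁻_{2m}(q)`. -/
theorem cnt_minus {g : ℕ} (hg : Cond q f g) (hp₀ : p₀.Prime) (hf : 1 ≤ f) (hq : q = p₀ ^ f)
    (hF : Fintype.card F = q) (hm : 4 ≤ m) (a b : F)
    (hab : ∀ z₁ z₂ : F, z₁ ^ 2 + a * z₁ * z₂ + b * z₂ ^ 2 = 0 → z₁ = 0 ∧ z₂ = 0) :
    Cnt g (Cfsg.POmega F (Cfsg.quadFormMinus (m - 1) F a b)) := by
  have hq1 : 1 < q := hF ▸ Fintype.one_lt_card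
  obtain ⟨p, k, ⟨hp, hp5, hk, hord, hdvd, hdvd', hpf⟩, hs⟩ := exists_pack_irred (e := 2 * m) hp₀ hf hq (by omega)
    (by omega) (by omega)
  obtain ⟨h1, h2⟩ := add_one_facts hp (by omega) (by omega) hord hdvd hdvd'
  have hpq : ¬ p ∣ q := not_dvd_of_orderOf hp hord (by omega)
  have hcard := Cfsg.Agent.S0294.result hF m hm a b hab
  have hind := (Cfsg.Agent.S2147.result hF m hm a b hab).1
  have hdim : Fintype.card ((Fin (m - 1) ⊕ Fin (m - 1)) ⊕ Fin 2) = 2 * m := by
    simp only [Fintype.card_sum, Fintype.card_fin]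
    omega
  have hd : finrank F ((Fin (m - 1) ⊕ Fin (m - 1)) ⊕ Fin 2 → F) = 2 * m := by rw [finrank_pi_fin, hdim]
  rw [← coe_quadMinus] at hcard hind ⊢
  have hQ : (polarBilin (quadMinus (m - 1) F a b)).Nondegenerate := quadMinus_nondegenerate hab
  refine cnt_orth_of hQ (by omega) (quadMinus_isotropic (by omega) a b) hp hp5 hk (hg p hp hp5 hpf (by omega))
    ?_ ?_ (by rwa [hF]) (by rw [hd, hF, hord]; omega) (fun y hy => ?_) (R := q ^ m) (κ := 1)
    (by rw [hF, hord, ← pow_mul, mul_comm 2 m]) (fun z hz => ?_) hind (arith_minus (by omega) hm)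
  · refine pow_dvd_of_dvd_four_mul hp (by omega) (Nat.gcd_dvd_left 4 (q ^ m + 1)) ?_
    rw [hcard]
    exact Dvd.dvd.mul_right (Dvd.dvd.mul_left h1 _) _
  · intro h3
    have h4 : p ^ (k + 1) ∣ q ^ (m * (m - 1)) * (q ^ m + 1) * ∏ i ∈ Finset.range (m - 1), (q ^ (2 * (i + 1)) - 1) := by
      rw [← hcard]
      exact Dvd.dvd.mul_left h3 _
    rw [mul_comm] at h4
    refine not_pow_dvd_mul_of_not_dvd hp ?_ (not_pow_dvd_mul_of_not_dvd hp (not_dvd_pow hp hpq) h2) h4
    rw [← Nat.Prime.coprime_iff_not_dvd hp, Nat.coprime_prod_right_iff]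
    intro i hi
    have := Finset.mem_range.1 hi
    exact (Nat.Prime.coprime_iff_not_dvd hp).2 (not_dvd_of_lt (by omega) hord (by omega) (by omega))
  · exact el_of_size (matRep (omHom _)) ((by exact matRep_injective (omHom_injective _))) hp
      (by omega) hk (by rwa [hF]) (by rw [hd, hF, hord]; omega) (by rw [hF, hd]; exact hs) hy
      (core_irred (matRep (omHom _)) ((by exact matRep_injective (omHom_injective _))) hp (by rwa [hF])
        (by rw [hF, hord, hd]) hk hy)
  · obtain ⟨e1, e2, e3, e4, e5⟩ := fix_facts hp (by rwa [hF]) (by rw [hF, hord]) (by rw [hd]; omega) hz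
    rw [hd] at e1
    refine (card_K1_zero ((by exact matRep_injective (omHom_injective _))) e5 e2 ?_).le
    exact Submodule.finrank_eq_zero.1 (by omega)

theorem arith_odd5 {q m : ℕ} (hq : 2 ≤ q) (hm : 3 ≤ m) :
    2 * ((q ^ m + 1) * (q - 1)) ≤ (q ^ (2 * m) - 1) / (q - 1) := by
  rw [Nat.le_div_iff_mul_le (by omega)]
  obtain ⟨r, rfl⟩ : ∃ r, q = r + 1 := ⟨q - 1, by omega⟩
  have h1 : (r + 1) ^ 3 ≤ (r + 1) ^ m := Nat.pow_le_pow_right (by omega) (by omega)
  have h2 : (r + 1) ^ (2 * m) - 1 = ((r + 1) ^ m + 1) * ((r + 1) ^ m - 1) := by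
    have := Nat.sq_sub_sq ((r + 1) ^ m) 1
    rw [one_pow, ← pow_mul, mul_comm m 2] at this
    exact this
  rw [h2, Nat.add_sub_cancel]
  have h3 : 2 * (r * r) ≤ (r + 1) ^ m - 1 := by
    have h4 : (r + 1) ^ 3 = r * (r * r) + 3 * (r * r) + 3 * r + 1 := by ring
    have h5 : 2 * (r * r) + 1 ≤ (r + 1) ^ 3 := by
      rw [h4]
      have : 0 ≤ r * (r * r) := Nat.zero_le _
      linarith only [this, _root_.mul_self_nonneg (↑r : ℤ)]
    omega
  calc 2 * (((r + 1) ^ m + 1) * r) * r = ((r + 1) ^ m + 1) * (2 * (r * r)) := by ring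
    _ ≤ _ := Nat.mul_le_mul_left _ h3

theorem arith_odd3 {m : ℕ} (hm : 4 ≤ m) : 2 * ((3 ^ m + 1) * (3 - 1)) ≤ 3 ^ m * (3 ^ m - 1) / 2 := by
  rw [Nat.le_div_iff_mul_le (by omega)]
  have h1 : 3 ^ 4 ≤ 3 ^ m := Nat.pow_le_pow_right (by omega) (by omega)
  obtain ⟨x, hx⟩ : ∃ x, 3 ^ m = x + 81 := ⟨3 ^ m - 81, by omega⟩
  rw [hx, show x + 81 - 1 = x + 80 by omega]
  nlinarith only []

set_option maxHeartbeats 1000000 in
/-- `PΩ_{2m+1}(q)`. -/
theorem cnt_odd {g : ℕ} (hg : Cond q f g) (hp₀ : p₀.Prime) (hf : 1 ≤ f) (hq : q = p₀ ^ f)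
    (hF : Fintype.card F = q) (hm : 3 ≤ m) (hodd : Odd q)
    (h36 : ¬ (q = 3 ∧ m = 3)) (h56 : ¬ (q = 5 ∧ m = 3)) : Cnt g (Cfsg.POmega F (Cfsg.quadFormOdd m F)) := by
  have hq1 : 1 < q := hF ▸ Fintype.one_lt_card
  have hexc : ¬ Exc q (2 * m) := by
    obtain ⟨j, hj⟩ := hodd
    unfold Exc
    (clear * - hm h36 h56 hj; omega)
  obtain ⟨p, k, ⟨hp, hp5, hk, hord, hdvd, hdvd', hpf⟩, hs⟩ := exists_pack (e := 2 * m) hp₀ hf hq (by omega) hexc
  have hpq : ¬ p ∣ q := not_dvd_of_orderOf hp hord (by omega)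
  have hcard := Cfsg.Agent.S0292.result hF hodd m hm
  obtain ⟨b, hind, hlast⟩ : ∃ b, (∀ H : Subgroup (Cfsg.POmega F (Cfsg.quadFormOdd m F)), H ≠ ⊤ → b ≤ H.index) ∧
      2 * ((q ^ m + 1) * (q - 1)) ≤ b := by
    rcases Nat.lt_or_ge q 5 with h5 | h5
    · have h3 : q = 3 := by
        obtain ⟨j, hj⟩ := hodd
        omega
      subst h3
      exact ⟨_, (Cfsg.Agent.S2144.result hF m hm).1, arith_odd3 (by omega)⟩
    · exact ⟨_, (Cfsg.Agent.S2143.result hF hodd h5 m hm).1, arith_odd5 (by omega) hm⟩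
  have hdim : Fintype.card (Unit ⊕ (Fin m ⊕ Fin m)) = 2 * m + 1 := by
    simp only [Fintype.card_sum, Fintype.card_fin, Fintype.card_unit]
    omega
  have hd : finrank F (Unit ⊕ (Fin m ⊕ Fin m) → F) = 2 * m + 1 := by rw [finrank_pi_fin, hdim]
  have h2F : (2 : F) ≠ 0 := by
    intro h
    have h6 : ringChar F = 2 := by
      have h7 : ringChar F ∣ 2 := (ringChar.spec F 2).1 (by exact_mod_cast h)
      exact (Nat.prime_dvd_prime_iff_eq (CharP.char_is_prime F (ringChar F)) Nat.prime_two).1 h7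
    have h7 := FiniteField.even_card_of_char_two h6
    rw [hF] at h7
    have h8 := Nat.odd_iff.1 hodd
    omega
  rw [← coe_quadOdd] at hcard hind ⊢
  have hQ : (polarBilin (quadOdd m F)).Nondegenerate := quadOdd_nondegenerate h2F
  have hsing : ∃ u : Unit ⊕ (Fin m ⊕ Fin m) → F, u ≠ 0 ∧ quadOdd m F u = 0 := quadOdd_isotropic (by omega)
  refine cnt_orth_of hQ (by omega) hsing hp hp5 hk (hg p hp hp5 hpf (by omega)) ?_ ?_ (by rwa [hF])
    (by rw [hd, hF, hord]; omega) (fun y hy => ?_) (R := q ^ m) (κ := q - 1)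
    (by rw [hF, hord, ← pow_mul, mul_comm 2 m]) (fun z hz => ?_) hind hlast
  · refine pow_dvd_of_dvd_four_mul (g := 2) hp (by omega) (by norm_num) ?_
    rw [hcard]
    exact Dvd.dvd.mul_left (hdvd.trans (dvd_prod_factor (by omega) le_rfl)) _
  · intro h3
    have h4 : p ^ (k + 1) ∣ q ^ (m ^ 2) * ∏ i ∈ Finset.range m, (q ^ (2 * (i + 1)) - 1) := by
      rw [← hcard]
      exact Dvd.dvd.mul_left h3 _
    refine not_pow_dvd_mul_of_not_dvd hp (not_dvd_pow hp hpq) ?_ h4
    refine not_pow_dvd_prod hp (Finset.range m) _ (m - 1) ?_ ?_ (Finset.mem_range.2 (by omega))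
    · have : m - 1 + 1 = m := by omega
      rw [this]
      exact hdvd'
    · intro i hi hi'
      have := Finset.mem_range.1 hi
      exact not_dvd_of_lt (by omega) hord (by omega) (by (clear * - hi' this; omega))
  · exact el_of_size (matRep (omHom _)) ((by exact matRep_injective (omHom_injective _))) hp
      (by omega) hk (by rwa [hF]) (by rw [hd, hF, hord]; omega) (by rw [hF, hd]; exact Or.inl (hs _ (by omega))) hy
      (core_fix_one (matRep (omHom _)) ((by exact matRep_injective (omHom_injective _))) (frm_polar hQ)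
        (fun g u v => (by exact omHom_polar _ g u v)) hp (by rwa [hF]) (by rw [hd, hF, hord]; omega) (by rw [hd, hF, hord]) hk hy)
  · obtain ⟨e1, e2, e3, e4, e5⟩ := fix_facts hp (by rwa [hF]) (by rw [hF, hord]) (by rw [hd]; omega) hz
    rw [hd] at e1
    have h6 := card_K1_one ((by exact matRep_injective (omHom_injective _))) e5 e2 (by omega)
    rwa [hF] at h6

end

end Cfsg.Agent.H500.AS
end

-- part: H500/AS/Plus
section
/-!
# S3943: the counting data for `PΩ⁺_{2m}(q)` (helper500)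

`cnt_plus`.
-/

set_option autoImplicit false

universe u v w

namespace Cfsg.Agent.H500.AS

open Module Cfsg.Agent.H518.DghpFix Cfsg.Agent.H518.DghpPrim Cfsg.Agent.H518.DghpMat Cfsg.Agent.H518.SU QuadraticMap
open Cfsg.Agent.LieClassical.OmegaReindex Cfsg.Agent.H489.AS

variable {F : Type} [Field F] [Fintype F] {m q : ℕ}

theorem arith_plus4 {q m : ℕ} (hq : 4 ≤ q) (hm : 4 ≤ m) :
    2 * ((q ^ (m - 1) + 1) * (2 * (q ^ 2 - 1))) ≤ (q ^ m - 1) * (q ^ (m - 1) + 1) / (q - 1) := by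
  rw [Nat.le_div_iff_mul_le (by omega)]
  obtain ⟨r, rfl⟩ : ∃ r, q = r + 4 := ⟨q - 4, by omega⟩
  have h1 : (r + 4) ^ 4 ≤ (r + 4) ^ m := Nat.pow_le_pow_right (by omega) (by omega)
  have e1 : (r + 4) ^ 2 - 1 = r * r + 8 * r + 15 := by
    have : (r + 4) ^ 2 = r * r + 8 * r + 15 + 1 := by ring
    omega
  have h3 : 4 * (r * r + 8 * r + 15) * (r + 3) ≤ (r + 4) ^ m - 1 := by
    have h4 : (r + 4) ^ 4 = (r * r + 8 * r + 15) * (r * r + 8 * r + 17) + 1 := by ring
    have h5 : 4 * (r * r + 8 * r + 15) * (r + 3) ≤ (r * r + 8 * r + 15) * (r * r + 8 * r + 17) := by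
      have h6 : 4 * (r + 3) ≤ r * r + 8 * r + 17 := by linarith only [_root_.mul_self_nonneg (↑r : ℤ), _root_.Nat.cast_nonneg (α := ℤ) (r)]
      calc 4 * (r * r + 8 * r + 15) * (r + 3) = (r * r + 8 * r + 15) * (4 * (r + 3)) := by ring
        _ ≤ _ := Nat.mul_le_mul_left _ h6
    omega
  rw [e1, show r + 4 - 1 = r + 3 by omega]
  calc 2 * (((r + 4) ^ (m - 1) + 1) * (2 * (r * r + 8 * r + 15))) * (r + 3) =
      4 * (r * r + 8 * r + 15) * (r + 3) * ((r + 4) ^ (m - 1) + 1) := by ring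
    _ ≤ _ := Nat.mul_le_mul_right _ h3

theorem arith_plus2 {m : ℕ} (hm : 5 ≤ m) :
    2 * ((2 ^ (m - 1) + 1) * (2 * (2 ^ 2 - 1))) ≤ 2 ^ (m - 1) * (2 ^ m - 1) := by
  have h1 : 2 ^ 4 ≤ 2 ^ (m - 1) := Nat.pow_le_pow_right (by omega) (by omega)
  have h2 : 2 ^ m = 2 * 2 ^ (m - 1) := by rw [← pow_succ']; congr 1; omega
  obtain ⟨x, hx⟩ : ∃ x, 2 ^ (m - 1) = x + 16 := ⟨2 ^ (m - 1) - 16, by omega⟩
  rw [h2, hx, show 2 * (x + 16) - 1 = 2 * x + 31 by omega, show 2 ^ 2 - 1 = 3 by norm_num]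
  nlinarith only []

theorem arith_plus3 {k : ℕ} (hk : 4 ≤ k) :
    2 * ((3 ^ k + 1) * (2 * (3 ^ 2 - 1))) ≤ 3 ^ k * (3 ^ k - 1) / 2 := by
  rw [Nat.le_div_iff_mul_le (by omega)]
  have h1 : 3 ^ 4 ≤ 3 ^ k := Nat.pow_le_pow_right (by omega) (by omega)
  obtain ⟨x, hx⟩ : ∃ x, 3 ^ k = x + 81 := ⟨3 ^ k - 81, by omega⟩
  rw [hx, show x + 81 - 1 = x + 80 by omega, show 3 ^ 2 - 1 = 8 by norm_num]
  nlinarith only []

/-- the index -/
theorem plus_index (hF : Fintype.card F = q) (hm : 4 ≤ m) (h2 : ¬ (q = 2 ∧ m = 4)) (h3 : ¬ (q = 3 ∧ m = 4)) :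
    ∃ b, (∀ H : Subgroup (Cfsg.POmega F (Cfsg.quadFormPlus m F)), H ≠ ⊤ → b ≤ H.index) ∧
      2 * ((q ^ (m - 1) + 1) * (2 * (q ^ 2 - 1))) ≤ b := by
  have hq1 : 1 < q := hF ▸ Fintype.one_lt_card
  rcases Nat.lt_or_ge q 4 with h4 | h4
  · have hc : q = 2 ∨ q = 3 := by omega
    rcases hc with rfl | rfl
    · exact ⟨_, (Cfsg.Agent.S2146.result hF m hm).1, arith_plus2 (by omega)⟩
    · obtain ⟨k, rfl⟩ : ∃ k, m = k + 1 := ⟨m - 1, by omega⟩
      exact ⟨_, plus_three_index_ge hF (by omega), arith_plus3 (by omega)⟩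
  · exact ⟨_, (Cfsg.Agent.S2145.result hF h4 m hm).1, arith_plus4 h4 hm⟩

/-- the order of `K1` -/
theorem card_K1_plus (hF : Fintype.card F = q) (hm : 4 ≤ m) {p : ℕ} (hp : p.Prime) (hp5 : 5 ≤ p)
    (hord : orderOf (q : ZMod p) = 2 * (m - 1)) {z : Cfsg.Omega F (⇑(quadPlus m F))} (hz : orderOf z = p) :
    Nat.card (K1 (matRep (omHom (⇑(quadPlus m F)))) z) ≤ 2 * (q ^ 2 - 1) := by
  have hpq : ¬ p ∣ q := not_dvd_of_orderOf hp hord (by omega)
  have hpF : ¬ p ∣ Fintype.card F := by rwa [hF]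
  have hQ : (polarBilin (quadPlus m F)).Nondegenerate := quadPlus_nondegenerate
  have hdim : Fintype.card (Fin m ⊕ Fin m) = 2 * m := by
    simp only [Fintype.card_sum, Fintype.card_fin]
    omega
  have hd : finrank F (Fin m ⊕ Fin m → F) = 2 * m := by rw [finrank_pi_fin, hdim]
  obtain ⟨e1, e2, e3, e4, e5⟩ := fix_facts hp hpF (by rw [hF, hord]) (by rw [hd]; omega) hz
  rw [hd] at e1
  have h := card_K1_two ((by exact matRep_injective (omHom_injective _))) e5 e2 (by omega) (quadPlus m F)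
    (fun g v => omHom_preserves _ g v)
    (fun v hv hv0 => aniso hF hm hp hp5 hord e3 e4 (fun w => omHom_preserves _ z w) hv hv0)
    (fun v hv hv0 => eq_zero_of_fix (frm_polar hQ) (by rw [pow_one]; exact e5) e3
      (fun u w => omHom_polar _ z u w) hv hv0)
  rwa [hF] at h

/-- The general result. -/
theorem cnt_plus_of {g : ℕ} (hF : Fintype.card F = q) (hm : 4 ≤ m) (h2 : ¬ (q = 2 ∧ m = 4))
    (h3 : ¬ (q = 3 ∧ m = 4)) {p k : ℕ} (hp : p.Prime) (hp5 : 5 ≤ p) (hk : 1 ≤ k) (hpg : ¬ p ∣ g)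
    (hord : orderOf (q : ZMod p) = 2 * (m - 1)) (hdvd : p ^ k ∣ q ^ (2 * (m - 1)) - 1)
    (hdvd' : ¬ p ^ (k + 1) ∣ q ^ (2 * (m - 1)) - 1)
    (hel : ∀ y : Cfsg.Omega F (⇑(quadPlus m F)), orderOf y = p ^ k → El p y) :
    Cnt g (Cfsg.POmega F (Cfsg.quadFormPlus m F)) := by
  have hq1 : 1 < q := hF ▸ Fintype.one_lt_card
  have hpq : ¬ p ∣ q := not_dvd_of_orderOf hp hord (by omega)
  have hcard := Cfsg.Agent.S0293.result hF m hm
  obtain ⟨b, hind, hlast⟩ := plus_index hF hm h2 h3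
  have hdim : Fintype.card (Fin m ⊕ Fin m) = 2 * m := by
    simp only [Fintype.card_sum, Fintype.card_fin]
    omega
  have hd : finrank F (Fin m ⊕ Fin m → F) = 2 * m := by rw [finrank_pi_fin, hdim]
  rw [← coe_quadPlus] at hcard hind ⊢
  have hQ : (polarBilin (quadPlus m F)).Nondegenerate := quadPlus_nondegenerate
  refine cnt_orth_of hQ (by omega) (quadPlus_isotropic (by omega)) hp hp5 hk hpg
    ?_ ?_ (by rwa [hF]) (by rw [hd, hF, hord]; omega) hel (R := q ^ (m - 1)) (κ := 2 * (q ^ 2 - 1))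
    (by rw [hF, hord, ← pow_mul, mul_comm 2 (m - 1)]) (fun z hz => card_K1_plus hF hm hp hp5 hord hz) hind hlast
  · refine pow_dvd_of_dvd_four_mul hp (by omega) (Nat.gcd_dvd_left 4 (q ^ m - 1)) ?_
    rw [hcard]
    exact Dvd.dvd.mul_left (hdvd.trans (dvd_prod_factor (by omega) le_rfl)) _
  · intro h3
    have h4 : p ^ (k + 1) ∣ q ^ (m * (m - 1)) * (q ^ m - 1) * ∏ i ∈ Finset.range (m - 1), (q ^ (2 * (i + 1)) - 1) := by
      rw [← hcard]
      exact Dvd.dvd.mul_left h3 _
    refine not_pow_dvd_mul_of_not_dvd hp ?_ ?_ h4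
    · intro h5
      rcases (Nat.Prime.dvd_mul hp).1 h5 with h6 | h6
      · exact not_dvd_pow hp hpq h6
      · exact not_dvd_of_lt (by omega) hord (by omega) (by omega) h6
    · refine not_pow_dvd_prod hp (Finset.range (m - 1)) _ (m - 2) ?_ ?_ (Finset.mem_range.2 (by omega))
      · have : m - 2 + 1 = m - 1 := by omega
        rw [this]
        exact hdvd'
      · intro i hi hi'
        have := Finset.mem_range.1 hi
        exact not_dvd_of_lt (by omega) hord (by omega) (by omega)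

/-- The exceptional primes `p = 2m - 1`, `q = 2`. -/
theorem el_plus_two (hF : Fintype.card F = 2) (hm : 4 ≤ m) {p : ℕ} (hp : p.Prime) (hpm : p = 2 * m - 1)
    (hord : orderOf ((2 : ℕ) : ZMod p) = 2 * (m - 1)) (y : Cfsg.Omega F (⇑(quadPlus m F))) (hy : orderOf y = p ^ 1) :
    El p y := by
  have hpq : ¬ p ∣ 2 := not_dvd_of_orderOf hp hord (by omega)
  have hcard := Cfsg.Agent.S0293.result hF m hm
  have hdim : Fintype.card (Fin m ⊕ Fin m) = 2 * m := by
    simp only [Fintype.card_sum, Fintype.card_fin]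
    omega
  have hd : finrank F (Fin m ⊕ Fin m → F) = 2 * m := by rw [finrank_pi_fin, hdim]
  rw [← coe_quadPlus] at hcard
  have hQ : (polarBilin (quadPlus m F)).Nondegenerate := quadPlus_nondegenerate
  have hs : ∃ u : Fin m ⊕ Fin m → F, u ≠ 0 ∧ quadPlus m F u = 0 := quadPlus_isotropic (by omega)
  refine el_of_rep (matRep (omHom (⇑(quadPlus m F)))) (matRep_injective (omHom_injective _)) hp
    le_rfl (by rwa [hF]) (by rw [hd, hF, hord]; omega) hy ?_ (core_plus hF hm hp (by omega) le_rfl hord hy)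
  intro T t ht htp htF hT hyT u hu
  rw [pow_one] at hy
  rw [Nat.sub_self, pow_zero, pow_one]
  by_cases hTbot : T = ⊥
  · rw [hTbot, Subgroup.mem_bot] at hu
    rw [hu, mul_one, one_mul]
  have : Fact t.Prime := ⟨ht⟩
  have ht2 : t ≠ 2 := by
    rintro rfl
    exact htF (by rw [hF])
  have htΩ : t ∣ Nat.card (Cfsg.Omega F (⇑(quadPlus m F))) := by
    rcases hT.card_eq_or_dvd with h | h
    · exact absurd (Subgroup.card_eq_one.1 h) hTbot
    · exact h.trans (Subgroup.card_subgroup_dvd_card T)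
  have hcard2 : Nat.card (Cfsg.Omega F (⇑(quadPlus m F))) =
      Nat.card (Cfsg.POmega F (⇑(quadPlus m F))) * Nat.card (Subgroup.center (Cfsg.Omega F (⇑(quadPlus m F)))) :=
    Subgroup.card_eq_card_quotient_mul_card_subgroup _
  have htP : t ∣ Nat.card (Cfsg.POmega F (⇑(quadPlus m F))) := by
    rw [hcard2] at htΩ
    exact ((Nat.Prime.dvd_mul ht).1 htΩ).resolve_right (not_dvd_center_omega hQ (by omega) hs ht ht2)
  have htprod : t ∣ 2 ^ (m * (m - 1)) * (2 ^ m - 1) * ∏ i ∈ Finset.range (m - 1), (2 ^ (2 * (i + 1)) - 1) := by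
    rw [← hcard]
    exact Dvd.dvd.mul_left htP _
  -- the order of `2` modulo `t`
  have htq : ¬ t ∣ 2 := fun h => ht2 ((Nat.prime_dvd_prime_iff_eq ht Nat.prime_two).1 h)
  obtain ⟨j, hj, hjm, hjt⟩ : ∃ j, 0 < j ∧ j ≤ 2 * (m - 1) ∧ t ∣ 2 ^ j - 1 := by
    rcases (Nat.Prime.dvd_mul ht).1 htprod with h | h
    · rcases (Nat.Prime.dvd_mul ht).1 h with h | h
      · exact absurd h (not_dvd_pow ht htq)
      · exact ⟨m, by omega, by omega, h⟩
    · obtain ⟨i, hi, h'⟩ := (Prime.dvd_finsetProd_iff ht.prime _).1 h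
      have := Finset.mem_range.1 hi
      exact ⟨2 * (i + 1), by omega, by omega, h'⟩
  have hle : orderOf ((2 : ℕ) : ZMod t) ≤ 2 * (m - 1) := by
    have h1 := (Lib.Zsigmondy.dvd_pow_sub_one_iff (r := t) (by omega : 1 ≤ 2) j).1 hjt
    exact (Nat.le_of_dvd hj h1).trans hjm
  have hpos : 0 < orderOf ((2 : ℕ) : ZMod t) := by
    have h1 := (Lib.Zsigmondy.dvd_pow_sub_one_iff (r := t) (by omega : 1 ≤ 2) j).1 hjt
    exact Nat.pos_of_dvd_of_pos h1 hj
  have hne1 : orderOf ((2 : ℕ) : ZMod t) ≠ 1 := by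
    intro h
    have h1 := dvd_pow_sub_one (by omega : 1 ≤ 2) h
    rw [pow_one] at h1
    exact ht.one_lt.ne' (Nat.dvd_one.1 h1)
  refine centralize_odd_rep (matRep (omHom (⇑(quadPlus m F)))) (matRep_injective (omHom_injective _)) hp (by (clear * - hpm; omega))
    ht ht2 htp (cast_ne_zero_of_not_dvd ht htF) hy hT hyT (by rw [hd]; (clear * - hm hpm; omega)) ?_ ?_ u hu
  · rw [hd, hF]
    have : p * 2 ≤ p * orderOf ((2 : ℕ) : ZMod t) := Nat.mul_le_mul_left p (by omega)
    (clear * - hpm hle hpos this; omega)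
  · rw [hF]
    intro h
    have := Nat.le_of_dvd hpos h
    (clear * - hpm hle hpos this; omega)

theorem cnt_plus_two_of {g : ℕ} (hg : Cond 2 1 g) (hF : Fintype.card F = 2) (hm : 5 ≤ m) {p : ℕ} (hp : p.Prime)
    (hpm : p = 2 * m - 1)
    (hord : orderOf ((2 : ℕ) : ZMod p) = 2 * (m - 1)) (hdvd' : ¬ p ^ 2 ∣ 2 ^ (2 * (m - 1)) - 1) :
    Cnt g (Cfsg.POmega F (Cfsg.quadFormPlus m F)) :=
  cnt_plus_of hF (by omega) (by omega) (by omega) hp (by omega) le_rfl
    (hg p hp (by omega) (fun h => hp.one_lt.ne' (Nat.dvd_one.1 h)) (by omega)) hord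
    (by rw [pow_one]; exact dvd_pow_sub_one (by omega) hord) hdvd' (el_plus_two hF (by omega) hp hpm hord)

/-- `PΩ⁺_{2m}(q)`, `(m, q) ≠ (4, 2), (4, 3), (4, 5)`. -/
theorem cnt_plus {p₀ f g : ℕ} (hg : Cond q f g) (hp₀ : p₀.Prime)
    (hf : 1 ≤ f) (hq : q = p₀ ^ f) (hF : Fintype.card F = q) (hm : 4 ≤ m)
    (h2 : ¬ (q = 2 ∧ m = 4)) (h3 : ¬ (q = 3 ∧ m = 4)) (h5 : ¬ (q = 5 ∧ m = 4)) :
    Cnt g (Cfsg.POmega F (Cfsg.quadFormPlus m F)) := by
  by_cases hexc : Exc q (2 * (m - 1))
  · have hf1 : f = 1 := by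
      by_contra hcon
      have hpr : q.Prime := by
        rcases hexc with ⟨rfl, _⟩ | ⟨rfl, _⟩ | ⟨rfl, _⟩ <;> norm_num
      rw [hq] at hpr
      exact hcon (hpr.eq_one_of_pow)
    subst hf1
    rcases hexc with ⟨rfl, h⟩ | ⟨rfl, h⟩ | ⟨rfl, h⟩
    · rcases h with h | h | h | h | h
      · omega
      · omega
      · obtain rfl : m = 6 := by omega
        exact cnt_plus_two_of hg hF (by omega) (p := 11) (by norm_num) rfl
          (orderOf_eq_of (by norm_num) (by norm_num) (by norm_num) fun i h1 h2 => by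
            have : i ≤ 9 := by omega
            interval_cases i <;> norm_num) (by norm_num)
      · obtain rfl : m = 7 := by omega
        exact cnt_plus_two_of hg hF (by omega) (p := 13) (by norm_num) rfl
          (orderOf_eq_of (by norm_num) (by norm_num) (by norm_num) fun i h1 h2 => by
            have : i ≤ 11 := by omega
            interval_cases i <;> norm_num) (by norm_num)
      · obtain rfl : m = 10 := by omega
        exact cnt_plus_two_of hg hF (by omega) (p := 19) (by norm_num) rfl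
          (orderOf_eq_of (by norm_num) (by norm_num) (by norm_num) fun i h1 h2 => by
            have : i ≤ 17 := by omega
            interval_cases i <;> norm_num) (by norm_num)
    · omega
    · omega
  · have hq1 : 1 < q := hF ▸ Fintype.one_lt_card
    obtain ⟨p, k, ⟨hp, hp5, hk, hord, hdvd, hdvd', hpf⟩, hs⟩ := exists_pack (e := 2 * (m - 1)) hp₀ hf hq (by omega)
      hexc
    have hpq : ¬ p ∣ q := not_dvd_of_orderOf hp hord (by omega)
    have hdim : Fintype.card (Fin m ⊕ Fin m) = 2 * m := by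
      simp only [Fintype.card_sum, Fintype.card_fin]
      omega
    have hd : finrank F (Fin m ⊕ Fin m → F) = 2 * m := by rw [finrank_pi_fin, hdim]
    refine cnt_plus_of hF hm h2 h3 hp hp5 hk (hg p hp hp5 hpf (by omega)) hord hdvd hdvd' fun y hy => ?_
    exact el_of_size (matRep (omHom _)) ((by exact matRep_injective (omHom_injective _))) hp
      (by omega) hk (by rwa [hF]) (by rw [hd, hF, hord]; omega) (by rw [hF, hd]; exact Or.inl (hs _ (by omega))) hy
      (core_plus hF hm hp hp5 hk hord hy)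

end Cfsg.Agent.H500.AS
end

-- part: H479/AS/Sug
section
/-!
# Tools for `SUg` (helper479)

* `sug_of` : it suffices that `z` (a power of `y` of order `p`) centralises the normal `t`-subgroups, `t ≠ p`, of the solvable
  subgroups containing `y`;
* `cent_or_dvd` : `z` centralises a `t`-subgroup `T` it normalises, or `t ^ e |C_T(z)|` divides `|T|`, `e` the order of `t` mod `p`.
-/

set_option autoImplicit false
set_option linter.unusedSectionVars false

namespace Cfsg.Agent.H479.AS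

open Subgroup Cfsg.Agent.H518.SU

universe u v

variable {G : Type u} [Group G] [Finite G]

theorem eq_zpowers_of {p : ℕ} (hp : p.Prime) {z : G} (hz : orderOf z = p) {A : Subgroup G} (hA : Nat.card A = p)
    (h : ∀ u ∈ A, orderOf u = p → u ∈ zpowers z) : A = zpowers z := by
  have : Fact p.Prime := ⟨hp⟩
  apply Subgroup.eq_of_le_of_card_ge
  · intro u hu
    by_cases h1 : u = 1
    · rw [h1]; exact one_mem _
    · apply h u hu
      have h2 : orderOf u ∣ p := by
        have := _root_.orderOf_dvd_natCard (⟨u, hu⟩ : A)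
        rwa [orderOf_mk, hA] at this
      rcases (Nat.dvd_prime hp).1 h2 with h3 | h3
      · exact absurd (orderOf_eq_one_iff.1 h3) h1
      · exact h3
  · rw [Nat.card_zpowers, hz, hA]

theorem sug_of {p : ℕ} (hp : p.Prime) {y z : G} (hz : orderOf z = p) (hzy : z ∈ zpowers y)
    (h2 : ¬ p ^ 2 ∣ Nat.card G)
    (h : ∀ M : Subgroup G, Group.IsSolvable M → y ∈ M → ∀ t : ℕ, t.Prime → t ≠ p → ∀ T : Subgroup G, T ≤ M →
      IsPGroup t T → (∀ g ∈ M, ∀ n ∈ T, g * n * g⁻¹ ∈ T) → ∀ u ∈ T, z * u = u * z) : SUg p y := by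
  intro M hM hyM A B hA hB hAc hBc
  have hzM : z ∈ M := (zpowers_le.2 hyM) hzy
  have key : ∀ u ∈ M, orderOf u = p → u ∈ zpowers z := by
    intro u huM hu
    have hz' : orderOf (⟨z, hzM⟩ : M) = p ^ 1 := by rw [orderOf_mk, hz, pow_one]
    have key := solv_unique (G := M) hp le_rfl hz' (fun t ht htp T hT hTt u hu => ?_) (fun u v hu hv huv => ?_)
      ⟨u, huM⟩ (by rw [orderOf_mk, hu])
    · obtain ⟨k, hk⟩ := mem_zpowers_iff.1 key
      exact mem_zpowers_iff.2 ⟨k, congrArg Subtype.val hk⟩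
    · rw [Nat.sub_self, pow_zero, pow_one]
      have h3 := h M hM hyM t ht htp (T.map M.subtype) (by
        rintro _ ⟨u, hu, rfl⟩
        exact u.2) (hTt.map _) (by
        rintro g hg _ ⟨u, hu, rfl⟩
        exact ⟨⟨g, hg⟩ * u * ⟨g, hg⟩⁻¹, hT.conj_mem u hu _, rfl⟩) u ⟨u, hu, rfl⟩
      exact Subtype.ext h3
    · have h1 := comm_of_not_sq hp h2 u v (by rw [orderOf_coe, hu]) (by rw [orderOf_coe, hv])
        (congrArg Subtype.val huv)
      obtain ⟨k, hk⟩ := mem_zpowers_iff.1 h1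
      exact mem_zpowers_iff.2 ⟨k, Subtype.ext hk⟩
  rw [eq_zpowers_of hp hz hAc fun u hu => key u (hA hu), eq_zpowers_of hp hz hBc fun u hu => key u (hB hu)]

theorem card_modEq_cent {p : ℕ} (hp : p.Prime) {z : G} (hz : orderOf z = p) (T : Subgroup G)
    (hzT : ∀ n ∈ T, z * n * z⁻¹ ∈ T) : Nat.card T ≡ Nat.card ↥(T ⊓ centralizer {z}) [MOD p] := by
  have : Fact p.Prime := ⟨hp⟩
  have h1 : z ∈ normalizer (T : Set G) := by
    rw [mem_normalizer_iff_map_conj_eq]
    refine eq_of_le_of_card_ge ?_ (le_of_eq (card_map_of_injective (MulAut.conj z).injective).symm)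
    rintro _ ⟨v, hv, rfl⟩
    exact hzT v hv
  have hn : ∀ g : zpowers z, ∀ n : T, (g : G) * n * (g : G)⁻¹ ∈ T := fun g n =>
    (mem_normalizer_iff.1 ((zpowers_le.2 h1) g.2) n).1 n.2
  let act : MulAction (zpowers z) T :=
    { smul := fun g n => ⟨(g : G) * n * (g : G)⁻¹, hn g n⟩
      one_smul := fun n => Subtype.ext (by
        show (1 : G) * n * (1 : G)⁻¹ = n
        group)
      mul_smul := fun g g' n => Subtype.ext (by
        show ((g : G) * g') * n * ((g : G) * g')⁻¹ = g * (g' * n * (g' : G)⁻¹) * (g : G)⁻¹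
        group) }
  have hP : IsPGroup p (zpowers z) := IsPGroup.of_card (n := 1) (by rw [Nat.card_zpowers, hz, pow_one])
  have h2 := hP.card_modEq_card_fixedPoints T
  have h3 : Nat.card (MulAction.fixedPoints (zpowers z) T) = Nat.card ↥(T ⊓ centralizer {z}) := by
    refine Nat.card_congr
      { toFun := fun n => ⟨n.1.1, n.1.2, ?_⟩
        invFun := fun n => ⟨⟨n.1, n.2.1⟩, ?_⟩
        left_inv := fun n => rfl
        right_inv := fun n => rfl }
    · have h4 := congrArg Subtype.val (n.2 ⟨z, mem_zpowers z⟩)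
      have h5 : z * n.1.1 * z⁻¹ = n.1.1 := h4
      show n.1.1 ∈ centralizer {z}
      rw [mem_centralizer_singleton_iff]
      exact (mul_inv_eq_iff_eq_mul.1 h5).symm
    · have h4 : n.1 * z = z * n.1 := mem_centralizer_singleton_iff.1 n.2.2
      rintro ⟨g, hg⟩
      apply Subtype.ext
      show g * n.1 * g⁻¹ = n.1
      obtain ⟨i, rfl⟩ := mem_zpowers_iff.1 hg
      have h5 : Commute z n.1 := h4.symm
      rw [(h5.zpow_left i).eq, mul_inv_cancel_right]
  rw [h3] at h2
  exact h2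

/-- `z` centralises `T` or `t ^ e |C_T(z)|` divides `|T|`. -/
theorem cent_or_dvd {p t : ℕ} (hp : p.Prime) (ht : t.Prime) (htp : t ≠ p) {z : G} (hz : orderOf z = p) (T : Subgroup G)
    (hT : IsPGroup t T) (hzT : ∀ n ∈ T, z * n * z⁻¹ ∈ T) :
    (∀ u ∈ T, z * u = u * z) ∨ t ^ orderOf ((t : ℕ) : ZMod p) * Nat.card ↥(T ⊓ centralizer {z}) ∣ Nat.card T := by
  have : Fact p.Prime := ⟨hp⟩
  have : Fact t.Prime := ⟨ht⟩
  obtain ⟨k, hk⟩ := IsPGroup.iff_card.1 hT
  have hC : IsPGroup t ↥(T ⊓ centralizer {z}) := hT.to_le inf_le_left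
  obtain ⟨j, hj⟩ := IsPGroup.iff_card.1 hC
  have hjk : j ≤ k := by
    have h1 := Subgroup.card_dvd_of_le (inf_le_left : T ⊓ centralizer {z} ≤ T)
    rw [hk, hj] at h1
    exact (Nat.pow_dvd_pow_iff_le_right ht.one_lt).1 h1
  by_cases hjk' : j = k
  · left
    have h1 : T ⊓ centralizer {z} = T := eq_of_le_of_card_ge inf_le_left (by rw [hk, hj, hjk'])
    intro u hu
    rw [← h1] at hu
    exact (mem_centralizer_singleton_iff.1 hu.2).symm
  · right
    have h1 := card_modEq_cent hp hz T hzT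
    rw [hk, hj] at h1
    have h2 : p ∣ t ^ k - t ^ j := (Nat.modEq_iff_dvd' (Nat.pow_le_pow_right ht.pos hjk)).1 h1.symm
    have h3 : t ^ k - t ^ j = t ^ j * (t ^ (k - j) - 1) := by
      rw [Nat.mul_sub, mul_one, ← pow_add, Nat.add_sub_cancel' hjk]
    rw [h3] at h2
    have h4 : p ∣ t ^ (k - j) - 1 := ((Nat.Prime.dvd_mul hp).1 h2).resolve_left fun h =>
      htp ((Nat.prime_dvd_prime_iff_eq hp ht).1 (hp.dvd_of_dvd_pow h)).symm
    rw [Cfsg.Agent.Lib.Zsigmondy.dvd_pow_sub_one_iff ht.one_lt.le] at h4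
    rw [hk, hj, ← pow_add]
    apply pow_dvd_pow
    have := Nat.le_of_dvd (by omega) h4
    omega

end Cfsg.Agent.H479.AS
end
end

-- part: H99/AS/OFive_mg
section
prune_inst 0x300400e200000000008041201c4282000400000884000c21000404808c0004800860800000034a28010500310008100000800000000000000000011800800000040000400008800010000000000000000000000000000000000000000004000000000
set_option linter.all false
open scoped Cfsg.Agent.FastGrp

-- part: H99/AS/TwoG
section
/-!
# S3943 (helper99): `2`-groups normalised by commuting elements `y` (of order 7) and `z`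

`two_group`: if the `2`-elements centralised by `y` lie in a central subgroup `Z₀` of exponent 2 and there is no
elementary abelian `2`-group `T ≠ 1` normalised by `y`, `z` with `C_T(y) = 1`, then each `2`-group normalised by
`y`, `z` is contained in `Z₀`.
-/

set_option autoImplicit false
set_option linter.unusedSectionVars false

namespace Cfsg.Agent.H99.AS

open Subgroup
open scoped commutatorElement

universe u v

/-- an invariant symmetric bilinear map with `1 + σ + σ ^ 3 = 0` (in the first variable) is trivial -/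
theorem bil_one {T : Type u} {C : Type v} [CommGroup C] (hC : ∀ c : C, c * c = 1) (σ : T → T)
    (hσ : ∀ t, σ (σ (σ (σ (σ (σ (σ t)))))) = t) (k : T → T → C) (hs : ∀ t u, k t u = k u t)
    (hk : ∀ t u, k (σ t) (σ u) = k t u)
    (h : (∀ t u, k t u * k (σ t) u * k (σ (σ (σ t))) u = 1) ∨
      (∀ t u, k t u * k (σ (σ t)) u * k (σ (σ (σ t))) u = 1)) : ∀ t u, k t u = 1 := by
  have key : ∀ t u, k t u = k (σ t) u := by
    rcases h with h | h
    · have h2 : ∀ t u, k t u * k t (σ u) * k t (σ (σ (σ u))) = 1 := fun t u => by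
        have := h u t
        rwa [hs u t, hs (σ u) t, hs (σ (σ (σ u))) t] at this
      intro t u
      have : ∀ t, k (σ t) u = k (σ (σ t)) u := by
        intro t
        have h3 := h2 (σ (σ (σ t))) u
        have e2 : k (σ (σ (σ t))) (σ u) = k (σ (σ t)) u := hk _ _
        have e3 : k (σ (σ (σ t))) (σ (σ (σ u))) = k t u := by rw [hk, hk, hk]
        rw [e2, e3] at h3
        have h4 := h t u
        have h6 : k (σ (σ (σ t))) u * k t u * k (σ t) u = k (σ (σ (σ t))) u * k t u * k (σ (σ t)) u := by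
          rw [show k (σ (σ (σ t))) u * k t u * k (σ t) u = k t u * k (σ t) u * k (σ (σ (σ t))) u by
            rw [mul_assoc, mul_comm (k (σ (σ (σ t))) u)], h4, ← h3, mul_right_comm]
        exact mul_left_cancel h6
      have h7 := this (σ (σ (σ (σ (σ (σ t))))))
      rwa [hσ] at h7
    · have h2 : ∀ t u, k t u * k t (σ (σ u)) * k t (σ (σ (σ u))) = 1 := fun t u => by
        have := h u t
        rwa [hs u t, hs (σ (σ u)) t, hs (σ (σ (σ u))) t] at this
      intro t u
      have : ∀ t, k (σ t) u = k (σ (σ t)) u := by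
        intro t
        have h3 := h2 (σ (σ (σ t))) u
        have e2 : k (σ (σ (σ t))) (σ (σ u)) = k (σ t) u := by rw [hk, hk]
        have e3 : k (σ (σ (σ t))) (σ (σ (σ u))) = k t u := by rw [hk, hk, hk]
        rw [e2, e3] at h3
        have h4 := h t u
        have h6 : k (σ (σ (σ t))) u * k t u * k (σ t) u = k (σ (σ (σ t))) u * k t u * k (σ (σ t)) u := by
          rw [show k (σ (σ (σ t))) u * k t u * k (σ (σ t)) u = k t u * k (σ (σ t)) u * k (σ (σ (σ t))) u by
            rw [mul_assoc, mul_comm (k (σ (σ (σ t))) u)], h4, ← h3, mul_right_comm]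
        exact mul_left_cancel h6
      have h7 := this (σ (σ (σ (σ (σ (σ t))))))
      rwa [hσ] at h7
  intro t u
  have e1 : k (σ t) u = k t u := (key t u).symm
  have e2 : k (σ (σ t)) u = k t u := by rw [← key, e1]
  have e3 : k (σ (σ (σ t))) u = k t u := by rw [← key, e2]
  rcases h with h | h
  · have := h t u
    rwa [e1, e3, hC, one_mul] at this
  · have := h t u
    rwa [e2, e3, hC, one_mul] at this

theorem nine {C : Type v} [CommGroup C] (a0 a1 a2 a3 a4 a5 a6 : C) :
    a0 * a2 * a3 * (a1 * a3 * a4) * (a3 * a5 * a6) = a0 * a1 * a2 * a3 * a4 * a5 * a6 * (a3 * a3) := by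
  simp only [mul_comm, mul_left_comm, mul_assoc]

/-- if `y c y⁻¹ ∈ c Z₀` -/
theorem comm_of_conj {G : Type u} [Group G] {y : G} (hy : y ^ 7 = 1) {Z0 : Subgroup G} (hZc : Z0 ≤ center G)
    (hZ2 : ∀ x ∈ Z0, x * x = 1) {c : G} (hc : c⁻¹ * (y * c * y⁻¹) ∈ Z0) : y * c = c * y := by
  set e := c⁻¹ * (y * c * y⁻¹) with he
  have h1 : y * c * y⁻¹ = c * e := by rw [he, mul_inv_cancel_left]
  have h1' : y * c = c * e * y := by rw [← h1, inv_mul_cancel_right]
  have hec : ∀ g : G, g * e = e * g := fun g => mem_center_iff.1 (hZc hc) g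
  have h2 : y * y * c = c * (y * y) := by
    rw [mul_assoc, h1', ← mul_assoc, ← mul_assoc, h1', mul_assoc (c * e) y e, hec y, ← mul_assoc (c * e),
      mul_assoc c e e, hZ2 e hc, mul_one, mul_assoc]
  have h3 : Commute (y * y) c := h2
  have h4 : Commute ((y * y) ^ 4) c := h3.pow_left 4
  have h5 : (y * y) ^ 4 = y := by
    rw [← pow_two, ← pow_mul, show 2 * 4 = 7 + 1 by norm_num, pow_succ, hy, one_mul]
  rw [h5] at h4
  exact h4

theorem commutator_ne {G : Type u} [Group G] [Finite G] {T : Subgroup G} (hT : IsPGroup 2 T) (hT1 : T ≠ ⊥) :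
    ⁅T, T⁆ ≠ T := by
  intro h
  have : Fact (Nat.Prime 2) := ⟨Nat.prime_two⟩
  have h1 : Group.IsNilpotent T := hT.isNilpotent
  have h2 : Group.IsSolvable T := inferInstance
  have : Nontrivial T := (Subgroup.nontrivial_iff_ne_bot T).2 hT1
  have h3 := Group.IsSolvable.commutator_lt_top_of_nontrivial T
  apply h3.ne
  apply Subgroup.map_injective T.subtype_injective
  rw [Subgroup.map_subtype_commutator, h, ← MonoidHom.range_eq_map, Subgroup.range_subtype]

theorem map_conj_le {G : Type u} [Group G] {T : Subgroup G} {y : G} (hyT : ∀ u ∈ T, y * u * y⁻¹ ∈ T) :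
    ∀ u ∈ ⁅T, T⁆, y * u * y⁻¹ ∈ ⁅T, T⁆ := by
  intro u hu
  have h1 : (⁅T, T⁆).map (MulAut.conj y).toMonoidHom ≤ ⁅T, T⁆ := by
    rw [Subgroup.map_commutator]
    refine Subgroup.commutator_mono ?_ ?_ <;>
    · rintro _ ⟨x, hx, rfl⟩
      exact hyT x hx
  exact h1 ⟨u, hu, rfl⟩

section Main

variable {G : Type u} [Group G] [Finite G] {y z : G} {Z0 : Subgroup G}

/-- the abelian case -/
theorem two_abelian (hy : y ^ 7 = 1) (hyz : y * z = z * y) (hZc : Z0 ≤ center G) (hZ2 : ∀ x ∈ Z0, x * x = 1)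
    (H1 : ∀ u : G, (∃ k, u ^ 2 ^ k = 1) → y * u = u * y → u ∈ Z0)
    (H3 : ∀ T : Subgroup G, (∀ u ∈ T, u * u = 1) → (∀ u ∈ T, y * u * y⁻¹ ∈ T) → (∀ u ∈ T, z * u * z⁻¹ ∈ T) →
      (∀ u ∈ T, y * u = u * y → u = 1) → T = ⊥)
    {T : Subgroup G} (hT : IsPGroup 2 T) (hyT : ∀ u ∈ T, y * u * y⁻¹ ∈ T) (hzT : ∀ u ∈ T, z * u * z⁻¹ ∈ T)
    (IH : ∀ S : Subgroup G, S ≤ T → S ≠ T → (∀ u ∈ S, y * u * y⁻¹ ∈ S) → (∀ u ∈ S, z * u * z⁻¹ ∈ S) → S ≤ Z0)
    (hab : ∀ t ∈ T, ∀ u ∈ T, t * u = u * t) : T ≤ Z0 := by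
  by_contra hne
  have hfac : Fact (Nat.Prime 2) := ⟨Nat.prime_two⟩
  have h2el : ∀ u ∈ T, ∃ k, u ^ 2 ^ k = 1 := by
    intro u hu
    obtain ⟨k, hk⟩ := hT ⟨u, hu⟩
    exact ⟨k, by simpa only [_root_.SubmonoidClass.mk_pow, _root_.OneMemClass.coe_one] using congrArg Subtype.val hk⟩
  -- the squares
  let Sq : Subgroup G :=
    { carrier := {x | ∃ t ∈ T, x = t * t}
      one_mem' := ⟨1, one_mem _, by rw [mul_one]⟩
      mul_mem' := by
        rintro _ _ ⟨a, ha, rfl⟩ ⟨b, hb, rfl⟩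
        refine ⟨a * b, mul_mem ha hb, ?_⟩
        rw [mul_assoc a a, ← mul_assoc a b b, hab a ha b hb]
        simp only [mul_assoc]
        rw [← mul_assoc a b, hab a ha b hb, mul_assoc]
      inv_mem' := by
        rintro _ ⟨a, ha, rfl⟩
        exact ⟨a⁻¹, inv_mem ha, mul_inv_rev a a⟩ }
  have hSqT : Sq ≤ T := by
    rintro _ ⟨a, ha, rfl⟩
    exact mul_mem ha ha
  have hinvol : ∃ u ∈ T, u ≠ 1 ∧ u * u = 1 := by
    have h1 : T ≠ ⊥ := by
      intro h
      exact hne (h ▸ bot_le)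
    have h2 : Nontrivial T := (Subgroup.nontrivial_iff_ne_bot T).2 h1
    obtain ⟨k, hk0, hk⟩ := hT.nontrivial_iff_card.1 h2
    have h3 : 2 ∣ Nat.card T := by
      rw [hk]; exact dvd_pow_self 2 hk0.ne'
    obtain ⟨u, hu⟩ := exists_prime_orderOf_dvd_card' 2 h3
    refine ⟨u, u.2, fun h => ?_, ?_⟩
    · have : u = 1 := Subtype.ext h
      rw [this, orderOf_one] at hu
      norm_num at hu
    · have := pow_orderOf_eq_one u
      rw [hu, pow_two] at this
      exact congrArg Subtype.val this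
  have hSqne : Sq ≠ T := by
    intro h
    let f : T → T := fun t => t * t
    have hsurj : Function.Surjective f := by
      rintro ⟨x, hx⟩
      rw [← h] at hx
      obtain ⟨t, ht, rfl⟩ := hx
      exact ⟨⟨t, ht⟩, rfl⟩
    have hinj := Finite.injective_iff_surjective.2 hsurj
    obtain ⟨u, hu, hu1, hu2⟩ := hinvol
    have : f ⟨u, hu⟩ = f 1 := Subtype.ext (by
      show u * u = 1 * 1
      rw [hu2, one_mul])
    exact hu1 (congrArg Subtype.val (hinj this))
  have hSq : Sq ≤ Z0 := by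
    refine IH Sq hSqT hSqne ?_ ?_
    · rintro _ ⟨a, ha, rfl⟩
      exact ⟨y * a * y⁻¹, hyT a ha, by group⟩
    · rintro _ ⟨a, ha, rfl⟩
      exact ⟨z * a * z⁻¹, hzT a ha, by group⟩
  -- the commutators with `y`
  let D : Subgroup G :=
    { carrier := {x | ∃ t ∈ T, x = t⁻¹ * (y * t * y⁻¹)}
      one_mem' := ⟨1, one_mem _, by group⟩
      mul_mem' := by
        rintro _ _ ⟨a, ha, rfl⟩ ⟨b, hb, rfl⟩
        refine ⟨a * b, mul_mem ha hb, ?_⟩
        have e1 := hab b⁻¹ (inv_mem hb) _ (mul_mem (inv_mem ha) (hyT a ha))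
        calc a⁻¹ * (y * a * y⁻¹) * (b⁻¹ * (y * b * y⁻¹)) = (a⁻¹ * (y * a * y⁻¹) * b⁻¹) * (y * b * y⁻¹) := by group
          _ = (b⁻¹ * (a⁻¹ * (y * a * y⁻¹))) * (y * b * y⁻¹) := by rw [e1]
          _ = (a * b)⁻¹ * (y * (a * b) * y⁻¹) := by group
      inv_mem' := by
        rintro _ ⟨a, ha, rfl⟩
        refine ⟨a⁻¹, inv_mem ha, ?_⟩
        have e1 := hab a ha _ (inv_mem (hyT a ha))
        calc (a⁻¹ * (y * a * y⁻¹))⁻¹ = (y * a * y⁻¹)⁻¹ * a := by group
          _ = a * (y * a * y⁻¹)⁻¹ := e1.symm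
          _ = a⁻¹⁻¹ * (y * a⁻¹ * y⁻¹) := by group }
  have hDT : D ≤ T := by
    rintro _ ⟨a, ha, rfl⟩
    exact mul_mem (inv_mem ha) (hyT a ha)
  have hDy : ∀ u ∈ D, y * u * y⁻¹ ∈ D := by
    rintro _ ⟨a, ha, rfl⟩
    exact ⟨y * a * y⁻¹, hyT a ha, by group⟩
  have hDz : ∀ u ∈ D, z * u * z⁻¹ ∈ D := by
    rintro _ ⟨a, ha, rfl⟩
    refine ⟨z * a * z⁻¹, hzT a ha, ?_⟩
    have e1 : y * z = z * y := hyz
    have e2 : z⁻¹ * y⁻¹ = y⁻¹ * z⁻¹ := by rw [← mul_inv_rev, ← mul_inv_rev, e1]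
    calc z * (a⁻¹ * (y * a * y⁻¹)) * z⁻¹ = z * a⁻¹ * z⁻¹ * (z * y) * a * (y⁻¹ * z⁻¹) := by group
      _ = z * a⁻¹ * z⁻¹ * (y * z) * a * (z⁻¹ * y⁻¹) := by rw [e1, e2]
      _ = (z * a * z⁻¹)⁻¹ * (y * (z * a * z⁻¹) * y⁻¹) := by group
  have hD2 : ∀ u ∈ D, u * u = 1 := by
    rintro _ ⟨a, ha, rfl⟩
    have e1 := hab (y * a * y⁻¹) (hyT a ha) a⁻¹ (inv_mem ha)
    have e2 : y * (a * a) = (a * a) * y := mem_center_iff.1 (hZc (hSq ⟨a, ha, rfl⟩)) y
    calc a⁻¹ * (y * a * y⁻¹) * (a⁻¹ * (y * a * y⁻¹)) = a⁻¹ * ((y * a * y⁻¹) * a⁻¹) * (y * a * y⁻¹) := by group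
      _ = a⁻¹ * (a⁻¹ * (y * a * y⁻¹)) * (y * a * y⁻¹) := by rw [e1]
      _ = a⁻¹ * a⁻¹ * (y * (a * a)) * y⁻¹ := by group
      _ = a⁻¹ * a⁻¹ * (a * a * y) * y⁻¹ := by rw [e2]
      _ = 1 := by group
  have hD : D = T := by
    by_contra hcon
    have h1 := IH D hDT hcon hDy hDz
    apply hne
    intro t ht
    exact H1 t (h2el t ht) (comm_of_conj hy hZc hZ2 (h1 ⟨t, ht, rfl⟩))
  have hinj : Function.Injective (fun t : T => (⟨(t : G)⁻¹ * (y * t * y⁻¹), mul_mem (inv_mem t.2) (hyT t t.2)⟩ : T)) := by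
    apply Finite.injective_iff_surjective.2
    rintro ⟨x, hx⟩
    have hx' : x ∈ D := hD.symm ▸ hx
    obtain ⟨t, ht, rfl⟩ := hx'
    exact ⟨⟨t, ht⟩, rfl⟩
  have h1 : T = ⊥ := by
    refine H3 T (fun u hu => hD2 u (hD.symm ▸ hu)) hyT hzT ?_
    intro u hu hyu
    have h2 := @hinj ⟨u, hu⟩ 1 (Subtype.ext (by
      show u⁻¹ * (y * u * y⁻¹) = 1⁻¹ * (y * 1 * y⁻¹)
      rw [hyu]; group))
    exact congrArg Subtype.val h2
  exact hne (h1 ▸ bot_le)

/-- the commutators are trivial -/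
theorem two_comm (hy : y ^ 7 = 1) (hyz : y * z = z * y) (hZc : Z0 ≤ center G) (hZ2 : ∀ x ∈ Z0, x * x = 1)
    (H1 : ∀ u : G, (∃ k, u ^ 2 ^ k = 1) → y * u = u * y → u ∈ Z0)
    {T : Subgroup G} (hT : IsPGroup 2 T) (hyT : ∀ u ∈ T, y * u * y⁻¹ ∈ T) (hzT : ∀ u ∈ T, z * u * z⁻¹ ∈ T)
    (IH : ∀ S : Subgroup G, S ≤ T → S ≠ T → (∀ u ∈ S, y * u * y⁻¹ ∈ S) → (∀ u ∈ S, z * u * z⁻¹ ∈ S) → S ≤ Z0)
    (hcom : ∀ t ∈ T, ∀ u ∈ T, ⁅t, u⁆ ∈ Z0) : ∀ t ∈ T, ∀ u ∈ T, t * u = u * t := by
  have h2el : ∀ u ∈ T, ∃ k, u ^ 2 ^ k = 1 := by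
    intro u hu
    obtain ⟨k, hk⟩ := hT ⟨u, hu⟩
    exact ⟨k, by simpa only [_root_.SubmonoidClass.mk_pow, _root_.OneMemClass.coe_one] using congrArg Subtype.val hk⟩
  have hcen : ∀ x ∈ Z0, ∀ g : G, g * x = x * g := fun x hx g => mem_center_iff.1 (hZc hx) g
  let _ : CommGroup Z0 := { (inferInstance : Group Z0) with
    mul_comm := fun a b => Subtype.ext (hcen b b.2 a) }
  let k : T → T → Z0 := fun t u => ⟨⁅(t : G), (u : G)⁆, hcom t t.2 u u.2⟩
  let σ : T → T := fun t => ⟨y * t * y⁻¹, hyT t t.2⟩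
  have hkv : ∀ t u : T, ((k t u : Z0) : G) = t * u * (t : G)⁻¹ * (u : G)⁻¹ := fun t u => commutatorElement_def _ _
  have hC : ∀ c : Z0, c * c = 1 := fun c => Subtype.ext (hZ2 c c.2)
  have hσv : ∀ t : T, ((σ t : T) : G) = y * t * y⁻¹ := fun t => rfl
  have hσm : ∀ t t' : T, σ (t * t') = σ t * σ t' := fun t t' => Subtype.ext (by
    show y * ((t : G) * t') * y⁻¹ = y * t * y⁻¹ * (y * t' * y⁻¹)
    group)
  have hσ1 : σ 1 = 1 := Subtype.ext (by
    show y * 1 * y⁻¹ = 1
    group)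
  have hσi : ∀ t : T, σ t⁻¹ = (σ t)⁻¹ := fun t => Subtype.ext (by
    show y * (t : G)⁻¹ * y⁻¹ = (y * t * y⁻¹)⁻¹
    group)
  have hσ7 : ∀ t, σ (σ (σ (σ (σ (σ (σ t)))))) = t := fun t => Subtype.ext (by
    have e1 : ((σ (σ (σ (σ (σ (σ (σ t)))))) : T) : G) = y ^ 7 * t * (y ^ 7)⁻¹ := by
      simp only [hσv]
      have e0 : y ^ 7 = y * y * y * y * y * y * y := by simp only [pow_succ, pow_zero, one_mul]
      rw [e0]
      group
    rw [e1, hy, one_mul, inv_one, mul_one])
  have hmul : ∀ t t' u, k (t * t') u = k t u * k t' u := by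
    intro t t' u
    apply Subtype.ext
    rw [Subgroup.coe_mul, hkv, hkv, hkv]
    have e1 := hcen _ (hcom t' t'.2 u u.2) (t : G)
    rw [commutatorElement_def] at e1
    rw [Subgroup.coe_mul]
    have e3 := hcen _ (hcom t' t'.2 u u.2) ((u : G) * (t : G)⁻¹ * (u : G)⁻¹)
    rw [commutatorElement_def] at e3
    calc (t : G) * t' * u * ((t : G) * t')⁻¹ * (u : G)⁻¹ =
        (t * (t' * u * (t' : G)⁻¹ * (u : G)⁻¹)) * (u * (t : G)⁻¹ * (u : G)⁻¹) := by group
      _ = t * ((u * (t : G)⁻¹ * (u : G)⁻¹) * (t' * u * (t' : G)⁻¹ * (u : G)⁻¹)) := by rw [mul_assoc, e3]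
      _ = t * u * (t : G)⁻¹ * (u : G)⁻¹ * (t' * u * (t' : G)⁻¹ * (u : G)⁻¹) := by group
  have hk1 : ∀ u, k 1 u = 1 := fun u => by
    apply Subtype.ext
    rw [hkv]
    show 1 * (u : G) * (1 : G)⁻¹ * (u : G)⁻¹ = 1
    group
  have hki : ∀ t u, k t⁻¹ u = (k t u)⁻¹ := fun t u => by
    apply eq_inv_of_mul_eq_one_left
    rw [← hmul, inv_mul_cancel, hk1]
  have hs : ∀ t u, k t u = k u t := by
    intro t u
    have e1 : k t u * k u t = 1 := by
      apply Subtype.ext
      rw [Subgroup.coe_mul, hkv, hkv]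
      show (t : G) * u * (t : G)⁻¹ * (u : G)⁻¹ * (u * t * (u : G)⁻¹ * (t : G)⁻¹) = 1
      group
    have e2 := hC (k u t)
    rw [← e2] at e1
    exact mul_right_cancel e1
  have hk : ∀ t u, k (σ t) (σ u) = k t u := by
    intro t u
    apply Subtype.ext
    rw [hkv, hkv, hσv, hσv]
    have e1 := hcen _ (hcom t t.2 u u.2) y
    rw [commutatorElement_def] at e1
    calc y * t * y⁻¹ * (y * u * y⁻¹) * (y * t * y⁻¹)⁻¹ * (y * u * y⁻¹)⁻¹ =
        (y * (t * u * (t : G)⁻¹ * (u : G)⁻¹)) * y⁻¹ := by group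
      _ = t * u * (t : G)⁻¹ * (u : G)⁻¹ := by rw [e1, mul_inv_cancel_right]
  have hkZ : ∀ t : T, (t : G) ∈ Z0 → ∀ u, k t u = 1 := by
    intro t ht u
    apply Subtype.ext
    rw [hkv, ← hcen _ ht u]
    show (u : G) * t * (t : G)⁻¹ * (u : G)⁻¹ = 1
    group
  -- the subgroup
  let T1 : Subgroup T :=
    { carrier := {t | ∀ u, k t u * k (σ t) u * k (σ (σ (σ t))) u = 1}
      one_mem' := fun u => by rw [hσ1, hσ1, hσ1, hk1, one_mul, one_mul]
      mul_mem' := by
        intro a b ha hb u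
        have e1 := ha u
        have e2 := hb u
        rw [hσm, hσm, hσm, hmul, hmul, hmul]
        calc k a u * k b u * (k (σ a) u * k (σ b) u) * (k (σ (σ (σ a))) u * k (σ (σ (σ b))) u) =
            (k a u * k (σ a) u * k (σ (σ (σ a))) u) * (k b u * k (σ b) u * k (σ (σ (σ b))) u) := by
              rw [mul_mul_mul_comm (k a u), mul_mul_mul_comm]
          _ = 1 := by rw [e1, e2, one_mul]
      inv_mem' := by
        intro a ha u
        have e1 := ha u
        rw [hσi, hσi, hσi, hki, hki, hki, ← mul_inv, ← mul_inv, e1, inv_one] }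
  have hT1m : ∀ t : T, t ∈ T1 ↔ ∀ u, k t u * k (σ t) u * k (σ (σ (σ t))) u = 1 := fun t => Iff.rfl
  have hτk : ∀ (t u : T), k ⟨z * t * z⁻¹, hzT t t.2⟩ ⟨z * u * z⁻¹, hzT u u.2⟩ = k t u := by
    intro t u
    apply Subtype.ext
    rw [hkv, hkv]
    have e1 := hcen _ (hcom t t.2 u u.2) z
    rw [commutatorElement_def] at e1
    calc z * t * z⁻¹ * (z * u * z⁻¹) * (z * t * z⁻¹)⁻¹ * (z * u * z⁻¹)⁻¹ =
        (z * (t * u * (t : G)⁻¹ * (u : G)⁻¹)) * z⁻¹ := by group
      _ = t * u * (t : G)⁻¹ * (u : G)⁻¹ := by rw [e1, mul_inv_cancel_right]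
  have hστ : ∀ t : T, σ ⟨z * t * z⁻¹, hzT t t.2⟩ = ⟨z * (σ t : T) * z⁻¹, hzT _ (σ t).2⟩ := by
    intro t
    apply Subtype.ext
    show y * (z * t * z⁻¹) * y⁻¹ = z * (y * t * y⁻¹) * z⁻¹
    have e2 : z⁻¹ * y⁻¹ = y⁻¹ * z⁻¹ := by rw [← mul_inv_rev, ← mul_inv_rev, hyz]
    calc y * (z * t * z⁻¹) * y⁻¹ = (y * z) * t * (z⁻¹ * y⁻¹) := by group
      _ = (z * y) * t * (y⁻¹ * z⁻¹) := by rw [hyz, e2]
      _ = z * (y * t * y⁻¹) * z⁻¹ := by group
  have hsurjτ : ∀ u : T, ∃ v : T, u = ⟨z * v * z⁻¹, hzT v v.2⟩ := by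
    have h1 : Function.Injective (fun v : T => (⟨z * v * z⁻¹, hzT v v.2⟩ : T)) := by
      intro a b hab
      have : z * (a : G) * z⁻¹ = z * b * z⁻¹ := congrArg Subtype.val hab
      exact Subtype.ext (mul_left_cancel (mul_right_cancel this))
    intro u
    obtain ⟨v, hv⟩ := Finite.injective_iff_surjective.1 h1 u
    exact ⟨v, hv.symm⟩
  have hT1 : T1 = ⊤ ∨ ∀ t ∈ T1, (t : G) ∈ Z0 := by
    by_cases hc : T1.map T.subtype = T
    · left
      apply Subgroup.map_injective T.subtype_injective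
      rw [hc, ← MonoidHom.range_eq_map, Subgroup.range_subtype]
    · right
      have h1 := IH (T1.map T.subtype) (Subgroup.map_subtype_le _) hc ?_ ?_
      · intro t ht
        exact h1 ⟨t, ht, rfl⟩
      · rintro _ ⟨t, ht, rfl⟩
        refine ⟨σ t, ?_, rfl⟩
        intro u
        have e1 := ht (σ (σ (σ (σ (σ (σ u))))))
        have e2 : ∀ w : T, k w (σ (σ (σ (σ (σ (σ u)))))) = k (σ w) u := fun w => by
          rw [← hk w, hσ7 u]
        rw [e2, e2, e2] at e1
        exact e1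
      · rintro _ ⟨t, ht, rfl⟩
        refine ⟨⟨z * t * z⁻¹, hzT t t.2⟩, ?_, rfl⟩
        intro u
        obtain ⟨v, rfl⟩ := hsurjτ u
        have e1 := ht v
        rw [hστ, hστ, hστ, hτk, hτk, hτk]
        exact e1
  have hk0 : ∀ t u, k t u = 1 := by
    refine bil_one hC σ hσ7 k hs hk ?_
    rcases hT1 with h | h
    · left
      intro t u
      have : t ∈ T1 := h ▸ Subgroup.mem_top t
      exact this u
    · right
      intro t u
      -- the norm
      set N : T := t * σ t * σ (σ t) * σ (σ (σ t)) * σ (σ (σ (σ t))) * σ (σ (σ (σ (σ t)))) *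
        σ (σ (σ (σ (σ (σ t))))) with hN
      have hσN : σ N = t⁻¹ * N * t := by
        rw [hN]
        simp only [hσm, hσ7]
        group
      have hNZ : (N : G) ∈ Z0 := by
        refine H1 N (h2el N N.2) (comm_of_conj hy hZc hZ2 ?_)
        have e1 : ((σ N : T) : G) = (t : G)⁻¹ * N * t := by rw [hσN]; rfl
        rw [← hσv, e1]
        have e2 := hcom (N : G)⁻¹ (inv_mem N.2) (t : G)⁻¹ (inv_mem t.2)
        rw [commutatorElement_def, inv_inv, inv_inv] at e2
        rwa [← mul_assoc, ← mul_assoc]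
      have hw : t * σ (σ t) * σ (σ (σ t)) ∈ T1 := by
        intro v
        have e1 := hkZ N hNZ v
        rw [hN] at e1
        simp only [hmul] at e1
        simp only [hσm, hmul]
        have e3 := hC (k (σ (σ (σ t))) v)
        set a0 := k t v
        set a1 := k (σ t) v
        set a2 := k (σ (σ t)) v
        set a3 := k (σ (σ (σ t))) v
        set a4 := k (σ (σ (σ (σ t)))) v
        set a5 := k (σ (σ (σ (σ (σ t))))) v
        set a6 := k (σ (σ (σ (σ (σ (σ t)))))) v
        calc a0 * a2 * a3 * (a1 * a3 * a4) * (a3 * a5 * a6) = a0 * a1 * a2 * a3 * a4 * a5 * a6 * (a3 * a3) :=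
              nine a0 a1 a2 a3 a4 a5 a6
          _ = 1 := by rw [e1, e3, one_mul]
      have hwZ := h _ hw
      have e1 := hkZ _ hwZ u
      rwa [hmul, hmul] at e1
  intro t ht u hu
  have e1 := congrArg Subtype.val (hk0 ⟨t, ht⟩ ⟨u, hu⟩)
  have e2 : t * u * t⁻¹ * u⁻¹ = 1 := by
    have := hkv ⟨t, ht⟩ ⟨u, hu⟩
    rw [← this, e1]
    rfl
  rw [mul_inv_eq_one, mul_inv_eq_iff_eq_mul] at e2
  exact e2

/-- **The `2`-groups normalised by `y` and `z`.** -/
theorem two_group (hy : y ^ 7 = 1) (hyz : y * z = z * y) (hZc : Z0 ≤ center G) (hZ2 : ∀ x ∈ Z0, x * x = 1)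
    (H1 : ∀ u : G, (∃ k, u ^ 2 ^ k = 1) → y * u = u * y → u ∈ Z0)
    (H3 : ∀ T : Subgroup G, (∀ u ∈ T, u * u = 1) → (∀ u ∈ T, y * u * y⁻¹ ∈ T) → (∀ u ∈ T, z * u * z⁻¹ ∈ T) →
      (∀ u ∈ T, y * u = u * y → u = 1) → T = ⊥) :
    ∀ (n : ℕ) (T : Subgroup G), Nat.card T = n → IsPGroup 2 T → (∀ u ∈ T, y * u * y⁻¹ ∈ T) →
      (∀ u ∈ T, z * u * z⁻¹ ∈ T) → T ≤ Z0 := by
  intro n
  induction n using Nat.strong_induction_on with
  | _ n ih =>
  intro T hTn hT hyT hzT
  have IH : ∀ S : Subgroup G, S ≤ T → S ≠ T → (∀ u ∈ S, y * u * y⁻¹ ∈ S) → (∀ u ∈ S, z * u * z⁻¹ ∈ S) →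
      S ≤ Z0 := by
    intro S hS hST h1 h2
    refine ih (Nat.card S) ?_ S rfl (hT.to_le hS) h1 h2
    rw [← hTn]
    exact lt_of_le_of_ne (Subgroup.card_le_of_le hS) (fun h => hST (Subgroup.eq_of_le_of_card_ge hS h.ge))
  by_cases hT1 : T = ⊥
  · rw [hT1]; exact bot_le
  have hcom : ∀ t ∈ T, ∀ u ∈ T, ⁅t, u⁆ ∈ Z0 := by
    have h1 : ⁅T, T⁆ ≤ T := by
      rw [Subgroup.commutator_le]
      intro a ha b hb
      exact mul_mem (mul_mem (mul_mem ha hb) (inv_mem ha)) (inv_mem hb)
    have h2 := IH ⁅T, T⁆ h1 (commutator_ne hT hT1) (map_conj_le hyT) (map_conj_le hzT)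
    intro t ht u hu
    exact h2 (Subgroup.commutator_mem_commutator ht hu)
  exact two_abelian hy hyz hZc hZ2 H1 H3 hT hyT hzT IH (two_comm hy hyz hZc hZ2 H1 hT hyT hzT IH hcom)

end Main

end Cfsg.Agent.H99.AS
end

-- part: H99/AS/TwoV
section
/-!
# S3943 (helper99): elementary abelian `2`-groups normalised by `y z` of order 21 in dimension at most 8

* `char_indep` : eigenvectors for distinct characters are linearly independent;
* `no_elem` : no elementary abelian `2`-group `T ≠ 1` normalised by `y`, `z` with `C_T(y) = C_T(z) = 1`;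
* `cent_three` : `C_T(z) ≤ C_T(y)` if `y` is trivial on `[V, z]`.
-/

set_option autoImplicit false
set_option linter.unusedSectionVars false

namespace Cfsg.Agent.H99.AS

open Module Subgroup Cfsg.Agent.H518.DghpFix Cfsg.Agent.H518.SU

universe u v w

theorem char_indep {F : Type u} [Field F] {V : Type v} [AddCommGroup V] [Module F V] {T : Type w} [Group T]
    (φ : T →* (V →ₗ[F] V)) {ι : Type} [Fintype ι] (b : ι → V) (hb : ∀ i, b i ≠ 0) (χ : ι → (T →* F))
    (hχ : Function.Injective χ) (h : ∀ i t, φ t (b i) = χ i t • b i) : LinearIndependent F b := by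
  rw [Fintype.linearIndependent_iff]
  intro g hg i
  have hli : LinearIndependent F (fun i => (χ i : T → F)) :=
    (linearIndependent_monoidHom T F).comp χ hχ
  rw [Fintype.linearIndependent_iff] at hli
  have h1 : ∀ f : Module.Dual F V, g i * f (b i) = 0 := by
    intro f
    refine hli (fun i => g i * f (b i)) ?_ i
    funext t
    have h2 := congrArg (fun v => f (φ t v)) hg
    simp only [map_sum, map_smul, h, map_zero] at h2
    rw [Finset.sum_apply, Pi.zero_apply, ← h2]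
    refine Finset.sum_congr rfl fun j _ => ?_
    simp only [Pi.smul_apply, smul_eq_mul]
    ring
  by_contra hgi
  apply hb i
  rw [← Module.forall_dual_apply_eq_zero_iff F]
  intro f
  exact (mul_eq_zero.1 (h1 f)).resolve_left hgi

section

variable {F : Type u} [Field F] {V : Type v} [AddCommGroup V] [Module F V] {G : Type w} [Group G]

/-- a common eigenvector -/
theorem exists_eigen (φ : G →* (V →ₗ[F] V)) {T : Subgroup G} (h2 : ∀ u ∈ T, u * u = 1) [Finite T] {d : G} (hd : d ∈ T)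
    {v₀ : V} (hv₀ : v₀ ≠ 0) (hdv : φ d v₀ = -v₀) :
    ∃ v, v ≠ 0 ∧ φ d v = -v ∧ ∀ t ∈ T, φ t v = v ∨ φ t v = -v := by
  classical
  have hab : ∀ t ∈ T, ∀ u ∈ T, t * u = u * t := by
    intro t ht u hu
    have h1 := h2 t ht
    have h3 := h2 u hu
    have h4 := h2 (t * u) (mul_mem ht hu)
    calc t * u = (t * u)⁻¹ := (inv_eq_of_mul_eq_one_left h4).symm
      _ = u⁻¹ * t⁻¹ := mul_inv_rev t u
      _ = u * t := by rw [inv_eq_of_mul_eq_one_left h1, inv_eq_of_mul_eq_one_left h3]
  have hTf : (T : Set G).Finite := Set.toFinite _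
  have key : ∀ s : Finset G, (∀ t ∈ s, t ∈ T) → ∃ v, v ≠ 0 ∧ φ d v = -v ∧ ∀ t ∈ s, φ t v = v ∨ φ t v = -v := by
    intro s
    induction s using Finset.induction_on with
    | empty => intro _; exact ⟨v₀, hv₀, hdv, fun t ht => absurd ht (Finset.notMem_empty t)⟩
    | insert a s ha ih =>
      intro hs
      obtain ⟨v, hv, hd', hv'⟩ := ih fun t ht => hs t (Finset.mem_insert_of_mem ht)
      have haT := hs a (Finset.mem_insert_self _ _)
      by_cases h0 : v + φ a v = 0
      · refine ⟨v, hv, hd', ?_⟩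
        intro t ht
        rcases Finset.mem_insert.1 ht with rfl | ht
        · exact Or.inr (eq_neg_of_add_eq_zero_right h0)
        · exact hv' t ht
      · have hc : ∀ t ∈ T, ∀ w, φ t (φ a w) = φ a (φ t w) := by
          intro t ht w
          rw [← Module.End.mul_apply, ← map_mul, hab t ht a haT, map_mul, Module.End.mul_apply]
        refine ⟨v + φ a v, h0, ?_, ?_⟩
        · rw [map_add, hc d hd, hd', map_neg, neg_add]
        · intro t ht
          rcases Finset.mem_insert.1 ht with rfl | ht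
          · left
            rw [map_add, ← Module.End.mul_apply, ← map_mul, h2 t haT, map_one, Module.End.one_apply, add_comm]
          · have htT := hs t (Finset.mem_insert_of_mem ht)
            rcases hv' t ht with h | h
            · left
              rw [map_add, hc t htT, h]
            · right
              rw [map_add, hc t htT, h, map_neg, neg_add]
  obtain ⟨v, h1, h3, h4⟩ := key hTf.toFinset fun t ht => hTf.mem_toFinset.1 ht
  exact ⟨v, h1, h3, fun t ht => h4 t (hTf.mem_toFinset.2 ht)⟩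

/-- **No elementary abelian `2`-group.** -/
theorem no_elem [FiniteDimensional F V] [Finite G] (φ : G →* (V →ₗ[F] V)) (hφ : Function.Injective φ)
    (h2F : (2 : F) ≠ 0) {y z : G} (hy : y ^ 7 = 1) (hz : z ^ 3 = 1) (hyz : y * z = z * y) (hn : finrank F V < 9)
    (T : Subgroup G) (h2 : ∀ u ∈ T, u * u = 1) (hyT : ∀ u ∈ T, y * u * y⁻¹ ∈ T) (hzT : ∀ u ∈ T, z * u * z⁻¹ ∈ T)
    (hCy : ∀ u ∈ T, y * u = u * y → u = 1) (hCz : ∀ u ∈ T, z * u = u * z → u = 1) : T = ⊥ := by
  classical
  by_contra hT1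
  obtain ⟨d, hd, hd1⟩ := T.bot_or_exists_ne_one.resolve_left hT1
  have hd1' : φ d ≠ 1 := fun h => hd1 (hφ (by rw [h, map_one]))
  have hw : ∃ w, φ d w ≠ w := by
    by_contra hcon
    push Not at hcon
    exact hd1' (LinearMap.ext fun w => hcon w)
  obtain ⟨w, hw⟩ := hw
  have hv0 : w - φ d w ≠ 0 := fun h => hw (sub_eq_zero.1 h).symm
  have hdv : φ d (w - φ d w) = -(w - φ d w) := by
    rw [map_sub, ← Module.End.mul_apply, ← map_mul, h2 d hd, map_one, Module.End.one_apply, neg_sub]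
  obtain ⟨v, hv, hdv', hev⟩ := exists_eigen φ h2 hd hv0 hdv
  have hneg : (-1 : F) ≠ 1 := by
    intro h
    apply h2F
    have : (1 : F) + 1 = 0 := by nth_rewrite 1 [← h]; exact neg_add_cancel 1
    rw [← this]; norm_num
  have hex : ∀ t : T, ∃ c : F, (c = 1 ∨ c = -1) ∧ φ t v = c • v := by
    intro t
    rcases hev t t.2 with h | h
    · exact ⟨1, Or.inl rfl, by rw [one_smul, h]⟩
    · exact ⟨-1, Or.inr rfl, by rw [neg_smul, one_smul, h]⟩
  choose c hc1 hc2 using hex
  let χ : T →* F :=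
    { toFun := c
      map_one' := by
        have h1 := hc2 1
        rw [Subgroup.coe_one, map_one, Module.End.one_apply] at h1
        have h3 : (1 : F) • v = c 1 • v := by rw [one_smul]; exact h1
        exact (smul_left_injective F hv h3).symm
      map_mul' := fun a b => by
        have h1 := hc2 (a * b)
        rw [Subgroup.coe_mul, map_mul, Module.End.mul_apply, hc2 b, map_smul, hc2 a, smul_smul] at h1
        rw [mul_comm (c a)]
        exact (smul_left_injective F hv h1).symm }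
  have hχ : ∀ t : T, φ t v = χ t • v := hc2
  have hχd : χ ⟨d, hd⟩ = -1 := by
    have h1 := hχ ⟨d, hd⟩
    have h3 : φ d v = (-1 : F) • v := by rw [neg_smul, one_smul, hdv']
    exact (smul_left_injective F hv (h3.symm.trans h1)).symm
  -- the normaliser
  set s := y * z with hs
  have hcyz : Commute y z := hyz
  have hconj : ∀ g : G, g ∈ zpowers s → ∀ t ∈ T, g⁻¹ * t * g ∈ T := by
    have h1 : s ∈ Subgroup.normalizer (T : Set G) := by
      refine mem_normalizer_fintype fun x hx => ?_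
      have := hyT _ (hzT x hx)
      rwa [show y * (z * x * z⁻¹) * y⁻¹ = y * z * x * (y * z)⁻¹ by group] at this
    intro g hg t ht
    have h3 : g ∈ Subgroup.normalizer (T : Set G) := (zpowers_le.2 h1) hg
    exact (Subgroup.mem_normalizer_iff''.1 h3 t).1 ht
  let conj : ∀ g : G, g ∈ zpowers s → T →* T := fun g hg =>
    { toFun := fun t => ⟨g⁻¹ * t * g, hconj g hg t t.2⟩
      map_one' := Subtype.ext (by
        show g⁻¹ * 1 * g = 1
        group)
      map_mul' := fun a b => Subtype.ext (by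
        show g⁻¹ * ((a : G) * b) * g = g⁻¹ * a * g * (g⁻¹ * b * g)
        group) }
  have hpow : ∀ i : ℕ, s ^ i ∈ zpowers s := fun i => pow_mem (mem_zpowers s) i
  have hy1 : s ^ 15 = y := by
    rw [hs, hcyz.mul_pow, show 15 = 7 * 2 + 1 by norm_num, pow_add, pow_mul, hy, one_pow, one_mul, pow_one,
      show 7 * 2 + 1 = 3 * 5 by norm_num, pow_mul, hz, one_pow, mul_one]
  have hz1 : s ^ 7 = z := by
    rw [hs, hcyz.mul_pow, hy, one_mul, show 7 = 3 * 2 + 1 by norm_num, pow_add, pow_mul, hz, one_pow, one_mul, pow_one]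
  have hs21 : s ^ 21 = 1 := by
    rw [hs, hcyz.mul_pow, show 21 = 7 * 3 by norm_num, pow_mul, hy, one_pow, one_mul, mul_comm 7 3, pow_mul, hz, one_pow]
  -- the kernel
  have hker : ∀ (g : G) (hg : g ∈ zpowers s), (∀ t : T, χ ⟨g⁻¹ * t * g, hconj g hg t t.2⟩ = χ t) → ∀ n : ℕ,
      ∀ (hgn : g ^ n ∈ zpowers s) (t : T), χ ⟨(g ^ n)⁻¹ * t * g ^ n, hconj _ hgn t t.2⟩ = χ t := by
    intro g hg hgt n
    induction n with
    | zero =>
      intro hgn t
      congr 1
      apply Subtype.ext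
      show (g ^ 0)⁻¹ * (t : G) * g ^ 0 = t
      rw [pow_zero]; group
    | succ n ih =>
      intro hgn t
      have hgn' : g ^ n ∈ zpowers s := pow_mem hg n
      rw [← ih hgn' t, ← hgt ⟨(g ^ n)⁻¹ * t * g ^ n, hconj _ hgn' t t.2⟩]
      congr 1
      apply Subtype.ext
      show (g ^ (n + 1))⁻¹ * (t : G) * g ^ (n + 1) = g⁻¹ * ((g ^ n)⁻¹ * t * g ^ n) * g
      rw [pow_succ]; group
  -- no fixed characters
  have hno : ∀ (g : G) (hg : g ∈ zpowers s), (∀ u ∈ T, g * u = u * g → u = 1) →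
      ¬ (∀ t : T, χ ⟨g⁻¹ * t * g, hconj g hg t t.2⟩ = χ t) := by
    intro g hg hC hfix
    have hab : ∀ t ∈ T, ∀ u ∈ T, t * u = u * t := by
      intro t ht u hu
      have h1 := h2 t ht
      have h3 := h2 u hu
      have h4 := h2 (t * u) (mul_mem ht hu)
      calc t * u = (t * u)⁻¹ := (inv_eq_of_mul_eq_one_left h4).symm
        _ = u⁻¹ * t⁻¹ := mul_inv_rev t u
        _ = u * t := by rw [inv_eq_of_mul_eq_one_left h1, inv_eq_of_mul_eq_one_left h3]
    have hgc : ∀ c : G, g⁻¹ * c * g = c → g * c = c * g := fun c h => by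
      rw [mul_assoc, inv_mul_eq_iff_eq_mul] at h
      exact h.symm
    let δ : T → T := fun t => t⁻¹ * ⟨g⁻¹ * t * g, hconj g hg t t.2⟩
    have hinj : Function.Injective δ := by
      intro a b hab'
      have h1 : (a : G)⁻¹ * (g⁻¹ * a * g) = (b : G)⁻¹ * (g⁻¹ * b * g) := congrArg Subtype.val hab'
      have h3 : g * ((a : G) * (b : G)⁻¹) = ((a : G) * (b : G)⁻¹) * g := by
        have e1 : (b : G) * (a : G)⁻¹ * (g⁻¹ * a * g) * (g⁻¹ * b * g)⁻¹ = 1 := by
          rw [mul_assoc (b : G), h1]; group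
        have e2 : (b : G) * (a : G)⁻¹ * (g⁻¹ * (a * (b : G)⁻¹) * g) = 1 := by
          rw [← e1]; group
        have e3 : g⁻¹ * (a * (b : G)⁻¹) * g = a * (b : G)⁻¹ := by
          have := eq_inv_of_mul_eq_one_right e2
          rw [this]; group
        exact hgc _ e3
      have h4 := hC _ (mul_mem a.2 (inv_mem b.2)) h3
      exact Subtype.ext (mul_inv_eq_one.1 h4)
    obtain ⟨t, ht⟩ := Finite.injective_iff_surjective.1 hinj ⟨d, hd⟩
    have h1 : χ ⟨d, hd⟩ = 1 := by
      rw [← ht]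
      show χ (t⁻¹ * ⟨g⁻¹ * t * g, hconj g hg t t.2⟩) = 1
      rw [map_mul, hfix, ← map_mul, inv_mul_cancel, map_one]
    rw [hχd] at h1
    exact hneg h1
  -- the characters
  let X : Fin 9 → (T →* F) := fun i => χ.comp (conj (s ^ (i : ℕ)) (hpow i))
  have hXinj : Function.Injective X := by
    have hlt : ∀ i j : Fin 9, i < j → X i ≠ X j := by
      intro i j hij hX
      obtain ⟨k, hk⟩ : ∃ k : ℕ, (j : ℕ) = i + k := ⟨j - i, by
        have : (i : ℕ) ≤ j := le_of_lt hij
        omega⟩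
      have hk0 : 0 < k := by
        have : (i : ℕ) < j := hij
        omega
      have hk9 : k < 9 := by
        have := j.2
        omega
      have h1 : ∀ t : T, χ ⟨(s ^ k)⁻¹ * t * s ^ k, hconj _ (hpow k) t t.2⟩ = χ t := by
        intro t
        -- `t = (s ^ i)⁻¹ * t' * s ^ i`
        have ht' : s ^ (i : ℕ) * t * (s ^ (i : ℕ))⁻¹ ∈ T := by
          have := hconj (s ^ (i : ℕ))⁻¹ (inv_mem (hpow i)) t t.2
          rwa [inv_inv] at this
        have h3 := DFunLike.congr_fun hX ⟨_, ht'⟩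
        have h4 : X i ⟨_, ht'⟩ = χ t := by
          show χ _ = χ t
          congr 1
          apply Subtype.ext
          show (s ^ (i : ℕ))⁻¹ * (s ^ (i : ℕ) * t * (s ^ (i : ℕ))⁻¹) * s ^ (i : ℕ) = t
          group
        have h5 : X j ⟨_, ht'⟩ = χ ⟨(s ^ k)⁻¹ * t * s ^ k, hconj _ (hpow k) t t.2⟩ := by
          show χ _ = χ _
          congr 1
          apply Subtype.ext
          show (s ^ (j : ℕ))⁻¹ * (s ^ (i : ℕ) * t * (s ^ (i : ℕ))⁻¹) * s ^ (j : ℕ) = (s ^ k)⁻¹ * t * s ^ k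
          rw [hk, pow_add]; group
        rw [← h5, ← h4, h3]
      have h3 := hker (s ^ k) (hpow k) h1
      have hred : ∀ e : ℕ, (s ^ k) ^ e = s ^ ((k * e) % 21) := fun e => by
        rw [← pow_mul, pow_eq_pow_mod (k * e) hs21]
      have hyk : (∃ e, (k * e) % 21 = 15) → False := by
        rintro ⟨e, he⟩
        have e1 : (s ^ k) ^ e = y := by rw [hred, he, hy1]
        refine hno y (hy1 ▸ hpow 15) hCy fun t => ?_
        have h4 := h3 e (pow_mem (hpow k) e) t
        rw [← h4]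
        congr 1
        apply Subtype.ext
        show y⁻¹ * (t : G) * y = ((s ^ k) ^ e)⁻¹ * t * (s ^ k) ^ e
        rw [e1]
      have hzk : (∃ e, (k * e) % 21 = 7) → False := by
        rintro ⟨e, he⟩
        have e1 : (s ^ k) ^ e = z := by rw [hred, he, hz1]
        refine hno z (hz1 ▸ hpow 7) hCz fun t => ?_
        have h4 := h3 e (pow_mem (hpow k) e) t
        rw [← h4]
        congr 1
        apply Subtype.ext
        show z⁻¹ * (t : G) * z = ((s ^ k) ^ e)⁻¹ * t * (s ^ k) ^ e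
        rw [e1]
      interval_cases k
      · exact hyk ⟨15, rfl⟩
      · exact hyk ⟨18, rfl⟩
      · exact hyk ⟨5, rfl⟩
      · exact hyk ⟨9, rfl⟩
      · exact hyk ⟨3, rfl⟩
      · exact hyk ⟨6, rfl⟩
      · exact hzk ⟨1, rfl⟩
      · exact hyk ⟨15, rfl⟩
    intro i j hij
    rcases lt_trichotomy i j with h | h | h
    · exact absurd hij (hlt i j h)
    · exact h
    · exact absurd hij.symm (hlt j i h)
  have hli := char_indep (φ.comp T.subtype) (fun i : Fin 9 => φ (s ^ (i : ℕ)) v) ?_ X hXinj ?_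
  · have h1 := hli.fintype_card_le_finrank
    rw [Fintype.card_fin] at h1
    omega
  · intro i h
    apply hv
    have h1 : φ ((s ^ (i : ℕ))⁻¹) (φ (s ^ (i : ℕ)) v) = v := by
      rw [← Module.End.mul_apply, ← map_mul, inv_mul_cancel, map_one, Module.End.one_apply]
    rw [← h1]
    show φ ((s ^ (i : ℕ))⁻¹) (φ (s ^ (i : ℕ)) v) = 0
    rw [show φ (s ^ (i : ℕ)) v = 0 from h, map_zero]
  · intro i t
    show φ (t : G) (φ (s ^ (i : ℕ)) v) = χ _ • φ (s ^ (i : ℕ)) v
    rw [← map_smul, ← hχ, ← Module.End.mul_apply, ← Module.End.mul_apply, ← map_mul, ← map_mul]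
    congr 2
    show (t : G) * s ^ (i : ℕ) = s ^ (i : ℕ) * ((s ^ (i : ℕ))⁻¹ * t * s ^ (i : ℕ))
    group

/-- `C_T(z) ≤ C_T(y)` for `z` of order 3 with `y` trivial on `[V, z]` -/
theorem cent_three [FiniteDimensional F V] [Finite G] (φ : G →* (V →ₗ[F] V)) (hφ : Function.Injective φ) {p : ℕ}
    (hp : p.Prime) (hp2 : p ≠ 2) (h2F : (2 : F) ≠ 0) (h3F : (3 : F) ≠ 0) {y z : G} (hy : orderOf y = p)
    (hz : z ^ 3 = 1) (hyz : y * z = z * y) (hV2 : ∀ v, φ y (φ z v - v) = φ z v - v)
    (hn : finrank F (fixS (φ z)) + 1 < p ∨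
      (finrank F (fixS (φ z)) + 1 = p ∧ ¬ (∃ k, finrank F (fixS (φ z)) = 2 ^ k)))
    {T : Subgroup G} (hT : IsPGroup 2 T) (hyT : ∀ u ∈ T, y * u * y⁻¹ ∈ T) :
    ∀ u ∈ T, u * z = z * u → y * u = u * y := by
  have : Fact (Nat.Prime 2) := ⟨Nat.prime_two⟩
  have hyp : y ^ p = 1 := by rw [← hy, pow_orderOf_eq_one]
  intro u hu huz
  set H : Subgroup G := centralizer ({z} : Set G) with hH
  have hW : ∀ h : H, ∀ v ∈ fixS (φ z), (φ.comp H.subtype) h v ∈ fixS (φ z) := by
    intro h v hv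
    have h1 : (h : G) * z = z * h := mem_centralizer_singleton_iff.1 h.2
    show φ z (φ (h : G) v) = φ (h : G) v
    rw [← Module.End.mul_apply, ← map_mul, ← h1, map_mul, Module.End.mul_apply]
    exact congrArg _ hv
  have hyH : y ∈ H := mem_centralizer_singleton_iff.2 hyz
  have huH : u ∈ H := mem_centralizer_singleton_iff.2 huz
  have h1 := centralize_rep' (resHom (φ.comp H.subtype) (fixS (φ z)) hW) hp hp2 Nat.prime_two (Ne.symm hp2)
    (by exact_mod_cast h2F) (y := ⟨y, hyH⟩) (Subtype.ext hyp) (T := T.subgroupOf H)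
    (hT.comap_of_injective _ H.subtype_injective) ?_ ?_ ⟨u, huH⟩ (mem_subgroupOf.2 hu)
  · apply hφ
    ext v
    -- decompose `v`
    have hz3 : φ z (φ z (φ z v)) = v := by
      rw [← Module.End.mul_apply, ← Module.End.mul_apply, ← map_mul, ← map_mul,
        show z * z * z = z ^ 3 by rw [pow_succ, pow_two], hz, map_one]; rfl
    set a := v + φ z v + φ z (φ z v) with ha
    have haz : a ∈ fixS (φ z) := by
      show φ z a = a
      rw [ha, map_add, map_add, hz3]; abel
    have hab : (3 : F) • v = a - (φ z v - v) - (φ z v - v) - (φ z (φ z v) - φ z v) := by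
      have h3 : (3 : F) • v = v + v + v := by
        rw [show (3 : F) = 1 + 1 + 1 by norm_num, add_smul, add_smul, one_smul]
      rw [ha, h3]; abel
    have e1 : φ (y * u) a = φ (u * y) a := by
      have h4 := LinearMap.congr_fun h1 ⟨a, haz⟩
      exact congrArg Subtype.val h4
    have e2 : ∀ w, φ (y * u) (φ z w - w) = φ (u * y) (φ z w - w) := by
      intro w
      rw [map_mul, map_mul, Module.End.mul_apply, Module.End.mul_apply, hV2 w]
      have h5 : φ u (φ z w - w) = φ z (φ u w) - φ u w := by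
        rw [map_sub, ← Module.End.mul_apply, ← map_mul, huz, map_mul, Module.End.mul_apply]
      rw [h5, hV2]
    have e3 : (3 : F) • φ (y * u) v = (3 : F) • φ (u * y) v := by
      rw [← map_smul, ← map_smul, hab, map_sub (φ (y * u)), map_sub (φ (y * u)), map_sub (φ (y * u)),
        map_sub (φ (u * y)), map_sub (φ (u * y)), map_sub (φ (u * y)), e1, e2 v, e2 (φ z v)]
    exact smul_right_injective V h3F e3
  · intro x hx
    exact mem_subgroupOf.2 (hyT _ (mem_subgroupOf.1 hx))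
  · rcases hn with h | ⟨h, h'⟩
    · exact Or.inl h
    · exact Or.inr ⟨h, fun h'' => h' h''.2⟩

end

/-- recover `y` and `z` from `y z`, `z ^ 3 = 1` -/
theorem exists_pows {G : Type u} [Group G] {p : ℕ} (hp : p.Prime) {y z : G} (hy : orderOf y = p) (hzz : z ^ 3 = 1)
    (hp3 : p ≠ 3) (hyz : y * z = z * y) : ∃ m n : ℕ, (y * z) ^ m = y ∧ (y * z) ^ n = z := by
  have hc : Commute y z := hyz
  have hyp : y ^ p = 1 := by rw [← hy, pow_orderOf_eq_one]
  have hco : Nat.Coprime p 3 := (Nat.coprime_primes hp Nat.prime_three).2 hp3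
  obtain ⟨m, hm1, hm2⟩ := Nat.chineseRemainder hco 1 0
  obtain ⟨n, hn1, hn2⟩ := Nat.chineseRemainder hco 0 1
  have hmod : ∀ {g : G} {k a b : ℕ}, g ^ k = 1 → a ≡ b [MOD k] → g ^ a = g ^ b := by
    intro g k a b hg hab
    exact pow_eq_pow_iff_modEq.2 (hab.of_dvd (orderOf_dvd_of_pow_eq_one hg))
  refine ⟨m, n, ?_, ?_⟩
  · rw [hc.mul_pow, hmod hyp hm1, hmod hzz hm2, pow_one, pow_zero, mul_one]
  · rw [hc.mul_pow, hmod hyp hn1, hmod hzz hn2, pow_one, pow_zero, one_mul]

/-- **`Elc` from centralised normal `t`-subgroups**, `z` of order 3. -/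
theorem elc_of3 {G : Type u} [Group G] [Finite G] {p : ℕ} (hp : p.Prime) {y z : G} (hy : orderOf y = p)
    (hzz : z ^ 3 = 1) (hp3 : p ≠ 3) (hyz : y * z = z * y)
    (h1 : ∀ M : Subgroup G, Group.IsSolvable M → y ∈ M → z ∈ M → ∀ t : ℕ, t.Prime → t ≠ p → ∀ T : Subgroup G, T ≤ M →
      (∀ m ∈ M, ∀ x ∈ T, m * x * m⁻¹ ∈ T) → IsPGroup t T → ∀ u ∈ T, y * u = u * y)
    (h2 : ∀ u v : G, orderOf u = p → orderOf v = p → u * v = v * u → v ∈ Subgroup.zpowers u) : Elc p (y * z) y := by
  intro M hM hs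
  obtain ⟨m, n, hm, hn⟩ := exists_pows hp hy hzz hp3 hyz
  have hyM : y ∈ M := hm ▸ M.pow_mem hs m
  have hzM : z ∈ M := hn ▸ M.pow_mem hs n
  have hy' : orderOf (⟨y, hyM⟩ : M) = p ^ 1 := by rw [Subgroup.orderOf_mk, hy, pow_one]
  have key : ∀ u : M, orderOf u = p → u ∈ Subgroup.zpowers (⟨y, hyM⟩ : M) := by
    refine solv_unique hp le_rfl hy' ?_ ?_
    · intro t ht htp T hTn hT u hu
      rw [Nat.sub_self, pow_zero, pow_one]
      apply Subtype.ext
      refine h1 M hM hyM hzM t ht htp (T.map M.subtype) (Subgroup.map_subtype_le T) ?_ (hT.map _) (u : G)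
        ⟨u, hu, rfl⟩
      rintro m hm _ ⟨x, hx, rfl⟩
      exact ⟨(⟨m, hm⟩ * x * ⟨m, hm⟩⁻¹ :), hTn.conj_mem x hx _, rfl⟩
    · intro u v hu hv huv
      have h3 := h2 u v (by rw [Subgroup.orderOf_coe, hu]) (by rw [Subgroup.orderOf_coe, hv])
        (congrArg Subtype.val huv)
      obtain ⟨i, hi⟩ := Subgroup.mem_zpowers_iff.1 h3
      exact Subgroup.mem_zpowers_iff.2 ⟨i, Subtype.ext hi⟩
  intro u hu ho
  obtain ⟨i, hi⟩ := Subgroup.mem_zpowers_iff.1 (key ⟨u, hu⟩ (by rw [Subgroup.orderOf_mk, ho]))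
  exact Subgroup.mem_zpowers_iff.2 ⟨i, congrArg Subtype.val hi⟩

/-- the data of a row from `Elc` in a central extension -/
theorem row_of_elc3 {G : Type u} [Group G] [Finite G] {p : ℕ} (hp : p.Prime) (hp5 : 5 ≤ p) {y z : G}
    (hy : orderOf y = p) (hzz : z ^ 3 = 1) (hyz : y * z = z * y) (hel : Elc p (y * z) y)
    (hcz : ¬ p ∣ Nat.card (Subgroup.center G)) :
    orderOf (QuotientGroup.mk' (Subgroup.center G) y) = p ∧
      QuotientGroup.mk' (Subgroup.center G) y ∈ Subgroup.zpowers (QuotientGroup.mk' (Subgroup.center G) (y * z)) ∧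
      Uel p (QuotientGroup.mk' (Subgroup.center G) (y * z)) := by
  set π := QuotientGroup.mk' (Subgroup.center G) with hπ
  have hk : π.ker = Subgroup.center G := QuotientGroup.ker_mk' _
  have hk' : ¬ p ∣ Nat.card π.ker := by rwa [hk]
  have hks : Group.IsSolvable π.ker := by
    rw [hk]
    exact Group.isSolvable_of_comm fun a b => Subtype.ext ((Subgroup.mem_center_iff.1 b.2) a)
  have hel' : Elc p (π (y * z)) (π y) := hel.map hp π (QuotientGroup.mk'_surjective _) hks hk'
  have hoy : orderOf (π y) = p := by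
    have := orderOf_map (a := 1) hp (by rw [hy, pow_one]) π hk'
    rwa [pow_one] at this
  refine ⟨hoy, ?_, hel'.uel hp hoy⟩
  obtain ⟨m, n, hm, -⟩ := exists_pows hp hy hzz (by omega) hyz
  refine Subgroup.mem_zpowers_iff.2 ⟨(m : ℤ), ?_⟩
  rw [← map_zpow, zpow_natCast, hm]

end Cfsg.Agent.H99.AS
end

-- part: H99/AS/OThree
section
/-!
# S3943, the row `PΩ⁺₈(3)` (helper99)

`y` of order 7, `z = r(e₁) r(e₂)` the involution which is `-1` on `C_V(y) = ⟨e₁, e₂⟩` and `1` on `[V, y]`.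
-/

set_option autoImplicit false
set_option linter.unusedSectionVars false

namespace Cfsg.Agent.H99.AS.OThree

open Module QuadraticMap Matrix Cfsg.Agent.H518.DghpFix Cfsg.Agent.H518.DghpPrim Cfsg.Agent.H518.DghpMat
  Cfsg.Agent.H518.SU Cfsg.Agent.LieClassical.OmegaReindex Cfsg.Agent.ClassicalGeometry
  Cfsg.Agent.ClassicalGeometry.Reflection Cfsg.Agent.ClassicalGeometry.SpinorSign Cfsg.Agent.H99.AS
  Cfsg.Agent.H489.AS Cfsg.Agent.H500.AS Cfsg.Agent.H965.AS

universe u

variable {F : Type} [Field F] [Fintype F]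

/-- the group (short name: small terms) -/
abbrev GG (F : Type) [Field F] [Fintype F] : Type := ↥(Cfsg.Omega F (⇑(quadPlus 4 F)))

@[reducible] noncomputable def grpGG (F : Type) [Field F] [Fintype F] : Group (GG F) := Subgroup.toGroup _
@[reducible] noncomputable def mulGG (F : Type) [Field F] [Fintype F] : Mul (GG F) := (grpGG F).toMul
@[reducible] noncomputable def oneGG (F : Type) [Field F] [Fintype F] : One (GG F) := (grpGG F).toOne
@[reducible] noncomputable def invGG (F : Type) [Field F] [Fintype F] : Inv (GG F) := (grpGG F).toInv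

/-- the representation -/
noncomputable abbrev rep (F : Type) [Field F] [Fintype F] :=
  @matRep _ _ _ F _ (GG F) (grpGG F) (omHom (⇑(quadPlus 4 F)))

theorem finrank_V : finrank F (Fin 4 ⊕ Fin 4 → F) = 8 := by
  rw [finrank_pi_fin]
  simp

theorem two_ne (hF : Fintype.card F = 3) : (2 : F) ≠ 0 := by
  intro h
  have h1 : ((Fintype.card F : ℕ) : F) = 0 := Nat.cast_card_eq_zero F
  rw [hF] at h1
  have h2 : (1 : F) = 0 := by
    calc (1 : F) = ((3 : ℕ) : F) - 2 := by push_cast; ring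
      _ = 0 := by rw [h1, h, sub_zero]
  exact one_ne_zero h2

theorem eq_or_neg (hF : Fintype.card F = 3) {a b : F} (ha : a ≠ 0) (hb : b ≠ 0) : a = b ∨ a = -b := by
  have h1 := FiniteField.pow_card_sub_one_eq_one a ha
  have h2 := FiniteField.pow_card_sub_one_eq_one b hb
  rw [hF] at h1 h2
  exact sq_eq_sq_iff_eq_or_eq_neg.1 (h1.trans h2.symm)

theorem ord_seven_three : orderOf ((3 : ℕ) : ZMod 7) = 2 * (4 - 1) := by
  rw [orderOf_eq_iff (by norm_num)]
  refine ⟨by decide, ?_⟩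
  intro m hm h0
  have : m = 1 ∨ m = 2 ∨ m = 3 ∨ m = 4 ∨ m = 5 := by omega
  rcases this with rfl | rfl | rfl | rfl | rfl <;> decide

section Gen

variable {ι : Type} [Fintype ι] [DecidableEq ι] {Q : QuadraticForm F (ι → F)}

/-- **The involution.** -/
theorem exists_z_gen (h2F : (2 : F) ≠ 0) {y : Cfsg.Omega F (⇑Q)} {e₁ e₂ : ι → F}
    (he₁ : e₁ ∈ fixS (matRep (omHom (⇑Q)) y)) (he₂ : e₂ ∈ fixS (matRep (omHom (⇑Q)) y)) (hQ₁ : Q e₁ ≠ 0)
    (hQ₂ : Q e₂ ≠ 0) (hQQ : Q e₁ = Q e₂) (h12 : polar (⇑Q) e₁ e₂ = 0) :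
    ∃ z : Cfsg.Omega F (⇑Q), z * z = 1 ∧ y * z = z * y ∧
      (∀ v, matRep (omHom (⇑Q)) z v = -v → matRep (omHom (⇑Q)) y v = v) ∧
      finrank F (fixS (matRep (omHom (⇑Q)) z)) + 2 = Fintype.card ι := by
  classical
  set φ := matRep (omHom (⇑Q)) with hφdef
  have hφ : Function.Injective φ := matRep_injective (omHom_injective _)
  have hφB : ∀ g u v, polar (⇑Q) (φ g u) (φ g v) = polar (⇑Q) u v := fun g u v => omHom_polar _ g u v
  have hp₁ : polar (⇑Q) e₁ e₁ ≠ 0 := by
    rw [Reflection.polar_self']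
    exact mul_ne_zero h2F hQ₁
  -- the element
  obtain ⟨a, ha, hconj⟩ := exists_conj_reflIso h2F Q hQ₁ hQ₂ hQQ
  set r₁ := reflIso Q e₁ hQ₁ with hr₁
  set r₂ := reflIso Q e₂ hQ₂ with hr₂
  set r := reflIso Q a ha with hr
  have hmem : r₁ * r₂ ∈ Cfsg.Omega F (⇑Q) := by
    have h1 := Subgroup.commutator_mem_commutator (Subgroup.mem_top r₁) (Subgroup.mem_top r)
    rw [commutatorElement_def, reflIso_inv, reflIso_inv, mul_assoc, mul_assoc] at h1
    rw [hconj, mul_assoc r]
    exact h1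
  set z : Cfsg.Omega F (⇑Q) := ⟨r₁ * r₂, hmem⟩ with hz
  have hR : ∀ (e : ι → F) (he : Q e ≠ 0) (v : ι → F),
      ((reflIso Q e he : Matrix.GeneralLinearGroup (ι) F) : Matrix (ι) (ι) F) *ᵥ v =
        v - ((Q e)⁻¹ * polar (⇑Q) e v) • e := fun e he v => by
    rw [coe_reflIso, reflectionMatrix_mulVec]
  have hφz : ∀ v, φ z v = v - ((Q e₁)⁻¹ * polar (⇑Q) e₁ v) • e₁ - ((Q e₂)⁻¹ * polar (⇑Q) e₂ v) • e₂ := by
    intro v
    have h1 : φ z v = ((r₁ * r₂ : Cfsg.isometryGroup F (⇑Q)) :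
        Matrix.GeneralLinearGroup (ι) F).1 *ᵥ v := rfl
    (rewrite [h1, coe_mul_mulVec, hR, hR]; simp only [QuadraticMap.polar_sub_right]; simp only [QuadraticMap.polar_smul_right]; rewrite [h12, smul_zero, sub_zero])
    abel
  have hQ1' : (Q e₁)⁻¹ * polar (⇑Q) e₁ e₁ = 2 := by
    rw [Reflection.polar_self']; field_simp
  have hQ2' : (Q e₂)⁻¹ * polar (⇑Q) e₂ e₂ = 2 := by
    rw [Reflection.polar_self']; field_simp
  have h21 : polar (⇑Q) e₂ e₁ = 0 := by rw [polar_comm, h12]
  have hz1 : φ z e₁ = -e₁ := by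
    rw [hφz, hQ1', h21, mul_zero, zero_smul, sub_zero, two_smul]; abel
  have hz2 : φ z e₂ = -e₂ := by
    rw [hφz, hQ2', h12, mul_zero, zero_smul, sub_zero, two_smul]; abel
  have hzz : z * z = 1 := by
    apply hφ
    refine LinearMap.ext fun v => ?_
    simp only [map_mul, Module.End.mul_apply, hφz v, map_sub, map_sub, map_smul, map_smul, hz1, hz2, hφz v, map_one]
    show _ = v
    rw [smul_neg, smul_neg]
    abel
  have hye : ∀ e ∈ fixS (φ y), ∀ v, polar (⇑Q) e (φ y v) = polar (⇑Q) e v := by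
    intro e he v
    have h1 : φ y e = e := he
    calc polar (⇑Q) e (φ y v) = polar (⇑Q) (φ y e) (φ y v) := by rw [h1]
      _ = polar (⇑Q) e v := hφB y e v
  refine ⟨z, hzz, ?_, ?_, ?_⟩
  · apply hφ
    refine LinearMap.ext fun v => ?_
    simp only [map_mul, map_mul, Module.End.mul_apply, Module.End.mul_apply, hφz v, hφz (φ y v), map_sub, map_sub, map_smul,
      map_smul, show φ y e₁ = e₁ from he₁, show φ y e₂ = e₂ from he₂, hye e₁ he₁, hye e₂ he₂]
  · intro v hv
    have h1 : (2 : F) • v = ((Q e₁)⁻¹ * polar (⇑Q) e₁ v) • e₁ + ((Q e₂)⁻¹ * polar (⇑Q) e₂ v) • e₂ := by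
      have h2 : φ z v = v - ((Q e₁)⁻¹ * polar (⇑Q) e₁ v) • e₁ - ((Q e₂)⁻¹ * polar (⇑Q) e₂ v) • e₂ := hφz v
      rw [hv] at h2
      rw [two_smul]
      have h3 : v + v - (((Q e₁)⁻¹ * polar (⇑Q) e₁ v) • e₁ + ((Q e₂)⁻¹ * polar (⇑Q) e₂ v) • e₂) = 0 := by
        calc v + v - (((Q e₁)⁻¹ * polar (⇑Q) e₁ v) • e₁ + ((Q e₂)⁻¹ * polar (⇑Q) e₂ v) • e₂) =
            v + (v - ((Q e₁)⁻¹ * polar (⇑Q) e₁ v) • e₁ - ((Q e₂)⁻¹ * polar (⇑Q) e₂ v) • e₂) := by abel
          _ = v + -v := by rw [← h2]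
          _ = 0 := add_neg_cancel v
      exact sub_eq_zero.1 h3
    have h2 : (2 : F) • v ∈ fixS (φ y) := by
      rw [h1]
      exact (fixS (φ y)).add_mem ((fixS (φ y)).smul_mem _ he₁) ((fixS (φ y)).smul_mem _ he₂)
    have h3 : v ∈ fixS (φ y) := by
      have := (fixS (φ y)).smul_mem (2 : F)⁻¹ h2
      (simp only [smul_smul, inv_mul_cancel₀ h2F, one_smul] at this; assumption)
    exact h3
  · -- the dimension of the fixed space
    let f : (ι → F) →ₗ[F] (F × F) :=
      { toFun := fun v => (polar (⇑Q) e₁ v, polar (⇑Q) e₂ v)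
        map_add' := fun v v' => by
          simp only [QuadraticMap.polar_add_right, QuadraticMap.polar_add_right]; rfl
        map_smul' := fun c v => by
          rw [QuadraticMap.polar_smul_right, QuadraticMap.polar_smul_right]; rfl }
    have hker : fixS (φ z) = LinearMap.ker f := by
      ext v
      rw [LinearMap.mem_ker]
      constructor
      · intro hv
        have h1 : φ z v = v := hv
        have h2 := congrArg (polar (⇑Q) e₁) h1
        have h3 := congrArg (polar (⇑Q) e₂) h1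
        (rewrite [hφz, QuadraticMap.polar_sub_right] at h2; simp only [QuadraticMap.polar_sub_right] at h2; (conv at h2 => enter [@2, @5, @6]; rw [QuadraticMap.polar_smul_right]); simp only [QuadraticMap.polar_smul_right] at h2; rewrite [h12, smul_zero, sub_zero, Reflection.polar_self', smul_eq_mul] at h2)
        rw [hφz, QuadraticMap.polar_sub_right, QuadraticMap.polar_sub_right, QuadraticMap.polar_smul_right,
          QuadraticMap.polar_smul_right, h21, smul_zero, sub_zero, Reflection.polar_self',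
          smul_eq_mul] at h3
        have h4 : 2 * polar (⇑Q) e₁ v = 0 := by
          have h5 : (Q e₁)⁻¹ * polar (⇑Q) e₁ v * (2 * Q e₁) = 2 * polar (⇑Q) e₁ v := by field_simp
          rw [h5] at h2
          linear_combination -h2
        have h5 : 2 * polar (⇑Q) e₂ v = 0 := by
          have h6 : (Q e₂)⁻¹ * polar (⇑Q) e₂ v * (2 * Q e₂) = 2 * polar (⇑Q) e₂ v := by field_simp
          rw [h6] at h3
          linear_combination -h3
        exact Prod.ext ((mul_eq_zero.1 h4).resolve_left h2F) ((mul_eq_zero.1 h5).resolve_left h2F)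
      · intro hv
        have h1 : polar (⇑Q) e₁ v = 0 := congrArg Prod.fst hv
        have h2 : polar (⇑Q) e₂ v = 0 := congrArg Prod.snd hv
        show φ z v = v
        rw [hφz, h1, h2, mul_zero, mul_zero, zero_smul, zero_smul, sub_zero, sub_zero]
    have hsurj : LinearMap.range f = ⊤ := by
      rw [LinearMap.range_eq_top]
      rintro ⟨s, t⟩
      have hp₂ : polar (⇑Q) e₂ e₂ ≠ 0 := by
        rw [Reflection.polar_self']
        exact mul_ne_zero h2F hQ₂
      refine ⟨(s / polar (⇑Q) e₁ e₁) • e₁ + (t / polar (⇑Q) e₂ e₂) • e₂, Prod.ext ?_ ?_⟩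
      · show polar (⇑Q) e₁ _ = s
        rw [QuadraticMap.polar_add_right, QuadraticMap.polar_smul_right, QuadraticMap.polar_smul_right, h12, smul_zero,
          add_zero, smul_eq_mul, div_mul_cancel₀ _ hp₁]
      · show polar (⇑Q) e₂ _ = t
        rw [QuadraticMap.polar_add_right, QuadraticMap.polar_smul_right, QuadraticMap.polar_smul_right, h21, smul_zero,
          zero_add, smul_eq_mul, div_mul_cancel₀ _ hp₂]
    have h1 := LinearMap.finrank_range_add_finrank_ker f
    ((conv at h1 => enter [@2, @5]; rw [hsurj]); rewrite [finrank_top, finrank_pi_fin, ← hker] at h1; simp only [Module.finrank_prod] at h1; simp only [Module.finrank_self] at h1)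
    omega

end Gen

section Small

attribute [local instance high] grpGG mulGG oneGG invGG

/-- **The involution.** -/
theorem exists_z (hF : Fintype.card F = 3) {y : GG F} (hy : orderOf y = 7) :
    ∃ z : GG F, z * z = 1 ∧ y * z = z * y ∧ (∀ v, rep F z v = -v → rep F y v = v) ∧
      finrank F (fixS (rep F z)) = 6 := by
  classical
  have h2F := two_ne hF
  have hp : Nat.Prime 7 := by norm_num
  set φ := rep F with hφdef
  have hφ : Function.Injective φ := matRep_injective (omHom_injective _)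
  have hφQ : ∀ g v, quadPlus 4 F (φ g v) = quadPlus 4 F v := fun g v => omHom_preserves _ g v
  have hφB : ∀ g u v, polar (⇑(quadPlus 4 F)) (φ g u) (φ g v) = polar (⇑(quadPlus 4 F)) u v := fun g u v => omHom_polar _ g u v
  have hpF : ¬ 7 ∣ Fintype.card F := by rw [hF]; norm_num
  have hord : orderOf ((Fintype.card F : ℕ) : ZMod 7) = 6 := by rw [hF, ord_seven_three]
  have hx : φ y ^ 7 ^ 1 = 1 := by rw [pow_one, ← map_pow, ← hy, pow_orderOf_eq_one, map_one]
  have hx1 : φ y ≠ 1 := by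
    intro h
    have h1 : y = 1 := hφ (by rw [h, map_one])
    rw [h1, orderOf_one] at hy
    norm_num at hy
  have hC : finrank F (fixS (φ y)) = 2 := by
    have := finrank_fixS_add hp hpF hx hx1 hord (by rw [finrank_V]; norm_num)
    rw [finrank_V] at this
    omega
  have han : ∀ u ∈ fixS (φ y), quadPlus 4 F u = 0 → u = 0 := fun u hu h =>
    aniso hF (by norm_num) hp (by norm_num) ord_seven_three hx hx1 (fun v => hφQ y v) hu h
  -- the two vectors
  obtain ⟨e₁, he₁, he₁0⟩ : ∃ e ∈ fixS (φ y), e ≠ 0 := by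
    by_contra hcon
    push Not at hcon
    have : fixS (φ y) = ⊥ := (Submodule.eq_bot_iff _).2 hcon
    rw [this, finrank_bot] at hC
    norm_num at hC
  have hQ₁ : quadPlus 4 F e₁ ≠ 0 := fun h => he₁0 (han e₁ he₁ h)
  have hp₁ : polar (⇑(quadPlus 4 F)) e₁ e₁ ≠ 0 := by
    rw [Reflection.polar_self']
    exact mul_ne_zero h2F hQ₁
  obtain ⟨w, hw, hw1⟩ : ∃ w ∈ fixS (φ y), w ∉ Submodule.span F {e₁} := by
    by_contra hcon
    push Not at hcon
    have h1 := Submodule.finrank_mono (show fixS (φ y) ≤ Submodule.span F {e₁} from hcon)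
    rw [hC, finrank_span_singleton he₁0] at h1
    norm_num at h1
  set e₂ : Fin 4 ⊕ Fin 4 → F := w - (polar (⇑(quadPlus 4 F)) e₁ w / polar (⇑(quadPlus 4 F)) e₁ e₁) • e₁ with he₂def
  have he₂ : e₂ ∈ fixS (φ y) := (fixS (φ y)).sub_mem hw ((fixS (φ y)).smul_mem _ he₁)
  have he₂0 : e₂ ≠ 0 := by
    intro h
    apply hw1
    rw [he₂def, sub_eq_zero] at h
    rw [h]
    exact Submodule.smul_mem _ _ (Submodule.mem_span_singleton_self e₁)
  have h12 : polar (⇑(quadPlus 4 F)) e₁ e₂ = 0 := by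
    rw [he₂def, QuadraticMap.polar_sub_right, QuadraticMap.polar_smul_right, smul_eq_mul, div_mul_cancel₀ _ hp₁,
      sub_self]
  have hQ₂ : quadPlus 4 F e₂ ≠ 0 := fun h => he₂0 (han e₂ he₂ h)
  have hQQ : quadPlus 4 F e₁ = quadPlus 4 F e₂ := by
    rcases eq_or_neg hF hQ₁ hQ₂ with h | h
    · exact h
    · exfalso
      have h1 : quadPlus 4 F (e₁ + e₂) = 0 := by
        rw [QuadraticMap.map_add (quadPlus 4 F), h12, h]; ring
      have h2 := han _ ((fixS (φ y)).add_mem he₁ he₂) h1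
      have h3 : e₂ = -e₁ := by
        rw [eq_neg_iff_add_eq_zero, add_comm]; exact h2
      rw [h3, QuadraticMap.polar_neg_right, neg_eq_zero] at h12
      exact hp₁ h12
  obtain ⟨z, h1, h2, h3, h4⟩ := exists_z_gen h2F (y := y) he₁ he₂ hQ₁ hQ₂ hQQ h12
  refine ⟨z, h1, h2, h3, ?_⟩
  have h5 : Fintype.card (Fin 4 ⊕ Fin 4) = 8 := by simp
  simp only [h5] at h4
  exact Nat.add_right_cancel (h4.trans (by norm_num : (8 : ℕ) = 6 + 2))

theorem card_pomega (hF : Fintype.card F = 3) :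
    Nat.card (Cfsg.POmega F (⇑(quadPlus 4 F))) = 4952179814400 := by
  have h1 := Cfsg.Agent.S0293.result hF 4 le_rfl
  rw [← coe_quadPlus] at h1
  have e1 : Nat.gcd 4 (3 ^ 4 - 1) = 4 := by norm_num
  rw [e1] at h1
  simp only [Finset.prod_range_succ, Finset.prod_range_zero] at h1
  norm_num only [] at h1
  omega

theorem iso_plus : ∃ u : Fin 4 ⊕ Fin 4 → F, u ≠ 0 ∧ quadPlus 4 F u = 0 := quadPlus_isotropic (by norm_num)

theorem card_omega (hF : Fintype.card F = 3) : Nat.card (GG F) =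
    4952179814400 * Nat.card (Subgroup.center (GG F)) := by
  rw [← card_pomega hF]
  exact Subgroup.card_eq_card_quotient_mul_card_subgroup _

/-- prime powers dividing `|Ω|` -/
theorem pow_dvd (hF : Fintype.card F = 3) {t k : ℕ} (ht : t.Prime) (ht2 : t ≠ 2)
    (h : t ^ k ∣ Nat.card (GG F)) : t ^ k ∣ 4952179814400 := by
  rw [card_omega hF] at h
  have h1 := not_dvd_center_omega (F := F) (Q := quadPlus 4 F) quadPlus_nondegenerate (by simp) iso_plus ht ht2
  exact (Nat.Coprime.pow_left k ((Nat.Prime.coprime_iff_not_dvd ht).2 h1)).dvd_of_dvd_mul_right h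

theorem omega_facts (hF : Fintype.card F = 3) : ¬ 7 ∣ Fintype.card F ∧
    orderOf ((Fintype.card F : ℕ) : ZMod 7) = 6 ∧
    finrank F (Fin 4 ⊕ Fin 4 → F) < 2 * orderOf ((Fintype.card F : ℕ) : ZMod 7) := by
  have hord : orderOf ((Fintype.card F : ℕ) : ZMod 7) = 6 := by rw [hF, ord_seven_three]
  refine ⟨by rw [hF]; norm_num, hord, ?_⟩
  rw [finrank_V, hord]; norm_num

theorem rep_injective : Function.Injective (rep F) := matRep_injective (omHom_injective _)

/-- the `t`-groups, `t ≠ 2, 3, 7` -/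
theorem cent_big (hF : Fintype.card F = 3) {y : GG F} (hy : orderOf y = 7) {t : ℕ}
    (ht : t.Prime) (ht7 : t ≠ 7) (ht2 : t ≠ 2) (ht3 : t ≠ 3) {T : Subgroup (GG F)}
    (hT : IsPGroup t T) (hyT : ∀ u ∈ T, y * u * y⁻¹ ∈ T) : ∀ u ∈ T, y * u = u * y := by
  have hp : Nat.Prime 7 := by norm_num
  have htf : Fact t.Prime := ⟨ht⟩
  obtain ⟨k, hk⟩ := IsPGroup.iff_card.1 hT
  refine cent_of_order hp hy ht ht7 hk hyT ?_
  intro j hj hjk
  have h1 : t ^ k ∣ 2 ^ 12 * 3 ^ 12 * 5 ^ 2 * 7 * 13 := by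
    have h0 : t ^ k ∣ Nat.card (GG F) := hk ▸ Subgroup.card_subgroup_dvd_card T
    have := pow_dvd hF ht ht2 h0
    rwa [show 2 ^ 12 * 3 ^ 12 * 5 ^ 2 * 7 * 13 = 4952179814400 by norm_num]
  have h2 : t ^ j ∣ 2 ^ 12 * 3 ^ 12 * 5 ^ 2 * 7 * 13 := (pow_dvd_pow t hjk).trans h1
  have htd : t ∣ 2 ^ 12 * 3 ^ 12 * 5 ^ 2 * 7 * 13 := (dvd_pow_self t (by omega)).trans h2
  have ht5 : t = 5 ∨ t = 13 := by
    have hpp : ∀ {a : ℕ}, a.Prime → ∀ n, t ∣ a ^ n → t = a := fun ha n h =>
      (Nat.prime_dvd_prime_iff_eq ht ha).1 (ht.dvd_of_dvd_pow h)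
    rcases (ht.dvd_mul).1 htd with h | h
    · rcases (ht.dvd_mul).1 h with h | h
      · rcases (ht.dvd_mul).1 h with h | h
        · rcases (ht.dvd_mul).1 h with h | h
          · exact absurd (hpp Nat.prime_two _ h) ht2
          · exact absurd (hpp Nat.prime_three _ h) ht3
        · exact Or.inl (hpp Nat.prime_five _ h)
      · exact absurd ((Nat.prime_dvd_prime_iff_eq ht hp).1 h) ht7
    · exact Or.inr ((Nat.prime_dvd_prime_iff_eq ht (by norm_num)).1 h)
  clear h1 htd
  rcases ht5 with rfl | rfl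
  · have hj2 : j ≤ 2 := by
      by_contra h
      have h1 : 5 ^ 3 ∣ 2 ^ 12 * 3 ^ 12 * 5 ^ 2 * 7 * 13 := (pow_dvd_pow 5 (by omega)).trans h2
      revert h1
      norm_num
    clear h2
    interval_cases j <;> norm_num
  · have hj2 : j ≤ 1 := by
      by_contra h
      have h1 : 13 ^ 2 ∣ 2 ^ 12 * 3 ^ 12 * 5 ^ 2 * 7 * 13 := (pow_dvd_pow 13 (by omega)).trans h2
      revert h1
      norm_num
    clear h2
    interval_cases j; norm_num

/-- **Solvable subgroups containing `y z`.** -/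
theorem elc_omega (hF : Fintype.card F = 3) {y z : GG F} (hy : orderOf y = 7)
    (hzz : z * z = 1) (hyz : y * z = z * y) (hV : ∀ v, rep F z v = -v → rep F y v = v)
    (hd : finrank F (fixS (rep F z)) = 6) : Elc 7 (y * z) y := by
  have hp : Nat.Prime 7 := by norm_num
  obtain ⟨hpF, hord, h2e⟩ := omega_facts hF
  refine elc_of hp (by norm_num) hy hzz hyz ?_ (commuting_of_rep (rep F) rep_injective hp hpF h2e)
  intro M hM hyM hzM t ht ht7 T hTM hTn hT
  by_cases ht2 : t = 2
  · subst ht2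
    refine cent_two (rep F) rep_injective hp (by norm_num) (two_ne hF) hy hzz hyz hV
      (Or.inr ⟨by rw [hd], ?_⟩) hT (hTn y hyM) (hTn z hzM)
    rw [hd]
    rintro ⟨k, hk⟩
    have hk3 : k < 3 := by
      by_contra hcon
      have : 2 ^ 3 ≤ 2 ^ k := Nat.pow_le_pow_right (by norm_num) (by omega)
      omega
    interval_cases k <;> omega
  by_cases ht3 : t = 3
  · subst ht3
    have h1 : T = ⊥ := core_plus (m := 4) (q := 3) (a := 1) (y := y) hF (by norm_num) hp (by norm_num) le_rfl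
      ord_seven_three (by rw [hy, pow_one]) M hM hyM 3 (by norm_num) (by rw [hF]) T hTM hTn hT
    intro u hu
    rw [h1, Subgroup.mem_bot] at hu
    rw [hu, mul_one, one_mul]
  · exact cent_big hF hy ht ht7 ht2 ht3 hT (hTn y hyM)

/-- **`AS2` for `PΩ⁺₈(3)`.** -/
theorem as2_three (hF : Fintype.card F = 3) [IsSimpleGroup (Cfsg.POmega F (⇑(quadPlus 4 F)))]
    (hna : ¬ IsMulCommutative (Cfsg.POmega F (⇑(quadPlus 4 F)))) : AS2 (Cfsg.POmega F (⇑(quadPlus 4 F))) := by
  have hp : Nat.Prime 7 := by norm_num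
  have : Fact (Nat.Prime 7) := ⟨hp⟩
  obtain ⟨hpF, hord, h2e⟩ := omega_facts hF
  have hcard := card_pomega hF
  have hcz : ¬ 7 ∣ Nat.card (Subgroup.center (GG F)) :=
    not_dvd_center_omega (F := F) (Q := quadPlus 4 F) quadPlus_nondegenerate (by simp) iso_plus hp (by norm_num)
  have hdv : 7 ∣ Nat.card (GG F) := by
    rw [card_omega hF]
    exact Dvd.dvd.mul_right (by norm_num) _
  obtain ⟨y, hy⟩ := exists_prime_orderOf_dvd_card' 7 hdv
  obtain ⟨z, hzz, hyz, hV, hd⟩ := exists_z hF hy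
  have hel := elc_omega hF hy hzz hyz hV hd
  obtain ⟨hoy, hmem, huel⟩ := row_of_elc hp (by norm_num) hy hzz hyz hel hcz
  have hout : ¬ 7 ∣ Nat.card (Cfsg.Out (Cfsg.POmega F (⇑(quadPlus 4 F)))) := by
    have hf3 : Fact (Nat.Prime 3) := ⟨Nat.prime_three⟩
    have h1 := H149.PGO.card_out_plus (F := F) (p := 3) (f := 1) (m := 4) le_rfl (by rw [hF, pow_one]) le_rfl
    rw [← coe_quadPlus] at h1
    intro h2
    have h3 := h2.trans h1
    revert h3
    norm_num
  have hr : H479.AS.GRow (Cfsg.POmega F (⇑(quadPlus 4 F))) 7 _ _ :=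
    { hp := hp
      h5 := by norm_num
      ord := hoy
      mem := hmem
      su := huel
      full := by rw [hcard]; norm_num
      out := hout }
  refine H479.AS.of_lt_g hna hr (c := 448) (b := 351) ?_ ?_ (by norm_num)
  · have h1 := cent_quot hp hcz (c := (27 + 1) * 16) (fun w hw => ?_) _ hoy
    · have h2 : 0 < Nat.card (Subgroup.center (GG F)) := Nat.card_pos
      exact (Nat.le_mul_of_pos_right _ h2).trans h1
    · refine (cent_le (rep F) rep_injective (frm_polar quadPlus_nondegenerate)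
        (fun x y z => polar_add_left (quadPlus 4 F) x y z) (RingHom.id F) (fun c x y => ?_)
        (fun g u v => omHom_polar _ g u v) hp hpF h2e hw (Q := 27) (by rw [hord, hF]; norm_num)).trans
        (Nat.mul_le_mul_left _ (card_K1_plus (m := 4) (q := 3) hF (by norm_num) hp (by norm_num) ord_seven_three hw))
      show polar (⇑(quadPlus 4 F)) (c • x) y = c * polar (⇑(quadPlus 4 F)) x y
      rw [polar_smul_left, smul_eq_mul]
  · rw [coe_quadPlus]
    intro H hH
    have h1 := plus_three_index_ge hF (k := 3) le_rfl H hH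
    exact le_trans (by norm_num) h1

end Small

/-- **The row `PΩ⁺₈(3)`.** -/
theorem row {K : Type u} [Group K] [Finite K] [IsSimpleGroup K] (hna : ¬ IsMulCommutative K)
    (hF : Fintype.card F = 3) (e : K ≃* Cfsg.POmega F (Cfsg.quadFormPlus 4 F)) : AS2 K := by
  rw [← coe_quadPlus] at e
  have : IsSimpleGroup (Cfsg.POmega F (⇑(quadPlus 4 F))) := e.symm.isSimpleGroup
  refine AS2.congr e.symm (as2_three hF fun h => hna ⟨⟨fun a b => ?_⟩⟩)
  apply e.injective
  simp only [map_mul, map_mul]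
  exact h.is_comm.comm _ _

end Cfsg.Agent.H99.AS.OThree
end

-- part: H99/AS/OFive
section
/-!
# S3943, the row `PΩ⁺₈(5)` (helper99)

`y` of order 7, `z = r(e) r(f)` of order 3 on the anisotropic plane `C_V(y)`.
-/

set_option autoImplicit false
set_option linter.unusedSectionVars false

namespace Cfsg.Agent.H99.AS.OFive

open Module QuadraticMap Matrix Cfsg.Agent.H518.DghpFix Cfsg.Agent.H518.DghpPrim Cfsg.Agent.H518.DghpMat
  Cfsg.Agent.H518.SU Cfsg.Agent.LieClassical.OmegaReindex Cfsg.Agent.ClassicalGeometry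
  Cfsg.Agent.ClassicalGeometry.Reflection Cfsg.Agent.ClassicalGeometry.SpinorSign Cfsg.Agent.H99.AS
  Cfsg.Agent.H489.AS Cfsg.Agent.H500.AS Cfsg.Agent.H965.AS

open Cfsg.Agent.H99.AS.OThree (GG rep finrank_V rep_injective iso_plus)

universe u

variable {F : Type} [Field F] [Fintype F]

section Field

variable (hF : Fintype.card F = 5)
include hF

theorem five_zero : (5 : F) = 0 := by
  have h1 : ((Fintype.card F : ℕ) : F) = 0 := Nat.cast_card_eq_zero F
  rw [hF] at h1
  exact_mod_cast h1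

theorem two_ne : (2 : F) ≠ 0 := by
  intro h
  have h1 := five_zero hF
  have h2 : (1 : F) = 0 := by linear_combination h1 - 2 * h
  exact one_ne_zero h2

theorem three_ne : (3 : F) ≠ 0 := by
  intro h
  have h1 := five_zero hF
  have h2 : (1 : F) = 0 := by linear_combination 2 * h - h1
  exact one_ne_zero h2

theorem cases4 {a : F} (ha : a ≠ 0) : a = 1 ∨ a = -1 ∨ a = 2 ∨ a = -2 := by
  have h5 := five_zero hF
  have h1 := FiniteField.pow_card_sub_one_eq_one a ha
  rw [hF] at h1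
  have h2 : (a - 1) * ((a + 1) * ((a - 2) * (a + 2))) = 0 := by
    linear_combination h1 + (1 - a ^ 2) * h5
  rcases mul_eq_zero.1 h2 with h | h
  · exact Or.inl (sub_eq_zero.1 h)
  rcases mul_eq_zero.1 h with h | h
  · exact Or.inr (Or.inl (eq_neg_of_add_eq_zero_left h))
  rcases mul_eq_zero.1 h with h | h
  · exact Or.inr (Or.inr (Or.inl (sub_eq_zero.1 h)))
  · exact Or.inr (Or.inr (Or.inr (eq_neg_of_add_eq_zero_left h)))

theorem isSquare_iff {a : F} (ha : a ≠ 0) : IsSquare a ↔ a = 1 ∨ a = -1 := by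
  have h5 := five_zero hF
  constructor
  · rintro ⟨b, rfl⟩
    have hb : b ≠ 0 := fun h => ha (by rw [h, mul_zero])
    rcases cases4 hF hb with rfl | rfl | rfl | rfl
    · left; ring
    · left; ring
    · right; linear_combination h5
    · right; linear_combination h5
  · rintro (rfl | rfl)
    · exact ⟨1, by ring⟩
    · exact ⟨2, by linear_combination -h5⟩

/-- an anisotropic plane has a nonsquare discriminant -/
theorem aniso_val {a b : F} (ha : a ≠ 0) (hb : b ≠ 0) (h : ∀ t : F, a + t * t * b ≠ 0) : b = 2 * a ∨ b = -(2 * a) := by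
  have h5 := five_zero hF
  have hr : b / a ≠ 0 := div_ne_zero hb ha
  have hba : b = b / a * a := by rw [div_mul_cancel₀ b ha]
  rcases cases4 hF hr with h2 | h2 | h2 | h2
  · exfalso
    apply h 2
    rw [hba, h2]
    linear_combination a * h5
  · exfalso
    apply h 1
    rw [hba, h2]
    ring
  · left
    rw [hba, h2]
  · right
    rw [hba, h2]
    ring

end Field

theorem ord_seven_five : orderOf ((5 : ℕ) : ZMod 7) = 2 * (4 - 1) := by
  rw [orderOf_eq_iff (by norm_num)]
  refine ⟨by decide, ?_⟩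
  intro m hm h0
  have : m = 1 ∨ m = 2 ∨ m = 3 ∨ m = 4 ∨ m = 5 := by omega
  rcases this with rfl | rfl | rfl | rfl | rfl <;> decide

theorem omega_facts (hF : Fintype.card F = 5) : ¬ 7 ∣ Fintype.card F ∧
    orderOf ((Fintype.card F : ℕ) : ZMod 7) = 6 ∧
    finrank F (Fin 4 ⊕ Fin 4 → F) < 2 * orderOf ((Fintype.card F : ℕ) : ZMod 7) := by
  have hord : orderOf ((Fintype.card F : ℕ) : ZMod 7) = 6 := by rw [hF, ord_seven_five]
  refine ⟨by rw [hF]; norm_num, hord, ?_⟩
  rw [finrank_V, hord]; norm_num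

section Small

attribute [local instance high] OThree.grpGG OThree.mulGG OThree.oneGG OThree.invGG

/-- the form -/
abbrev Qf (F : Type) [Field F] : QuadraticForm F (Fin 4 ⊕ Fin 4 → F) := quadPlus 4 F

theorem rep_Q (g : GG F) (v : Fin 4 ⊕ Fin 4 → F) : Qf F (rep F g v) = Qf F v :=
  omHom_preserves _ g v

theorem rep_B (g : GG F) (u v : Fin 4 ⊕ Fin 4 → F) :
    polar (⇑(Qf F)) (rep F g u) (rep F g v) = polar (⇑(Qf F)) u v := omHom_polar _ g u v

section Y

variable (hF : Fintype.card F = 5) {y : GG F} (hy : orderOf y = 7)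
include hF hy

theorem y_pow : rep F y ^ 7 ^ 1 = 1 := by rw [pow_one, ← map_pow, ← hy, pow_orderOf_eq_one, map_one]

theorem y_ne : rep F y ≠ 1 := by
  intro h
  have h1 : y = 1 := rep_injective (by rw [h, map_one])
  rw [h1, orderOf_one] at hy
  norm_num at hy

theorem finrank_V2 : finrank F (fixS (rep F y)) = 2 := by
  have hp : Nat.Prime 7 := by norm_num
  obtain ⟨hpF, hord, -⟩ := omega_facts hF
  have := finrank_fixS_add hp hpF (y_pow hF hy) (y_ne hF hy) hord (by rw [finrank_V]; norm_num)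
  rw [finrank_V] at this
  omega

theorem aniso_V2 {u : Fin 4 ⊕ Fin 4 → F} (hu : u ∈ fixS (rep F y)) (h : Qf F u = 0) : u = 0 :=
  aniso hF (by norm_num) (by norm_num : Nat.Prime 7) (by norm_num) ord_seven_five (y_pow hF hy) (y_ne hF hy)
    (fun v => rep_Q y v) hu h

/-- the moved space -/
theorem finrank_V1 : finrank F (LinearMap.range (rep F y - 1)) = 6 := by
  have h1 := LinearMap.finrank_range_add_finrank_ker (rep F y - 1)
  have h2 : LinearMap.ker (rep F y - 1) = fixS (rep F y) := by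
    ext v
    rw [LinearMap.mem_ker, LinearMap.sub_apply, Module.End.one_apply, sub_eq_zero]
    exact Iff.rfl
  rw [h2, finrank_V2 hF hy, finrank_V] at h1
  omega

theorem V1_perp {u v : Fin 4 ⊕ Fin 4 → F} (hu : u ∈ LinearMap.range (rep F y - 1)) (hv : v ∈ fixS (rep F y)) :
    polar (⇑(Qf F)) u v = 0 := by
  obtain ⟨w, rfl⟩ := hu
  have hv' : rep F y v = v := hv
  rw [LinearMap.sub_apply, Module.End.one_apply, QuadraticMap.polar_sub_left]
  nth_rewrite 1 [← hv']
  rw [rep_B, sub_self]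

theorem inf_bot : LinearMap.range (rep F y - 1) ⊓ fixS (rep F y) = ⊥ := by
  rw [Submodule.eq_bot_iff]
  rintro v ⟨h1, h2⟩
  have h3 := V1_perp hF hy h1 h2
  rw [Reflection.polar_self'] at h3
  exact aniso_V2 hF hy h2 ((mul_eq_zero.1 h3).resolve_left (two_ne hF))

theorem sup_top : LinearMap.range (rep F y - 1) ⊔ fixS (rep F y) = ⊤ := by
  apply Submodule.eq_top_of_finrank_eq
  have h1 := Submodule.finrank_sup_add_finrank_inf_eq (LinearMap.range (rep F y - 1)) (fixS (rep F y))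
  ((conv at h1 => enter [@2, @6]; rw [inf_bot hF hy]); simp only [finrank_bot] at h1; simp only [finrank_V1 hF hy] at h1; simp only [finrank_V2 hF hy] at h1)
  rw [finrank_V]
  omega

/-- `V₁` is irreducible -/
theorem irr (W : Submodule F (Fin 4 ⊕ Fin 4 → F)) (hW : W ≤ LinearMap.range (rep F y - 1))
    (hWy : ∀ v ∈ W, rep F y v ∈ W) : W = ⊥ ∨ W = LinearMap.range (rep F y - 1) := by
  have hp : Nat.Prime 7 := by norm_num
  obtain ⟨hpF, hord, -⟩ := omega_facts hF
  have h1 := finrank_fix hp hpF (y_pow hF hy) W hWy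
  have h2 : W ⊓ fixS (rep F y) = ⊥ := by
    rw [eq_bot_iff, ← inf_bot hF hy]
    exact inf_le_inf_right _ hW
  rw [h2, finrank_bot, Nat.sub_zero, hord] at h1
  have h3 : finrank F W ≤ 6 := (Submodule.finrank_mono hW).trans (finrank_V1 hF hy).le
  obtain ⟨m, hm⟩ := h1
  rcases Nat.eq_zero_or_pos m with h | h
  · left
    rw [h, mul_zero] at hm
    exact Submodule.finrank_eq_zero.1 hm
  · right
    apply Submodule.eq_of_le_of_finrank_eq hW
    rw [finrank_V1 hF hy]
    omega

/-- an orthogonal basis of the plane -/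
theorem exists_basis : ∃ e₁ ∈ fixS (rep F y), ∃ e₂ ∈ fixS (rep F y), Qf F e₁ ≠ 0 ∧ Qf F e₂ ≠ 0 ∧
    polar (⇑(Qf F)) e₁ e₂ = 0 ∧ (Qf F e₂ = 2 * Qf F e₁ ∨ Qf F e₂ = -(2 * Qf F e₁)) := by
  have h2F := two_ne hF
  have hC := finrank_V2 hF hy
  have han : ∀ u ∈ fixS (rep F y), Qf F u = 0 → u = 0 := fun u hu h => aniso_V2 hF hy hu h
  obtain ⟨e₁, he₁, he₁0⟩ : ∃ e ∈ fixS (rep F y), e ≠ 0 := by
    by_contra hcon
    push Not at hcon
    have : fixS (rep F y) = ⊥ := (Submodule.eq_bot_iff _).2 hcon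
    rw [this, finrank_bot] at hC
    norm_num at hC
  have hQ₁ : Qf F e₁ ≠ 0 := fun h => he₁0 (han e₁ he₁ h)
  have hp₁ : polar (⇑(Qf F)) e₁ e₁ ≠ 0 := by
    rw [Reflection.polar_self']
    exact mul_ne_zero h2F hQ₁
  obtain ⟨w, hw, hw1⟩ : ∃ w ∈ fixS (rep F y), w ∉ Submodule.span F {e₁} := by
    by_contra hcon
    push Not at hcon
    have h1 := Submodule.finrank_mono (show fixS (rep F y) ≤ Submodule.span F {e₁} from hcon)
    rw [hC, finrank_span_singleton he₁0] at h1
    norm_num at h1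
  set e₂ : Fin 4 ⊕ Fin 4 → F := w - (polar (⇑(Qf F)) e₁ w / polar (⇑(Qf F)) e₁ e₁) • e₁ with he₂def
  have he₂ : e₂ ∈ fixS (rep F y) := (fixS (rep F y)).sub_mem hw ((fixS (rep F y)).smul_mem _ he₁)
  have he₂0 : e₂ ≠ 0 := by
    intro h
    apply hw1
    rw [he₂def, sub_eq_zero] at h
    rw [h]
    exact Submodule.smul_mem _ _ (Submodule.mem_span_singleton_self e₁)
  have h12 : polar (⇑(Qf F)) e₁ e₂ = 0 := by
    rw [he₂def, QuadraticMap.polar_sub_right, QuadraticMap.polar_smul_right, smul_eq_mul, div_mul_cancel₀ _ hp₁,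
      sub_self]
  have hQ₂ : Qf F e₂ ≠ 0 := fun h => he₂0 (han e₂ he₂ h)
  refine ⟨e₁, he₁, e₂, he₂, hQ₁, hQ₂, h12, aniso_val hF hQ₁ hQ₂ ?_⟩
  intro t ht
  have h1 : Qf F (e₁ + t • e₂) = 0 := by
    rw [QuadraticMap.map_add (Qf F), QuadraticMap.polar_smul_right, h12, smul_zero, add_zero, QuadraticMap.map_smul,
      smul_eq_mul, ht]
  have h2 := han _ ((fixS (rep F y)).add_mem he₁ ((fixS (rep F y)).smul_mem t he₂)) h1
  have h3 : polar (⇑(Qf F)) e₁ (e₁ + t • e₂) = 0 := by rw [h2, QuadraticMap.polar_zero_right]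
  simp only [QuadraticMap.polar_add_right, QuadraticMap.polar_smul_right, h12, smul_zero, add_zero] at h3
  exact hp₁ h3

set_option maxHeartbeats 1000000 in
/-- the product of two reflections in vectors `e`, `f` with `Q(e) = Q(f) = -(e, f)` -/
theorem exists_z_of {e f : Fin 4 ⊕ Fin 4 → F} (he : e ∈ fixS (rep F y)) (hf : f ∈ fixS (rep F y))
    (hQe : Qf F e ≠ 0) (hQf : Qf F f = Qf F e) (hef : polar (⇑(Qf F)) e f = -Qf F e) :
    ∃ z : GG F, z ^ 3 = 1 ∧ y * z = z * y ∧
      (∀ v, rep F y (rep F z v - v) = rep F z v - v) ∧ finrank F (fixS (rep F z)) = 6 := by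
  classical
  have h2F := two_ne hF
  have h3F := three_ne hF
  have hQf0 : Qf F f ≠ 0 := by rw [hQf]; exact hQe
  obtain ⟨a, ha, hconj⟩ := exists_conj_reflIso h2F (Qf F) hQe hQf0 hQf.symm
  set r₁ := reflIso (Qf F) e hQe with hr₁
  set r₂ := reflIso (Qf F) f hQf0 with hr₂
  set r := reflIso (Qf F) a ha with hr
  have hmem : r₁ * r₂ ∈ Cfsg.Omega F (⇑(Qf F)) := by
    have h1 := Subgroup.commutator_mem_commutator (Subgroup.mem_top r₁) (Subgroup.mem_top r)
    (rewrite [commutatorElement_def] at h1; (conv at h1 => enter [@5, @5, @6]; rw [reflIso_inv]); (conv at h1 => enter [@5, @6]; rw [reflIso_inv]); (conv at h1 => enter [@5]; rw [mul_assoc]); rewrite [mul_assoc] at h1)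
    rw [hconj, mul_assoc r]
    exact h1
  set z : GG F := ⟨r₁ * r₂, hmem⟩ with hz
  have hR : ∀ (e : Fin 4 ⊕ Fin 4 → F) (he : Qf F e ≠ 0) (v : Fin 4 ⊕ Fin 4 → F),
      ((reflIso (Qf F) e he : Matrix.GeneralLinearGroup (Fin 4 ⊕ Fin 4) F) :
        Matrix (Fin 4 ⊕ Fin 4) (Fin 4 ⊕ Fin 4) F) *ᵥ v =
        v - ((Qf F e)⁻¹ * polar (⇑(Qf F)) e v) • e := fun e he v => by
    rw [coe_reflIso, reflectionMatrix_mulVec]
  obtain ⟨α, hα⟩ : ∃ α : (Fin 4 ⊕ Fin 4 → F) → F, ∀ v, α v = (Qf F e)⁻¹ * polar (⇑(Qf F)) e v := ⟨_, fun _ => rfl⟩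
  obtain ⟨β, hβ⟩ : ∃ β : (Fin 4 ⊕ Fin 4 → F) → F, ∀ v, β v = (Qf F e)⁻¹ * polar (⇑(Qf F)) f v := ⟨_, fun _ => rfl⟩
  have hφz : ∀ v, rep F z v = v - α v • e - β v • (e + f) := by
    intro v
    have h1 : rep F z v = ((r₁ * r₂ : Cfsg.isometryGroup F (⇑(Qf F))) :
        Matrix.GeneralLinearGroup (Fin 4 ⊕ Fin 4) F).1 *ᵥ v := rfl
    rw [h1, coe_mul_mulVec, hR, hR, QuadraticMap.polar_sub_right, QuadraticMap.polar_smul_right, hef, hQf]
    have h2 : (Qf F e)⁻¹ * (polar (⇑(Qf F)) e v - ((Qf F e)⁻¹ * polar (⇑(Qf F)) f v) • -Qf F e) = α v + β v := by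
      rw [hα v, hβ v, smul_eq_mul]
      field_simp
      ring
    rw [h2, ← hβ v, add_smul, smul_add]
    abel
  have hfe : polar (⇑(Qf F)) f e = -Qf F e := by rw [polar_comm, hef]
  have αe : α e = 2 := by
    rw [hα, Reflection.polar_self']; field_simp
  have αf : α f = -1 := by
    rw [hα, hef]; field_simp
  have βe : β e = -1 := by
    rw [hβ, hfe]; field_simp
  have βf : β f = 2 := by
    rw [hβ, Reflection.polar_self', hQf]; field_simp
  have ze : rep F z e = f := by
    rw [hφz, αe, βe, two_smul, neg_smul, one_smul]; abel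
  have zf : rep F z f = -(e + f) := by
    rw [hφz, αf, βf, two_smul, neg_smul, one_smul]; abel
  have hz3 : z ^ 3 = 1 := by
    apply rep_injective
    refine LinearMap.ext fun v => ?_
    rw [map_pow, map_one, pow_succ, pow_two, Module.End.mul_apply, Module.End.mul_apply, Module.End.one_apply]
    have e1 : rep F z v = v - α v • e - β v • (e + f) := hφz v
    have e2 : rep F z (rep F z v) = v - β v • f - α v • (e + f) := by
      rw [e1, map_sub, map_sub, map_smul, map_smul, map_add, ze, zf, e1, neg_add, smul_add (β v) f, smul_add (β v) e f,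
        smul_add (α v) e f, smul_add, smul_neg, smul_neg]
      abel
    rw [e2, map_sub, map_sub, map_smul, map_smul, map_add, ze, zf, e1]
    rw [smul_neg, neg_add, smul_add (α v) f, smul_add (α v) (-e) (-f), smul_neg, smul_neg]
    abel
  have hye : ∀ e ∈ fixS (rep F y), ∀ v, polar (⇑(Qf F)) e (rep F y v) = polar (⇑(Qf F)) e v := by
    intro e he v
    have h1 : rep F y e = e := he
    calc polar (⇑(Qf F)) e (rep F y v) = polar (⇑(Qf F)) (rep F y e) (rep F y v) := by rw [h1]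
      _ = polar (⇑(Qf F)) e v := rep_B y e v
  have hmv : ∀ v, rep F z v - v ∈ fixS (rep F y) := by
    intro v
    rw [hφz v]
    have : v - α v • e - β v • (e + f) - v = -(α v • e + β v • (e + f)) := by abel
    rw [this]
    exact (fixS (rep F y)).neg_mem ((fixS (rep F y)).add_mem ((fixS (rep F y)).smul_mem _ he)
      ((fixS (rep F y)).smul_mem _ ((fixS (rep F y)).add_mem he hf)))
  refine ⟨z, hz3, ?_, fun v => hmv v, ?_⟩
  · apply rep_injective
    refine LinearMap.ext fun v => ?_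
    simp only [map_mul, map_mul, Module.End.mul_apply, Module.End.mul_apply, hφz v, hφz (rep F y v), map_sub, map_sub,
      map_smul, map_smul, map_add, show rep F y e = e from he, show rep F y f = f from hf]
    have e1 : α (rep F y v) = α v := by
      rw [hα, hα, hye e he]
    have e2 : β (rep F y v) = β v := by
      rw [hβ, hβ, hye f hf]
    rw [e1, e2]
  · -- the dimension of the fixed space
    let g : (Fin 4 ⊕ Fin 4 → F) →ₗ[F] (F × F) :=
      { toFun := fun v => (polar (⇑(Qf F)) e v, polar (⇑(Qf F)) f v)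
        map_add' := fun v v' => by
          simp only [QuadraticMap.polar_add_right, QuadraticMap.polar_add_right]; rfl
        map_smul' := fun c v => by
          rw [QuadraticMap.polar_smul_right, QuadraticMap.polar_smul_right]; rfl }
    have hker : fixS (rep F z) = LinearMap.ker g := by
      ext v
      rw [LinearMap.mem_ker]
      constructor
      · intro hv
        have h1 : rep F z v = v := hv
        have h2 : α v • e + β v • (e + f) = 0 := by
          have h3 : rep F z v - v = 0 := sub_eq_zero.2 h1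
          rw [hφz v] at h3
          have h4 : v - α v • e - β v • (e + f) - v = -(α v • e + β v • (e + f)) := by abel
          rw [h4] at h3
          exact neg_eq_zero.1 h3
        have h3 : α (α v • e + β v • (e + f)) = 0 := by
          rw [h2, hα, QuadraticMap.polar_zero_right, mul_zero]
        have h4 : β (α v • e + β v • (e + f)) = 0 := by
          rw [h2, hβ, QuadraticMap.polar_zero_right, mul_zero]
        have hαl : ∀ (c d : F) (x w : Fin 4 ⊕ Fin 4 → F), α (c • x + d • w) = c * α x + d * α w := fun c d x w => by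
          simp only [hα, hα, hα, QuadraticMap.polar_add_right, QuadraticMap.polar_smul_right, QuadraticMap.polar_smul_right, smul_eq_mul,
            smul_eq_mul]
          ring
        have hβl : ∀ (c d : F) (x w : Fin 4 ⊕ Fin 4 → F), β (c • x + d • w) = c * β x + d * β w := fun c d x w => by
          simp only [hβ, hβ, hβ, QuadraticMap.polar_add_right, QuadraticMap.polar_smul_right, QuadraticMap.polar_smul_right, smul_eq_mul,
            smul_eq_mul]
          ring
        have hαs : α (e + f) = 1 := by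
          have := hαl 1 1 e f
          rw [one_smul, one_smul, αe, αf] at this
          rw [this]; ring
        have hβs : β (e + f) = 1 := by
          have := hβl 1 1 e f
          rw [one_smul, one_smul, βe, βf] at this
          rw [this]; ring
        rw [hαl, αe, hαs] at h3
        rw [hβl, βe, hβs] at h4
        have h5 : 3 * α v = 0 := by linear_combination h3 - h4
        have h6 : α v = 0 := (mul_eq_zero.1 h5).resolve_left h3F
        have h7 : β v = 0 := by rw [h6] at h4; linear_combination h4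
        have hQi : (Qf F e)⁻¹ ≠ 0 := inv_ne_zero hQe
        rw [hα] at h6
        rw [hβ] at h7
        exact Prod.ext ((mul_eq_zero.1 h6).resolve_left hQi) ((mul_eq_zero.1 h7).resolve_left hQi)
      · intro hv
        have h1 : polar (⇑(Qf F)) e v = 0 := congrArg Prod.fst hv
        have h2 : polar (⇑(Qf F)) f v = 0 := congrArg Prod.snd hv
        show rep F z v = v
        have h3 : α v = 0 := by
          rw [hα, h1, mul_zero]
        have h4 : β v = 0 := by
          rw [hβ, h2, mul_zero]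
        rw [hφz, h3, h4, zero_smul, zero_smul, sub_zero, sub_zero]
    have hsurj : LinearMap.range g = ⊤ := by
      rw [LinearMap.range_eq_top]
      rintro ⟨s, t⟩
      have h3a : (3 : F) * Qf F e ≠ 0 := mul_ne_zero h3F hQe
      refine ⟨((2 * s + t) / (3 * Qf F e)) • e + ((s + 2 * t) / (3 * Qf F e)) • f, Prod.ext ?_ ?_⟩
      · show polar (⇑(Qf F)) e _ = s
        simp only [QuadraticMap.polar_add_right, QuadraticMap.polar_smul_right, QuadraticMap.polar_smul_right, hef,
          Reflection.polar_self', smul_eq_mul, smul_eq_mul]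
        field_simp
        ring
      · show polar (⇑(Qf F)) f _ = t
        simp only [QuadraticMap.polar_add_right, QuadraticMap.polar_smul_right, QuadraticMap.polar_smul_right, hfe,
          Reflection.polar_self', hQf, smul_eq_mul, smul_eq_mul]
        field_simp
        ring
    have h1 := LinearMap.finrank_range_add_finrank_ker g
    rw [hsurj, finrank_top, finrank_V, ← hker, Module.finrank_prod, Module.finrank_self] at h1
    omega

theorem exists_z : ∃ z : GG F, z ^ 3 = 1 ∧ y * z = z * y ∧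
      (∀ v, rep F y (rep F z v - v) = rep F z v - v) ∧ finrank F (fixS (rep F z)) = 6 := by
  have h5 := five_zero hF
  obtain ⟨e, he, w, hw, hQe, hQw, hew, hd⟩ := exists_basis hF hy
  obtain ⟨b, hb⟩ : ∃ b : F, 4 * Qf F e + b * b * Qf F w = Qf F e := by
    rcases hd with h | h
    · exact ⟨1, by rw [h]; linear_combination Qf F e * h5⟩
    · exact ⟨2, by rw [h]; linear_combination (-Qf F e) * h5⟩
  refine exists_z_of hF hy (e := e) (f := (2 : F) • e + b • w) he
    ((fixS (rep F y)).add_mem ((fixS (rep F y)).smul_mem _ he) ((fixS (rep F y)).smul_mem _ hw)) hQe ?_ ?_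
  · rw [QuadraticMap.map_add (Qf F), QuadraticMap.map_smul, QuadraticMap.map_smul, QuadraticMap.polar_smul_left,
      QuadraticMap.polar_smul_right, hew, smul_zero, smul_zero, add_zero, smul_eq_mul, smul_eq_mul]
    linear_combination hb
  · rw [QuadraticMap.polar_add_right, QuadraticMap.polar_smul_right, QuadraticMap.polar_smul_right, hew, smul_zero,
      add_zero, Reflection.polar_self', smul_eq_mul]
    linear_combination Qf F e * h5

/-- vectors of the plane orthogonal to a basis -/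
theorem eq_zero_of_perp {e₁ e₂ : Fin 4 ⊕ Fin 4 → F} (he₁ : e₁ ∈ fixS (rep F y)) (he₂ : e₂ ∈ fixS (rep F y))
    (hQ₁ : Qf F e₁ ≠ 0) (hQ₂ : Qf F e₂ ≠ 0) (h12 : polar (⇑(Qf F)) e₁ e₂ = 0) {v : Fin 4 ⊕ Fin 4 → F}
    (hv : v ∈ fixS (rep F y)) (h1 : polar (⇑(Qf F)) e₁ v = 0) (h2 : polar (⇑(Qf F)) e₂ v = 0) : v = 0 := by
  have h2F := two_ne hF
  let g : fixS (rep F y) →ₗ[F] (F × F) :=
    { toFun := fun v => (polar (⇑(Qf F)) e₁ v, polar (⇑(Qf F)) e₂ v)
      map_add' := fun v v' => by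
        show (polar (⇑(Qf F)) e₁ ((v : Fin 4 ⊕ Fin 4 → F) + v'), polar (⇑(Qf F)) e₂ ((v : Fin 4 ⊕ Fin 4 → F) + v')) = _
        simp only [QuadraticMap.polar_add_right, QuadraticMap.polar_add_right]; rfl
      map_smul' := fun c v => by
        show (polar (⇑(Qf F)) e₁ (c • (v : Fin 4 ⊕ Fin 4 → F)), polar (⇑(Qf F)) e₂ (c • (v : Fin 4 ⊕ Fin 4 → F))) = _
        simp only [QuadraticMap.polar_smul_right, QuadraticMap.polar_smul_right]; rfl }
  have h21 : polar (⇑(Qf F)) e₂ e₁ = 0 := by rw [polar_comm, h12]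
  have hp₁ : polar (⇑(Qf F)) e₁ e₁ ≠ 0 := by
    rw [Reflection.polar_self']
    exact mul_ne_zero h2F hQ₁
  have hp₂ : polar (⇑(Qf F)) e₂ e₂ ≠ 0 := by
    rw [Reflection.polar_self']
    exact mul_ne_zero h2F hQ₂
  have hsurj : Function.Surjective g := by
    rintro ⟨s, t⟩
    refine ⟨⟨(s / polar (⇑(Qf F)) e₁ e₁) • e₁ + (t / polar (⇑(Qf F)) e₂ e₂) • e₂,
      (fixS (rep F y)).add_mem ((fixS (rep F y)).smul_mem _ he₁) ((fixS (rep F y)).smul_mem _ he₂)⟩, Prod.ext ?_ ?_⟩
    · show polar (⇑(Qf F)) e₁ _ = s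
      rw [QuadraticMap.polar_add_right, QuadraticMap.polar_smul_right, QuadraticMap.polar_smul_right, h12, smul_zero,
        add_zero, smul_eq_mul, div_mul_cancel₀ _ hp₁]
    · show polar (⇑(Qf F)) e₂ _ = t
      rw [QuadraticMap.polar_add_right, QuadraticMap.polar_smul_right, QuadraticMap.polar_smul_right, h21, smul_zero,
        zero_add, smul_eq_mul, div_mul_cancel₀ _ hp₂]
  have hinj : Function.Injective g := by
    refine (LinearMap.injective_iff_surjective_of_finrank_eq_finrank ?_).2 hsurj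
    rw [finrank_V2 hF hy, Module.finrank_prod, Module.finrank_self]
  have h3 : g ⟨v, hv⟩ = g 0 := by
    simp only [map_zero]
    exact Prod.ext h1 h2
  exact congrArg Subtype.val (hinj h3)

theorem eq_of_mulVec {g h : Cfsg.isometryGroup F (⇑(Qf F))} (hgh : ∀ v,
    ((g : Matrix.GeneralLinearGroup (Fin 4 ⊕ Fin 4) F) : Matrix (Fin 4 ⊕ Fin 4) (Fin 4 ⊕ Fin 4) F) *ᵥ v =
    ((h : Matrix.GeneralLinearGroup (Fin 4 ⊕ Fin 4) F) : Matrix (Fin 4 ⊕ Fin 4) (Fin 4 ⊕ Fin 4) F) *ᵥ v) : g = h := by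
  apply Subtype.ext
  apply Units.ext
  apply Matrix.mulVec_injective
  funext v
  exact hgh v

omit hF hy in
theorem spinor_eq_one (u : Cfsg.Omega F (⇑(Qf F))) : spinorSign (⇑(Qf F)) 1 u.1 = 1 :=
  (Abelianization.commutator_subset_ker (spinorSign (⇑(Qf F)) 1)) u.2

/-- `(1, -1) ∉ Ω` -/
theorem no_neg {u : GG F} (h1 : ∀ v ∈ LinearMap.range (rep F y - 1), rep F u v = v)
    (h2 : ∀ v ∈ fixS (rep F y), rep F u v = -v) : False := by
  classical
  have h2F := two_ne hF
  obtain ⟨e₁, he₁, e₂, he₂, hQ₁, hQ₂, h12, hd⟩ := exists_basis hF hy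
  have h21 : polar (⇑(Qf F)) e₂ e₁ = 0 := by rw [polar_comm, h12]
  have hR : ∀ (e : Fin 4 ⊕ Fin 4 → F) (he : Qf F e ≠ 0) (v : Fin 4 ⊕ Fin 4 → F),
      ((reflIso (Qf F) e he : Matrix.GeneralLinearGroup (Fin 4 ⊕ Fin 4) F) :
        Matrix (Fin 4 ⊕ Fin 4) (Fin 4 ⊕ Fin 4) F) *ᵥ v =
        v - ((Qf F e)⁻¹ * polar (⇑(Qf F)) e v) • e := fun e he v => by
    rw [coe_reflIso, reflectionMatrix_mulVec]
  have heq : (u.1 : Cfsg.isometryGroup F (⇑(Qf F))) = reflIso (Qf F) e₁ hQ₁ * reflIso (Qf F) e₂ hQ₂ := by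
    refine eq_of_mulVec hF hy fun v => ?_
    have e0 : ((u.1 : Matrix.GeneralLinearGroup (Fin 4 ⊕ Fin 4) F) :
        Matrix (Fin 4 ⊕ Fin 4) (Fin 4 ⊕ Fin 4) F) *ᵥ v = rep F u v := rfl
    have e1 : (((reflIso (Qf F) e₁ hQ₁ * reflIso (Qf F) e₂ hQ₂ : Cfsg.isometryGroup F (⇑(Qf F))) :
        Matrix.GeneralLinearGroup (Fin 4 ⊕ Fin 4) F) : Matrix (Fin 4 ⊕ Fin 4) (Fin 4 ⊕ Fin 4) F) *ᵥ v =
        v - ((Qf F e₂)⁻¹ * polar (⇑(Qf F)) e₂ v) • e₂ - ((Qf F e₁)⁻¹ * polar (⇑(Qf F)) e₁ v) • e₁ := by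
      simp only [coe_mul_mulVec, hR, hR, QuadraticMap.polar_sub_right, QuadraticMap.polar_smul_right, h12, smul_zero,
        sub_zero]
    rw [e0, e1]
    obtain ⟨a, ha, b, hb, rfl⟩ := Submodule.mem_sup.1 (sup_top hF hy ▸ (Submodule.mem_top : v ∈ ⊤))
    have p1 : polar (⇑(Qf F)) e₁ a = 0 := by rw [polar_comm, V1_perp hF hy ha he₁]
    have p2 : polar (⇑(Qf F)) e₂ a = 0 := by rw [polar_comm, V1_perp hF hy ha he₂]
    simp only [map_add, h1 a ha, h2 b hb, QuadraticMap.polar_add_right, QuadraticMap.polar_add_right, p1, p2, zero_add,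
      zero_add]
    -- decompose `b`
    have h3 : (2 : F) • b - ((Qf F e₂)⁻¹ * polar (⇑(Qf F)) e₂ b) • e₂ - ((Qf F e₁)⁻¹ * polar (⇑(Qf F)) e₁ b) • e₁ = 0 := by
      refine eq_zero_of_perp hF hy he₁ he₂ hQ₁ hQ₂ h12 ?_ ?_ ?_
      · exact (fixS (rep F y)).sub_mem ((fixS (rep F y)).sub_mem ((fixS (rep F y)).smul_mem _ hb)
          ((fixS (rep F y)).smul_mem _ he₂)) ((fixS (rep F y)).smul_mem _ he₁)
      · rw [QuadraticMap.polar_sub_right, QuadraticMap.polar_sub_right, QuadraticMap.polar_smul_right,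
          QuadraticMap.polar_smul_right, QuadraticMap.polar_smul_right, h12, Reflection.polar_self', smul_zero, sub_zero,
          smul_eq_mul, smul_eq_mul]
        field_simp
        ring
      · rw [QuadraticMap.polar_sub_right, QuadraticMap.polar_sub_right, QuadraticMap.polar_smul_right,
          QuadraticMap.polar_smul_right, QuadraticMap.polar_smul_right, h21, Reflection.polar_self', smul_zero, sub_zero,
          smul_eq_mul, smul_eq_mul]
        field_simp
        ring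
    have h4 : ((Qf F e₂)⁻¹ * polar (⇑(Qf F)) e₂ b) • e₂ + ((Qf F e₁)⁻¹ * polar (⇑(Qf F)) e₁ b) • e₁ = (2 : F) • b := by
      have h5 := sub_eq_zero.1 (by rw [sub_sub] at h3; exact h3)
      exact h5.symm
    calc a + -b = a + b - (2 : F) • b := by rw [two_smul]; abel
      _ = _ := by rw [← h4]; abel
  have h3 := spinor_eq_one u
  rw [heq, map_mul, spinorSign_reflIso h2F (Qf F) one_ne_zero e₁ hQ₁, spinorSign_reflIso h2F (Qf F) one_ne_zero e₂ hQ₂,
    one_mul, one_mul] at h3
  have h5 := five_zero hF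
  have n1 : (2 : F) ≠ 1 := fun h => one_ne_zero (α := F) (by linear_combination h)
  have n2 : (2 : F) ≠ -1 := fun h => three_ne hF (by linear_combination h)
  have n3 : (-2 : F) ≠ 1 := fun h => three_ne hF (by linear_combination -h)
  have n4 : (-2 : F) ≠ -1 := fun h => one_ne_zero (α := F) (by linear_combination -h)
  have m1 : IsSquare (1 : F) := ⟨1, by ring⟩
  have m2 : IsSquare (-1 : F) := ⟨2, by linear_combination -h5⟩
  have m3 : ¬ IsSquare (2 : F) := fun h => by
    rcases (isSquare_iff hF h2F).1 h with h | h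
    · exact n1 h
    · exact n2 h
  have m4 : ¬ IsSquare (-2 : F) := fun h => by
    rcases (isSquare_iff hF (neg_ne_zero.2 h2F)).1 h with h | h
    · exact n3 h
    · exact n4 h
  have key : IsSquare (Qf F e₁) ↔ ¬ IsSquare (Qf F e₂) := by
    rcases cases4 hF hQ₁ with h | h | h | h <;> rcases hd with h' | h' <;> rw [h', h]
    · rw [mul_one]; exact ⟨fun _ => m3, fun _ => m1⟩
    · rw [mul_one]; exact ⟨fun _ => m4, fun _ => m1⟩
    · rw [show (2 : F) * -1 = -2 by ring]; exact ⟨fun _ => m4, fun _ => m2⟩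
    · rw [show -((2 : F) * -1) = 2 by ring]; exact ⟨fun _ => m3, fun _ => m2⟩
    · rw [show (2 : F) * 2 = -1 by linear_combination h5]; exact ⟨fun h => absurd h m3, fun h => absurd m2 h⟩
    · rw [show -((2 : F) * 2) = 1 by linear_combination -h5]; exact ⟨fun h => absurd h m3, fun h => absurd m1 h⟩
    · rw [show (2 : F) * -2 = 1 by linear_combination -h5]; exact ⟨fun h => absurd h m4, fun h => absurd m1 h⟩
    · rw [show -((2 : F) * -2) = -1 by linear_combination h5]; exact ⟨fun h => absurd h m4, fun h => absurd m2 h⟩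
  by_cases hs : IsSquare (Qf F e₁)
  · rw [if_pos hs, if_neg (key.1 hs)] at h3
    revert h3
    decide
  · have hs2 : IsSquare (Qf F e₂) := by
      by_contra hcon
      exact hs (key.2 hcon)
    rw [if_neg hs, if_pos hs2] at h3
    revert h3
    decide

/-- involutions of `C_Ω(y)` trivial on `V₁` -/
theorem eq_one_of_V1 {u : GG F} (huy : y * u = u * y) (huu : u * u = 1)
    (h1 : ∀ v ∈ LinearMap.range (rep F y - 1), rep F u v = v) : u = 1 := by
  by_cases hneg : ∀ v ∈ fixS (rep F y), rep F u v = -v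
  · exact (no_neg hF hy h1 hneg).elim
  push Not at hneg
  obtain ⟨v, hv, hv1⟩ := hneg
  have huv : rep F u v ∈ fixS (rep F y) := by
    show rep F y (rep F u v) = rep F u v
    rw [← Module.End.mul_apply, ← map_mul, huy, map_mul, Module.End.mul_apply, show rep F y v = v from hv]
  set e := v + rep F u v with he
  have he0 : e ≠ 0 := fun h => hv1 (eq_neg_of_add_eq_zero_right h)
  have heC : e ∈ fixS (rep F y) := (fixS (rep F y)).add_mem hv huv
  have hue : rep F u e = e := by
    simp only [he, map_add, ← Module.End.mul_apply, ← map_mul, huu, map_one, Module.End.one_apply, add_comm]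
  refine eq_one_of_hyperplane quadPlus_nondegenerate (by simp) (by simp only [_root_.Fintype.card_sum, _root_.Fintype.card_fin, _root_.Nat.reduceAdd]; decide) u
    (LinearMap.range (rep F y - 1) ⊔ Submodule.span F {e}) ?_ ?_
  · have h2 := Submodule.finrank_sup_add_finrank_inf_eq (LinearMap.range (rep F y - 1)) (Submodule.span F {e})
    have h3 : LinearMap.range (rep F y - 1) ⊓ Submodule.span F {e} = ⊥ := by
      rw [eq_bot_iff, ← inf_bot hF hy]
      exact inf_le_inf_left _ ((Submodule.span_singleton_le_iff_mem _ _).2 heC)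
    ((conv at h2 => enter [@2, @6]; rw [h3]); simp only [finrank_bot] at h2; simp only [finrank_V1 hF hy] at h2; simp only [finrank_span_singleton he0] at h2)
    have h5 : Fintype.card (Fin 4 ⊕ Fin 4) = 8 := by simp
    rw [h5]
    omega
  · intro w hw
    obtain ⟨a, ha, b, hb, rfl⟩ := Submodule.mem_sup.1 hw
    obtain ⟨c, rfl⟩ := Submodule.mem_span_singleton.1 hb
    show rep F u (a + c • e) = a + c • e
    rw [map_add, map_smul, h1 a ha, hue]

omit hy hF in
theorem exists_neg : ∃ m : GG F, ∀ v, rep F m v = -v := by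
  have h := Cfsg.Agent.S0790.exists_of_even (F := F) 4 (by decide)
  rw [← coe_quadPlus] at h
  obtain ⟨g, hg, hg'⟩ := h
  refine ⟨⟨g, hg⟩, fun v => ?_⟩
  show ((g : Matrix.GeneralLinearGroup (Fin 4 ⊕ Fin 4) F) : Matrix (Fin 4 ⊕ Fin 4) (Fin 4 ⊕ Fin 4) F) *ᵥ v = -v
  rw [hg', Matrix.neg_mulVec, Matrix.one_mulVec]

omit hy hF in
/-- the subgroup `±1` -/
def Zs (F : Type) [Field F] [Fintype F] : Subgroup (GG F) where
  carrier := {u | (∀ v, rep F u v = v) ∨ (∀ v, rep F u v = -v)}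
  one_mem' := Or.inl fun v => by rw [map_one]; rfl
  mul_mem' := fun {a b} ha hb => by
    rcases ha with ha | ha <;> rcases hb with hb | hb
    · exact Or.inl fun v => by rw [map_mul, Module.End.mul_apply, hb, ha]
    · exact Or.inr fun v => by rw [map_mul, Module.End.mul_apply, hb, ha]
    · exact Or.inr fun v => by rw [map_mul, Module.End.mul_apply, hb, ha]
    · exact Or.inl fun v => by rw [map_mul, Module.End.mul_apply, hb, ha, neg_neg]
  inv_mem' := fun {a} ha => by
    rcases ha with ha | ha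
    · refine Or.inl fun v => ?_
      nth_rewrite 1 [← ha v]
      rw [← Module.End.mul_apply, ← map_mul, inv_mul_cancel, map_one]; rfl
    · refine Or.inr fun v => ?_
      have h1 : rep F a⁻¹ (rep F a v) = v := by
        rw [← Module.End.mul_apply, ← map_mul, inv_mul_cancel, map_one]; rfl
      rw [ha v, map_neg] at h1
      exact neg_eq_iff_eq_neg.1 h1

omit hy hF in
theorem Zs_center : Zs F ≤ Subgroup.center _ := by
  intro u hu
  rw [Subgroup.mem_center_iff]
  intro g
  apply rep_injective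
  refine LinearMap.ext fun v => ?_
  rw [map_mul, map_mul, Module.End.mul_apply, Module.End.mul_apply]
  rcases hu with hu | hu
  · rw [hu, hu]
  · rw [hu, hu, map_neg]

omit hy hF in
theorem Zs_sq : ∀ x ∈ Zs F, x * x = 1 := by
  intro u hu
  apply rep_injective
  refine LinearMap.ext fun v => ?_
  rw [map_mul, Module.End.mul_apply, map_one, Module.End.one_apply]
  rcases hu with hu | hu
  · rw [hu, hu]
  · rw [hu, hu, neg_neg]

theorem range_inv : ∀ v ∈ LinearMap.range (rep F y - 1), rep F y v ∈ LinearMap.range (rep F y - 1) := by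
  rintro _ ⟨w, rfl⟩
  refine ⟨rep F y w, ?_⟩
  simp only [LinearMap.sub_apply, LinearMap.sub_apply, Module.End.one_apply, Module.End.one_apply, map_sub]

theorem range_comm {u : GG F} (huy : y * u = u * y) :
    ∀ v ∈ LinearMap.range (rep F y - 1), rep F u v ∈ LinearMap.range (rep F y - 1) := by
  rintro _ ⟨w, rfl⟩
  refine ⟨rep F u w, ?_⟩
  rw [LinearMap.sub_apply, LinearMap.sub_apply, Module.End.one_apply, Module.End.one_apply, map_sub,
    ← Module.End.mul_apply, ← map_mul, huy, map_mul, Module.End.mul_apply]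

/-- the case `u² = 1` -/
theorem caseA {u : GG F} (huy : y * u = u * y) (huu : u * u = 1) : u ∈ Zs F := by
  have hcom : ∀ v, rep F y (rep F u v) = rep F u (rep F y v) := fun v => by
    rw [← Module.End.mul_apply, ← map_mul, huy, map_mul, Module.End.mul_apply]
  rcases irr hF hy (LinearMap.range (rep F y - 1) ⊓ fixS (rep F u)) inf_le_left (fun v hv =>
    ⟨range_inv hF hy v hv.1, by
      show rep F u (rep F y v) = rep F y v
      rw [← hcom, show rep F u v = v from hv.2]⟩) with h | h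
  · obtain ⟨m, hm⟩ := exists_neg (F := F)
    have h1 : m * u = 1 := by
      refine eq_one_of_V1 hF hy ?_ ?_ ?_
      · apply rep_injective
        refine LinearMap.ext fun v => ?_
        simp only [map_mul, Module.End.mul_apply]
        rw [hm, hm, map_neg, hcom]
      · apply rep_injective
        refine LinearMap.ext fun v => ?_
        simp only [map_mul, Module.End.mul_apply]
        rw [hm, hm, map_neg, neg_neg, ← Module.End.mul_apply, ← map_mul, huu]
      · intro v hv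
        rw [map_mul, Module.End.mul_apply, hm]
        have h2 : v + rep F u v ∈ LinearMap.range (rep F y - 1) ⊓ fixS (rep F u) := by
          refine ⟨Submodule.add_mem _ hv (range_comm hF hy huy v hv), ?_⟩
          show rep F u (v + rep F u v) = v + rep F u v
          simp only [map_add, ← Module.End.mul_apply, ← map_mul, huu, map_one, Module.End.one_apply, add_comm]
        rw [h, Submodule.mem_bot] at h2
        rw [eq_neg_of_add_eq_zero_right h2, neg_neg]
    right
    intro v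
    have h2 : rep F m (rep F u v) = v := by
      rw [← Module.End.mul_apply, ← map_mul, h1, map_one]; rfl
    rw [hm] at h2
    exact neg_eq_iff_eq_neg.1 h2
  · have h1 : u = 1 := eq_one_of_V1 hF hy huy huu fun v hv => by
      rw [← h] at hv
      exact hv.2
    rw [h1]
    exact one_mem _

/-- the case `u² = -1` -/
theorem caseB {u : GG F} (huy : y * u = u * y) (huu : ∀ v, rep F u (rep F u v) = -v) :
    False := by
  have h5 := five_zero hF
  have hcom : ∀ v, rep F y (rep F u v) = rep F u (rep F y v) := fun v => by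
    rw [← Module.End.mul_apply, ← map_mul, huy, map_mul, Module.End.mul_apply]
  -- `u = c` on `V₁` is impossible
  have hno : ∀ c : F, c * c = -1 → ¬ (∀ v ∈ LinearMap.range (rep F y - 1), rep F u v = c • v) := by
    intro c hc h
    have h1 : ∀ v ∈ LinearMap.range (rep F y - 1), ∀ w ∈ LinearMap.range (rep F y - 1), polar (⇑(Qf F)) v w = 0 := by
      intro v hv w hw
      have h2 := rep_B u v w
      simp only [h v hv, h w hw, QuadraticMap.polar_smul_left, QuadraticMap.polar_smul_right, smul_eq_mul, smul_eq_mul,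
        ← mul_assoc, hc] at h2
      have h3 : 2 * polar (⇑(Qf F)) v w = 0 := by linear_combination -h2
      exact (mul_eq_zero.1 h3).resolve_left (two_ne hF)
    have h2 : LinearMap.range (rep F y - 1) = ⊥ := by
      rw [Submodule.eq_bot_iff]
      intro v hv
      have h3 : ∀ w, polar (⇑(Qf F)) v w = 0 := by
        intro w
        obtain ⟨a, ha, b, hb, rfl⟩ := Submodule.mem_sup.1 (sup_top hF hy ▸ (Submodule.mem_top : w ∈ ⊤))
        rw [QuadraticMap.polar_add_right, h1 v hv a ha, V1_perp hF hy hv hb, add_zero]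
      have hnd : (polarBilin (Qf F)).Nondegenerate := quadPlus_nondegenerate
      exact hnd.1 v h3
    have h3 := finrank_V1 hF hy
    rw [h2, finrank_bot] at h3
    norm_num at h3
  let W : Submodule F (Fin 4 ⊕ Fin 4 → F) :=
    LinearMap.range (rep F y - 1) ⊓ LinearMap.ker (rep F u - (2 : F) • (1 : (Fin 4 ⊕ Fin 4 → F) →ₗ[F] _))
  have hW : ∀ v, v ∈ W ↔ v ∈ LinearMap.range (rep F y - 1) ∧ rep F u v = (2 : F) • v := by
    intro v
    show v ∈ _ ∧ v ∈ LinearMap.ker _ ↔ _
    simp only [LinearMap.mem_ker, LinearMap.sub_apply, LinearMap.smul_apply, Module.End.one_apply, sub_eq_zero]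
    exact Iff.rfl
  rcases irr hF hy W inf_le_left (fun v hv => by
    rw [hW] at hv ⊢
    exact ⟨range_inv hF hy v hv.1, by rw [← hcom, hv.2, map_smul]⟩) with h | h
  · refine hno (-2) (by linear_combination h5) fun v hv => ?_
    have h1 : rep F u v + (2 : F) • v ∈ W := by
      rw [hW]
      refine ⟨Submodule.add_mem _ (range_comm hF hy huy v hv) (Submodule.smul_mem _ _ hv), ?_⟩
      rw [map_add, map_smul, huu, smul_add, smul_smul, show (2 : F) * 2 = -1 by linear_combination h5, neg_smul,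
        one_smul, add_comm]
    rw [h, Submodule.mem_bot] at h1
    rw [neg_smul]
    exact eq_neg_of_add_eq_zero_left h1
  · refine hno 2 (by linear_combination h5) fun v hv => ?_
    rw [← h, hW] at hv
    exact hv.2

/-- **(H1)** -/
theorem mem_Zs : ∀ (k : ℕ) (u : GG F), u ^ 2 ^ k = 1 → y * u = u * y → u ∈ Zs F := by
  intro k
  induction k with
  | zero =>
    intro u hu _
    rw [pow_zero, pow_one] at hu
    rw [hu]
    exact one_mem _
  | succ k ih =>
    intro u hu huy
    have h1 : u * u ∈ Zs F := by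
      refine ih (u * u) ?_ ?_
      · rw [← pow_two, ← pow_mul, ← pow_succ']
        exact hu
      · rw [← mul_assoc, huy, mul_assoc, huy, mul_assoc]
    rcases h1 with h1 | h1
    · refine caseA hF hy huy ?_
      apply rep_injective
      exact LinearMap.ext fun v => by rw [h1 v, map_one]; rfl
    · exact (caseB hF hy huy fun v => by
        rw [← h1 v, map_mul]; rfl).elim

end Y

/-! ### The row -/

theorem card_pomega (hF : Fintype.card F = 5) :
    Nat.card (Cfsg.POmega F (⇑(quadPlus 4 F))) = 8911539000000000000 := by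
  have h1 := Cfsg.Agent.S0293.result hF 4 le_rfl
  rw [← coe_quadPlus] at h1
  have e1 : Nat.gcd 4 (5 ^ 4 - 1) = 4 := by norm_num
  rw [e1] at h1
  simp only [Finset.prod_range_succ, Finset.prod_range_zero] at h1
  norm_num only [] at h1
  omega

theorem card_omega (hF : Fintype.card F = 5) : Nat.card (GG F) =
    8911539000000000000 * Nat.card (Subgroup.center (GG F)) := by
  rw [← card_pomega hF]
  exact Subgroup.card_eq_card_quotient_mul_card_subgroup _

/-- prime powers dividing `|Ω|` -/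
theorem pow_dvd (hF : Fintype.card F = 5) {t k : ℕ} (ht : t.Prime) (ht2 : t ≠ 2)
    (h : t ^ k ∣ Nat.card (GG F)) : t ^ k ∣ 8911539000000000000 := by
  rw [card_omega hF] at h
  have h1 := not_dvd_center_omega (F := F) (Q := quadPlus 4 F) quadPlus_nondegenerate (by simp) iso_plus ht ht2
  exact (Nat.Coprime.pow_left k ((Nat.Prime.coprime_iff_not_dvd ht).2 h1)).dvd_of_dvd_mul_right h

/-- the `t`-groups, `t ≠ 2, 5, 7` -/
theorem cent_big (hF : Fintype.card F = 5) {y : GG F} (hy : orderOf y = 7) {t : ℕ}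
    (ht : t.Prime) (ht7 : t ≠ 7) (ht2 : t ≠ 2) (ht5 : t ≠ 5) {T : Subgroup (GG F)}
    (hT : IsPGroup t T) (hyT : ∀ u ∈ T, y * u * y⁻¹ ∈ T) : ∀ u ∈ T, y * u = u * y := by
  have hp : Nat.Prime 7 := by norm_num
  have htf : Fact t.Prime := ⟨ht⟩
  obtain ⟨k, hk⟩ := IsPGroup.iff_card.1 hT
  have h1 : t ^ k ∣ 2 ^ 12 * 3 ^ 5 * 5 ^ 12 * 7 * 13 ^ 2 * 31 := by
    have h0 : t ^ k ∣ Nat.card (GG F) := hk ▸ Subgroup.card_subgroup_dvd_card T
    have := pow_dvd hF ht ht2 h0
    rwa [show 2 ^ 12 * 3 ^ 5 * 5 ^ 12 * 7 * 13 ^ 2 * 31 = 8911539000000000000 by norm_num]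
  by_cases hk0 : k = 0
  · have : T = ⊥ := Subgroup.card_eq_one.1 (by rw [hk, hk0, pow_zero])
    intro u hu
    rw [this, Subgroup.mem_bot] at hu
    rw [hu, mul_one, one_mul]
  have htd : t ∣ 2 ^ 12 * 3 ^ 5 * 5 ^ 12 * 7 * 13 ^ 2 * 31 := (dvd_pow_self t hk0).trans h1
  have ht' : t = 3 ∨ t = 13 ∨ t = 31 := by
    have hpp : ∀ {a : ℕ}, a.Prime → ∀ n, t ∣ a ^ n → t = a := fun ha n h =>
      (Nat.prime_dvd_prime_iff_eq ht ha).1 (ht.dvd_of_dvd_pow h)
    rcases (ht.dvd_mul).1 htd with h | h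
    · rcases (ht.dvd_mul).1 h with h | h
      · rcases (ht.dvd_mul).1 h with h | h
        · rcases (ht.dvd_mul).1 h with h | h
          · rcases (ht.dvd_mul).1 h with h | h
            · exact absurd (hpp Nat.prime_two _ h) ht2
            · exact Or.inl (hpp Nat.prime_three _ h)
          · exact absurd (hpp Nat.prime_five _ h) ht5
        · exact absurd ((Nat.prime_dvd_prime_iff_eq ht hp).1 h) ht7
      · exact Or.inr (Or.inl (hpp (by norm_num) _ h))
    · exact Or.inr (Or.inr ((Nat.prime_dvd_prime_iff_eq ht (by norm_num)).1 h))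
  clear htd
  rcases ht' with rfl | rfl | rfl
  · have hj2 : k ≤ 5 := by
      by_contra h
      have h2 : 3 ^ 6 ∣ 2 ^ 12 * 3 ^ 5 * 5 ^ 12 * 7 * 13 ^ 2 * 31 := (pow_dvd_pow 3 (by omega)).trans h1
      revert h2
      norm_num
    clear h1
    refine cent_of_order hp hy ht ht7 hk hyT ?_
    intro j hj hjk
    have : j ≤ 5 := by omega
    interval_cases j <;> norm_num
  · have hj2 : k ≤ 2 := by
      by_contra h
      have h2 : 13 ^ 3 ∣ 2 ^ 12 * 3 ^ 5 * 5 ^ 12 * 7 * 13 ^ 2 * 31 := (pow_dvd_pow 13 (by omega)).trans h1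
      revert h2
      norm_num
    clear h1
    by_cases hk2 : k = 2
    · exact cent_169 hF (rep F) rep_injective finrank_V hy (by rw [hk, hk2]) hyT
    · refine cent_of_order hp hy ht ht7 hk hyT ?_
      intro j hj hjk
      have : j = 1 := by omega
      rw [this]
      norm_num
  · have hj2 : k ≤ 1 := by
      by_contra h
      have h2 : 31 ^ 2 ∣ 2 ^ 12 * 3 ^ 5 * 5 ^ 12 * 7 * 13 ^ 2 * 31 := (pow_dvd_pow 31 (by omega)).trans h1
      revert h2
      norm_num
    clear h1
    refine cent_of_order hp hy ht ht7 hk hyT ?_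
    intro j hj hjk
    have : j = 1 := by omega
    rw [this]
    norm_num

/-- **Solvable subgroups containing `y z`.** -/
theorem elc_omega (hF : Fintype.card F = 5) {y z : GG F} (hy : orderOf y = 7)
    (hz : z ^ 3 = 1) (hyz : y * z = z * y) (hV : ∀ v, rep F y (rep F z v - v) = rep F z v - v)
    (hd : finrank F (fixS (rep F z)) = 6) : Elc 7 (y * z) y := by
  have hp : Nat.Prime 7 := by norm_num
  have hy7 : y ^ 7 = 1 := by rw [← hy, pow_orderOf_eq_one]
  obtain ⟨hpF, hord, h2e⟩ := omega_facts hF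
  refine elc_of3 hp hy hz (by norm_num) hyz ?_ (commuting_of_rep (rep F) rep_injective hp hpF h2e)
  intro M hM hyM hzM t ht ht7 T hTM hTn hT
  by_cases ht2 : t = 2
  · subst ht2
    have h1 : T ≤ Zs F := by
      refine two_group hy7 hyz Zs_center Zs_sq (fun u ⟨k, hk⟩ huy => mem_Zs hF hy k u hk huy) ?_ _ T rfl hT
        (hTn y hyM) (hTn z hzM)
      intro S h2 hyS hzS hCy
      have hS : IsPGroup 2 S := fun u => ⟨1, Subtype.ext (by
        rw [pow_one, pow_two]; exact h2 u u.2)⟩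
      refine no_elem (rep F) rep_injective (two_ne hF) hy7 hz hyz (by rw [finrank_V]; norm_num) S h2 hyS hzS hCy ?_
      intro u hu huz
      refine hCy u hu ?_
      refine cent_three (rep F) rep_injective hp (by norm_num) (two_ne hF) (three_ne hF) hy hz hyz hV
        (Or.inr ⟨by rw [hd], ?_⟩) hS hyS u hu huz.symm
      rw [hd]
      rintro ⟨k, hk⟩
      have hk3 : k < 3 := by
        by_contra hcon
        have : 2 ^ 3 ≤ 2 ^ k := Nat.pow_le_pow_right (by norm_num) (by omega)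
        omega
      interval_cases k <;> omega
    intro u hu
    exact Subgroup.mem_center_iff.1 (Zs_center (h1 hu)) y
  by_cases ht5 : t = 5
  · subst ht5
    have h1 : T = ⊥ := core_plus (m := 4) (q := 5) (a := 1) (y := y) hF (by norm_num) hp (by norm_num) le_rfl
      ord_seven_five (by rw [hy, pow_one]) M hM hyM 5 (by norm_num) (by rw [hF]) T hTM hTn hT
    intro u hu
    rw [h1, Subgroup.mem_bot] at hu
    rw [hu, mul_one, one_mul]
  · exact cent_big hF hy ht ht7 ht2 ht5 hT (hTn y hyM)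

/-- **`AS2` for `PΩ⁺₈(5)`.** -/
theorem as2_five (hF : Fintype.card F = 5) [IsSimpleGroup (Cfsg.POmega F (⇑(quadPlus 4 F)))]
    (hna : ¬ IsMulCommutative (Cfsg.POmega F (⇑(quadPlus 4 F)))) : AS2 (Cfsg.POmega F (⇑(quadPlus 4 F))) := by
  have hp : Nat.Prime 7 := by norm_num
  have : Fact (Nat.Prime 7) := ⟨hp⟩
  obtain ⟨hpF, hord, h2e⟩ := omega_facts hF
  have hcard := card_pomega hF
  have hcz : ¬ 7 ∣ Nat.card (Subgroup.center (GG F)) :=
    not_dvd_center_omega (F := F) (Q := quadPlus 4 F) quadPlus_nondegenerate (by simp) iso_plus hp (by norm_num)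
  have hdv : 7 ∣ Nat.card (GG F) := by
    rw [card_omega hF]
    exact Dvd.dvd.mul_right (by norm_num) _
  obtain ⟨y, hy⟩ := exists_prime_orderOf_dvd_card' 7 hdv
  obtain ⟨z, hzz, hyz, hV, hd⟩ := exists_z hF hy
  have hel := elc_omega hF hy hzz hyz hV hd
  obtain ⟨hoy, hmem, huel⟩ := row_of_elc3 hp (by norm_num) hy hzz hyz hel hcz
  have hout : ¬ 7 ∣ Nat.card (Cfsg.Out (Cfsg.POmega F (⇑(quadPlus 4 F)))) := by
    have hf3 : Fact (Nat.Prime 5) := ⟨by norm_num⟩
    have h1 := H149.PGO.card_out_plus (F := F) (p := 5) (f := 1) (m := 4) le_rfl (by rw [hF, pow_one]) le_rfl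
    rw [← coe_quadPlus] at h1
    intro h2
    have h3 := h2.trans h1
    revert h3
    norm_num
  have hr : H479.AS.GRow (Cfsg.POmega F (⇑(quadPlus 4 F))) 7 _ _ :=
    { hp := hp
      h5 := by norm_num
      ord := hoy
      mem := hmem
      su := huel
      full := by rw [hcard]; norm_num
      out := hout }
  refine H479.AS.of_lt_g hna hr (c := 6048) (b := 19656) ?_ ?_ (by norm_num)
  · have h1 := cent_quot hp hcz (c := (125 + 1) * 48) (fun w hw => ?_) _ hoy
    · have h2 : 0 < Nat.card (Subgroup.center (GG F)) := Nat.card_pos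
      exact (Nat.le_mul_of_pos_right _ h2).trans h1
    · refine (cent_le (rep F) rep_injective (frm_polar quadPlus_nondegenerate)
        (fun x y z => polar_add_left (quadPlus 4 F) x y z) (RingHom.id F) (fun c x y => ?_)
        (fun g u v => omHom_polar _ g u v) hp hpF h2e hw (Q := 125) (by rw [hord, hF]; norm_num)).trans
        (Nat.mul_le_mul_left _ (card_K1_plus (m := 4) (q := 5) hF (by norm_num) hp (by norm_num) ord_seven_five hw))
      show polar (⇑(quadPlus 4 F)) (c • x) y = c * polar (⇑(quadPlus 4 F)) x y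
      rw [polar_smul_left, smul_eq_mul]
  · rw [coe_quadPlus]
    intro H hH
    have h1 := (Cfsg.Agent.S2145.result hF (by norm_num) 4 le_rfl).1 H hH
    exact le_trans (by norm_num) h1

end Small

/-- **The row `PΩ⁺₈(5)`.** -/
theorem row {K : Type u} [Group K] [Finite K] [IsSimpleGroup K] (hna : ¬ IsMulCommutative K)
    (hF : Fintype.card F = 5) (e : K ≃* Cfsg.POmega F (Cfsg.quadFormPlus 4 F)) : AS2 K := by
  rw [← coe_quadPlus] at e
  have : IsSimpleGroup (Cfsg.POmega F (⇑(quadPlus 4 F))) := e.symm.isSimpleGroup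
  refine AS2.congr e.symm (as2_five hF fun h => hna ⟨⟨fun a b => ?_⟩⟩)
  apply e.injective
  simp only [map_mul, map_mul]
  exact h.is_comm.comm _ _

end Cfsg.Agent.H99.AS.OFive
end

-- part: H479/AS/SpSixMat
section
/-!
# An element of order 15 of `Sp_6(2)` (helper479)
-/

set_option autoImplicit false

namespace Cfsg.Agent.H479.AS.SpSix

open Matrix

abbrev Mt (R : Type*) := Matrix (Fin 3 ⊕ Fin 3) (Fin 3 ⊕ Fin 3) R

def Y0 : Mt (ZMod 2) :=
  fromBlocks !![0, 0, 0; 0, 0, 0; 0, 1, 1] !![1, 0, 0; 0, 1, 1; 0, 1, 0] !![1, 0, 0; 0, 0, 1; 0, 0, 0]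
    !![1, 0, 0; 0, 0, 0; 0, 1, 0]

def Y2 : Mt (ZMod 2) :=
  fromBlocks !![1, 0, 0; 0, 0, 1; 0, 1, 0] !![1, 0, 0; 0, 1, 0; 0, 0, 1]
    !![1, 0, 0; 0, 1, 1; 0, 0, 1] !![0, 0, 0; 0, 1, 0; 0, 0, 0]

def Z0 : Mt (ZMod 2) :=
  fromBlocks !![1, 0, 0; 0, 1, 0; 0, 0, 0] !![0, 0, 0; 0, 1, 0; 0, 0, 1]
    !![0, 0, 0; 0, 1, 0; 0, 1, 1] !![1, 0, 0; 0, 0, 1; 0, 1, 0]

def Z2 : Mt (ZMod 2) :=
  fromBlocks !![1, 0, 0; 0, 0, 0; 0, 1, 1] !![0, 0, 0; 0, 1, 1; 0, 1, 0]
    !![0, 0, 0; 0, 0, 1; 0, 0, 0] !![1, 0, 0; 0, 0, 0; 0, 1, 0]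

def W0 : Mt (ZMod 2) :=
  fromBlocks !![1, 0, 0; 0, 1, 0; 0, 0, 1] !![1, 0, 0; 0, 0, 0; 0, 0, 0]
    !![1, 0, 0; 0, 0, 0; 0, 0, 0] !![0, 0, 0; 0, 1, 0; 0, 0, 1]

def N0 : Mt (ZMod 2) :=
  fromBlocks !![0, 0, 0; 0, 1, 0; 0, 1, 1] !![1, 0, 0; 0, 0, 1; 0, 1, 1]
    !![1, 0, 0; 0, 1, 1; 0, 1, 1] !![1, 0, 0; 0, 0, 1; 0, 0, 0]

set_option maxRecDepth 10000

theorem yy : Y0 * Y0 = Y2 := by decide +kernel
theorem yyy : Y2 * Y0 = Z0 := by decide +kernel
theorem zz : Z0 * Z0 = Z2 := by decide +kernel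
theorem zzzzz : Z2 * Z2 * Z0 = 1 := by decide +kernel
theorem zyy : Z0 * Y2 = W0 := by decide +kernel
theorem www : W0 * W0 * W0 = 1 := by decide +kernel
theorem z_ne : Z0 ≠ 1 := by decide
theorem w_ne : W0 ≠ 1 := by decide
theorem ny : N0 * (Y0 - 1) = 1 := by decide +kernel
theorem symp : Y0 * J (Fin 3) (ZMod 2) * Y0ᵀ = J (Fin 3) (ZMod 2) := by decide +kernel

end Cfsg.Agent.H479.AS.SpSix
end

-- part: H489/AS/KOne
section
/-!
# The subgroup `K1` when the fixed space has dimension at most one (helper489)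
-/

set_option autoImplicit false

universe u v w

namespace Cfsg.Agent.H489.AS

open Module Cfsg.Agent.H518.DghpFix Cfsg.Agent.H518.SU

variable {F : Type u} [Field F] [Fintype F] {V : Type v} [AddCommGroup V] [Module F V] [FiniteDimensional F V]
variable {G : Type w} [Group G] [Finite G] {φ : G →* (V →ₗ[F] V)} {p : ℕ} {z : G}

theorem facts_of (hφ : Function.Injective φ) (hp : p.Prime) (hpF : ¬ p ∣ Fintype.card F)
    (h2e : finrank F V < 2 * orderOf ((Fintype.card F : ℕ) : ZMod p)) (hz : orderOf z = p) :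
    finrank F (LinearMap.range (φ z - 1)) = orderOf ((Fintype.card F : ℕ) : ZMod p) ∧
      LinearMap.range (φ z - 1) ⊓ fixS (φ z) = ⊥ ∧ LinearMap.range (φ z - 1) ⊔ fixS (φ z) = ⊤ := by
  refine range_facts hp hpF (by rw [← map_pow, ← hz, pow_orderOf_eq_one, map_one]) (fun h => ?_) h2e
  have h1 : z = 1 := hφ (by rw [h, map_one])
  rw [h1, orderOf_one] at hz
  exact hp.one_lt.ne hz

/-- The dimension of the fixed space. -/
theorem finrank_fixS (hφ : Function.Injective φ) (hp : p.Prime) (hpF : ¬ p ∣ Fintype.card F)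
    (h2e : finrank F V < 2 * orderOf ((Fintype.card F : ℕ) : ZMod p)) (hz : orderOf z = p) :
    finrank F (fixS (φ z)) + orderOf ((Fintype.card F : ℕ) : ZMod p) = finrank F V := by
  obtain ⟨h1, h2, h3⟩ := facts_of hφ hp hpF h2e hz
  have h4 := Submodule.finrank_sup_add_finrank_inf_eq (LinearMap.range (φ z - 1)) (fixS (φ z))
  rw [h2, h3, finrank_bot, finrank_top, h1] at h4
  omega

theorem eq_one_of_mem_K1 (hφ : Function.Injective φ) (hp : p.Prime) (hpF : ¬ p ∣ Fintype.card F)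
    (h2e : finrank F V < 2 * orderOf ((Fintype.card F : ℕ) : ZMod p)) (hz : orderOf z = p) {g : G} (hg : g ∈ K1 φ z)
    (h : ∀ c ∈ fixS (φ z), φ g c = c) : g = 1 := by
  obtain ⟨h1, h2, h3⟩ := facts_of hφ hp hpF h2e hz
  apply hφ
  rw [map_one]
  ext v
  have hv : v ∈ LinearMap.range (φ z - 1) ⊔ fixS (φ z) := by rw [h3]; trivial
  obtain ⟨a, ⟨w, rfl⟩, c, hc, rfl⟩ := Submodule.mem_sup.1 hv
  rw [map_add, h c hc, Module.End.one_apply]
  congr 1
  exact hg.2 w

theorem K1_fixS_invariant {g : G} (hg : g ∈ K1 φ z) : ∀ c ∈ fixS (φ z), φ g c ∈ fixS (φ z) := by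
  refine fixS_invariant ?_
  rw [← map_mul, ← map_mul, hg.1]

variable {B : V → V → F}

end Cfsg.Agent.H489.AS
end

-- part: H479/AS/SpSix
section
/-!
# `AS2` for `PSp_6(2)` (helper479)

`y` of order 15, `z = y ^ 3`, `V = V2 + V4`, `V2 = C_V(z)`. `z` centralises the normal `t`-subgroups `T`, `t ≠ 5`, of the
solvable subgroups `M` containing `y`: for `t = 2` `C_V(T)` is `V2` or `V4`; for `t = 3` otherwise `|T| = 81`, `C_T(z) = 1`,
but `y ^ 5 ∈ T`.
-/

set_option autoImplicit false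
set_option linter.unusedSectionVars false

universe u v w

namespace Cfsg.Agent.H479.AS

open Module Cfsg.Agent.H518.DghpFix Cfsg.Agent.H518.DghpPrim Cfsg.Agent.H518.DghpMat Cfsg.Agent.H518.SU
  Cfsg.Agent.H489.AS

section

variable {F : Type u} [Field F] [Fintype F] {V : Type v} [AddCommGroup V] [Module F V] [FiniteDimensional F V]
variable {G : Type w} [Group G] [Finite G] {φ : G →* (V →ₗ[F] V)} {p : ℕ} {z : G} {B : V → V → F}

/-- `V2 ⊥ V4` -/
theorem perp_fix_range (hB : Frm B) (hGB : ∀ g u v, B (φ g u) (φ g v) = B u v) {c a : V} (hc : c ∈ fixS (φ z))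
    (ha : a ∈ LinearMap.range (φ z - 1)) : B c a = 0 := by
  obtain ⟨v, rfl⟩ := ha
  have h1 : B c (φ z v) = B c v := by
    conv_lhs => rw [← show φ z c = c from hc]
    exact hGB z c v
  have h2 : B c (v + (φ z - 1) v) = B c v + B c ((φ z - 1) v) := hB.add _ _ _
  have h3 : v + (φ z - 1) v = φ z v := by
    rw [LinearMap.sub_apply, Module.End.one_apply]
    abel
  rw [h3, h1] at h2
  exact (left_eq_add.1 h2)

variable (hφ : Function.Injective φ) (hp : p.Prime) (hpF : ¬ p ∣ Fintype.card F)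
  (h2e : finrank F V < 2 * orderOf ((Fintype.card F : ℕ) : ZMod p)) (hz : orderOf z = p)

include hφ hp hpF h2e hz

/-- vectors perpendicular to `V4` lie in `V2` -/
theorem mem_fix_of_perp (hB : Frm B) (hadd : ∀ x y z, B (x + y) z = B x z + B y z)
    (hGB : ∀ g u v, B (φ g u) (φ g v) = B u v) {x : V}
    (hx : ∀ a ∈ LinearMap.range (φ z - 1), B x a = 0) : x ∈ fixS (φ z) := by
  obtain ⟨-, h2, h3⟩ := facts_of hφ hp hpF h2e hz
  obtain ⟨a, ha, c, hc, rfl⟩ := Submodule.mem_sup.1 (show x ∈ LinearMap.range (φ z - 1) ⊔ fixS (φ z) by rw [h3]; trivial)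
  have h4 : a = 0 := by
    apply hB.nondeg
    intro y
    obtain ⟨b, hb, d, hd, rfl⟩ := Submodule.mem_sup.1 (show y ∈ LinearMap.range (φ z - 1) ⊔ fixS (φ z) by
      rw [h3]; trivial)
    rw [hB.add, hB.symm _ _ (perp_fix_range hB hGB hd ha), add_zero]
    have h5 := hx b hb
    rwa [hadd, perp_fix_range hB hGB hc hb, add_zero] at h5
  rw [h4, zero_add]
  exact hc

/-- vectors perpendicular to `V2` lie in `V4` -/
theorem mem_range_of_perp (hB : Frm B)
    (hGB : ∀ g u v, B (φ g u) (φ g v) = B u v) {x : V}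
    (hx : ∀ c ∈ fixS (φ z), B c x = 0) : x ∈ LinearMap.range (φ z - 1) := by
  obtain ⟨-, h2, h3⟩ := facts_of hφ hp hpF h2e hz
  obtain ⟨a, ha, c, hc, rfl⟩ := Submodule.mem_sup.1 (show x ∈ LinearMap.range (φ z - 1) ⊔ fixS (φ z) by rw [h3]; trivial)
  have h4 : c = 0 := by
    apply hB.nondeg
    intro y
    obtain ⟨b, hb, d, hd, rfl⟩ := Submodule.mem_sup.1 (show y ∈ LinearMap.range (φ z - 1) ⊔ fixS (φ z) by
      rw [h3]; trivial)
    rw [hB.add, perp_fix_range hB hGB hc hb, zero_add]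
    have h5 := hx d hd
    rw [hB.add, perp_fix_range hB hGB hd ha, zero_add] at h5
    exact hB.symm _ _ h5
  rw [h4, add_zero]
  exact ha

/-- invariant subspaces which meet `V2` in `0` or contain it -/
theorem inv_cases (U : Submodule F V) (hU : ∀ v ∈ U, φ z v ∈ U)
    (hU2 : U ⊓ fixS (φ z) = ⊥ ∨ fixS (φ z) ≤ U) :
    U = ⊥ ∨ U = fixS (φ z) ∨ U = LinearMap.range (φ z - 1) ∨ U = ⊤ := by
  obtain ⟨h1, h2, h3⟩ := facts_of hφ hp hpF h2e hz
  have h4 := finrank_fixS hφ hp hpF h2e hz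
  have hz0 : φ z ^ p ^ 1 = 1 := by rw [pow_one, ← map_pow, ← hz, pow_orderOf_eq_one, map_one]
  have h5 := finrank_fix hp hpF hz0 U hU
  have hle : finrank F U ≤ finrank F V := Submodule.finrank_le U
  obtain ⟨e, he⟩ : ∃ e, orderOf ((Fintype.card F : ℕ) : ZMod p) = e := ⟨_, rfl⟩
  rw [he] at h1 h4 h5 h2e
  rcases hU2 with h6 | h6
  · rw [h6, finrank_bot, Nat.sub_zero] at h5
    obtain ⟨k, hk⟩ := h5
    have hk2 : k < 2 := by
      by_contra hcon
      have : e * 2 ≤ e * k := Nat.mul_le_mul_left _ (by omega)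
      omega
    have hk' : k = 0 ∨ k = 1 := by omega
    rcases hk' with rfl | rfl
    · exact Or.inl (Submodule.finrank_eq_zero.1 (by omega))
    right; right; left
    rw [mul_one] at hk
    have h7 : U.map (φ z - 1) ≤ U := by
      rintro _ ⟨v, hv, rfl⟩
      rw [LinearMap.sub_apply, Module.End.one_apply]
      exact U.sub_mem (hU v hv) hv
    have h8 : finrank F (U.map (φ z - 1)) = finrank F U := by
      have h9 : Function.Injective ((φ z - 1).domRestrict U) := by
        rw [← LinearMap.ker_eq_bot, LinearMap.ker_eq_bot']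
        intro v hv
        have h10 : (v : V) ∈ U ⊓ fixS (φ z) := by
          refine ⟨v.2, ?_⟩
          have h11 : φ z v - v = 0 := hv
          exact sub_eq_zero.1 h11
        rw [h6, Submodule.mem_bot] at h10
        exact Subtype.ext h10
      have h10 := LinearMap.finrank_range_of_inj h9
      rwa [LinearMap.range_domRestrict] at h10
    have h9 : U.map (φ z - 1) = U := Submodule.eq_of_le_of_finrank_eq h7 h8
    have h10 : U ≤ LinearMap.range (φ z - 1) := by
      rw [← h9]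
      exact LinearMap.map_le_range
    exact Submodule.eq_of_le_of_finrank_eq h10 (by omega)
  · rw [inf_eq_right.2 h6] at h5
    have h7 := Submodule.finrank_mono h6
    obtain ⟨k, hk⟩ := h5
    have hk2 : k < 2 := by
      by_contra hcon
      have : e * 2 ≤ e * k := Nat.mul_le_mul_left _ (by omega)
      omega
    have hk' : k = 0 ∨ k = 1 := by omega
    rcases hk' with rfl | rfl
    · right; left
      exact (Submodule.eq_of_le_of_finrank_eq h6 (by omega)).symm
    · right; right; right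
      exact Submodule.eq_top_of_finrank_eq (by omega)

/-- `z` centralises a normalised `ℓ`-subgroup `T`, `ℓ` the characteristic, if `C_V(T)` is `V2` or `V4`. -/
theorem cent_char (hB : Frm B) (hadd : ∀ x y z, B (x + y) z = B x z + B y z)
    (hGB : ∀ g u v, B (φ g u) (φ g v) = B u v) {ℓ : ℕ} (hℓ : ℓ.Prime) (hℓF : ℓ ∣ Fintype.card F) {T : Subgroup G}
    (hT : IsPGroup ℓ T) (h : fixSub φ T = ⊤ ∨ fixSub φ T = fixS (φ z) ∨ fixSub φ T = LinearMap.range (φ z - 1)) :
    ∀ u ∈ T, z * u = u * z := by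
  obtain ⟨h1, h2, h3⟩ := facts_of hφ hp hpF h2e hz
  intro u hu
  apply hφ
  rw [map_mul, map_mul]
  rcases h with h | h | h
  · have h4 : φ u = 1 := by
      ext v
      have : v ∈ fixSub φ T := by rw [h]; trivial
      exact this u hu
    rw [h4, mul_one, one_mul]
  · exfalso
    -- `V4` is `T`-invariant
    have hinv : ∀ g ∈ T, ∀ a ∈ LinearMap.range (φ z - 1), φ g a ∈ LinearMap.range (φ z - 1) := by
      intro g hg a ha
      refine mem_range_of_perp hφ hp hpF h2e hz hB hGB fun c hc => ?_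
      have h4 : φ g c = c := by
        rw [← h] at hc
        exact hc g hg
      rw [← h4, hGB, perp_fix_range hB hGB hc ha]
    have h4 := fixSub_inf_ne_bot φ hℓ hℓF hT (LinearMap.range (φ z - 1)) hinv (by
      intro h5
      rw [h5, finrank_bot] at h1
      omega)
    rw [h, h2] at h4
    exact h4 rfl
  · apply LinearMap.ext
    intro x
    obtain ⟨a, ha, c, hc, rfl⟩ := Submodule.mem_sup.1 (show x ∈ LinearMap.range (φ z - 1) ⊔ fixS (φ z) by
      rw [h3]; trivial)
    have hua : ∀ b ∈ LinearMap.range (φ z - 1), φ u b = b := by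
      intro b hb
      rw [← h] at hb
      exact hb u hu
    have hza : φ z a ∈ LinearMap.range (φ z - 1) := by
      obtain ⟨w, rfl⟩ := ha
      refine ⟨φ z w, ?_⟩
      simp only [LinearMap.sub_apply, Module.End.one_apply, map_sub]
    have huc : φ u c ∈ fixS (φ z) := by
      refine mem_fix_of_perp hφ hp hpF h2e hz hB hadd hGB fun b hb => ?_
      rw [← hua b hb, hGB, perp_fix_range hB hGB hc hb]
    simp only [Module.End.mul_apply, Module.End.mul_apply, map_add, map_add, map_add, map_add, hua a ha, hua _ hza,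
      show φ z c = c from hc, show φ z (φ u c) = φ u c from huc]

omit h2e hz hp hpF hφ in
theorem eq_one_of_ne_zero (hF : Fintype.card F = 2) {t : F} (ht : t ≠ 0) : t = 1 := by
  classical
  have h1 : ({0, 1} : Finset F) = Finset.univ :=
    Finset.eq_univ_of_card _ (by rw [Finset.card_pair zero_ne_one, hF])
  have h2 : t ∈ ({0, 1} : Finset F) := by rw [h1]; exact Finset.mem_univ t
  rw [Finset.mem_insert, Finset.mem_singleton] at h2
  exact h2.resolve_left ht

omit h2e hz hp hpF hφ in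
/-- `U ∩ V2` is trivial or `V2` -/
theorem inf_cases (hF : Fintype.card F = 2) (h2 : finrank F (fixS (φ z)) = 2) {w : G} (hwz : w * z = z * w)
    (hfix : ∀ v, φ z v = v → φ w v = v → v = 0) (U : Submodule F V) (hU : ∀ v ∈ U, φ w v ∈ U) :
    U ⊓ fixS (φ z) = ⊥ ∨ fixS (φ z) ≤ U := by
  have hw : ∀ v ∈ fixS (φ z), φ w v ∈ fixS (φ z) := fixS_invariant (by rw [← map_mul, ← map_mul, hwz])
  have hle : finrank F ↥(U ⊓ fixS (φ z)) ≤ 2 := h2 ▸ Submodule.finrank_mono inf_le_right
  have hc : finrank F ↥(U ⊓ fixS (φ z)) = 0 ∨ finrank F ↥(U ⊓ fixS (φ z)) = 1 ∨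
      finrank F ↥(U ⊓ fixS (φ z)) = 2 := by omega
  rcases hc with h | h | h
  · exact Or.inl (Submodule.finrank_eq_zero.1 h)
  · exfalso
    obtain ⟨c, hc0, hc⟩ := finrank_eq_one_iff'.1 h
    obtain ⟨t, ht⟩ := hc ⟨φ w c, hU _ c.2.1, hw _ c.2.2⟩
    have ht' : t • (c : V) = φ w c := congrArg Subtype.val ht
    have ht0 : t ≠ 0 := by
      rintro rfl
      rw [zero_smul] at ht'
      apply hc0
      apply Subtype.ext
      have h3 : φ w⁻¹ (φ w c) = c := by
        rw [← Module.End.mul_apply, ← map_mul, inv_mul_cancel, map_one]; rfl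
      rw [← h3, ← ht', map_zero]
      rfl
    rw [eq_one_of_ne_zero hF ht0, one_smul] at ht'
    exact hc0 (Subtype.ext (hfix _ c.2.2 ht'.symm))
  · right
    have h3 : U ⊓ fixS (φ z) = fixS (φ z) := Submodule.eq_of_le_of_finrank_eq inf_le_right (by omega)
    exact inf_eq_right.1 h3

/-- `|K1| ≤ 9` -/
theorem card_K1_le_nine (hF : Fintype.card F = 2) (h2 : finrank F (fixS (φ z)) = 2) : Nat.card (K1 φ z) ≤ 9 := by
  classical
  let b : Basis (Fin 2) F (fixS (φ z)) := finBasisOfFinrankEq F _ h2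
  have hV : Finite V := Module.finite_of_finite F
  have hinj : ∀ (g : G) (v : V), φ g v = 0 → v = 0 := by
    intro g v h
    have h3 : φ g⁻¹ (φ g v) = v := by
      rw [← Module.End.mul_apply, ← map_mul, inv_mul_cancel, map_one]; rfl
    rw [← h3, h, map_zero]
  let f : K1 φ z → (Fin 2 → {x : fixS (φ z) // x ≠ 0}) := fun g i =>
    ⟨⟨φ g (b i), K1_fixS_invariant g.2 _ (b i).2⟩, fun h => b.ne_zero i
      (Subtype.ext (hinj g _ (congrArg Subtype.val h)))⟩
  have hf : Function.Injective f := by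
    intro g h hgh
    have h3 : ∀ c ∈ fixS (φ z), φ ((h : G)⁻¹ * g) c = c := by
      intro c hc
      have h4 : ∀ c : fixS (φ z), φ (g : G) (c : V) = φ (h : G) c := by
        intro c
        have h5 : ((φ (g : G)).comp (fixS (φ z)).subtype) = ((φ (h : G)).comp (fixS (φ z)).subtype) := by
          apply b.ext
          intro i
          have h6 := congrFun hgh i
          exact congrArg (fun u : {x : fixS (φ z) // x ≠ 0} => ((u : fixS (φ z)) : V)) h6
        exact LinearMap.congr_fun h5 c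
      rw [map_mul, Module.End.mul_apply, h4 ⟨c, hc⟩, ← Module.End.mul_apply, ← map_mul, inv_mul_cancel, map_one]
      rfl
    have h4 := eq_one_of_mem_K1 hφ hp hpF h2e hz (mul_mem (inv_mem h.2) g.2) h3
    exact Subtype.ext (inv_mul_eq_one.1 h4).symm
  refine (Nat.card_le_card_of_injective f hf).trans ?_
  have h4 : Nat.card (fixS (φ z)) = 4 := by
    rw [Module.natCard_eq_pow_finrank (K := F), h2, Nat.card_eq_fintype_card, hF]
    norm_num
  have h5 : Nat.card {x : fixS (φ z) // x ≠ 0} = 3 := by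
    have := Fintype.ofFinite (fixS (φ z))
    have h6 : Nat.card {x : fixS (φ z) // x = 0} = 1 := Nat.card_eq_one_iff_unique.2
      ⟨⟨fun a b => Subtype.ext (a.2.trans b.2.symm)⟩, ⟨⟨0, rfl⟩⟩⟩
    rw [Nat.card_eq_fintype_card] at h4 h6 ⊢
    rw [Fintype.card_subtype_compl, h6, h4]
  rw [Nat.card_fun, h5, Nat.card_eq_fintype_card, Fintype.card_fin]
  norm_num

end

section

open Matrix SpSix Cfsg.Agent.H965.AS

theorem ord_three_five : orderOf ((3 : ℕ) : ZMod 5) = 4 :=
  orderOf_eq_of (by norm_num) (by norm_num) (by norm_num) fun i h1 h2 => by interval_cases i <;> norm_num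

theorem ord_seven_five : orderOf ((7 : ℕ) : ZMod 5) = 4 :=
  orderOf_eq_of (by norm_num) (by norm_num) (by norm_num) fun i h1 h2 => by interval_cases i <;> norm_num

theorem ord_two_five : orderOf ((2 : ℕ) : ZMod 5) = 4 :=
  orderOf_eq_of (by norm_num) (by norm_num) (by norm_num) fun i h1 h2 => by interval_cases i <;> norm_num

/-- **`AS2` for `PSp_6(2)`.** -/
theorem as2_psp_six_two {F : Type} [Field F] [Fintype F] (hF : Fintype.card F = 2) [IsSimpleGroup (Cfsg.PSp 3 F)]
    (hna : ¬ IsMulCommutative (Cfsg.PSp 3 F)) : AS2 (Cfsg.PSp 3 F) := by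
  classical
  have hpf : Fact (Nat.Prime 2) := ⟨Nat.prime_two⟩
  have hcharP : CharP F 2 := charP_of_card_eq_prime hF
  have h2 : (2 : F) = 0 := by
    have := CharP.cast_eq_zero F 2
    exact_mod_cast this
  have hp5 : Nat.Prime 5 := by norm_num
  have hfinG : Finite (Matrix.symplecticGroup (Fin 3) F) := Subtype.finite
  have hfinK : Finite (Cfsg.PSp 3 F) := inferInstance
  have hcG : Nat.card (Matrix.symplecticGroup (Fin 3) F) = 1451520 := by
    rw [Cfsg.Agent.S0245.result hF 3]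
    simp only [Finset.prod_range_succ, Finset.prod_range_zero]
    norm_num
  have hcZ : Nat.card (Subgroup.center (Matrix.symplecticGroup (Fin 3) F)) = 1 := by
    rw [Cfsg.Agent.S0246.result hF 3 (by norm_num)]
    norm_num
  have hcK : Nat.card (Cfsg.PSp 3 F) = 1451520 := by
    have h6 : Nat.card (Matrix.symplecticGroup (Fin 3) F) =
        Nat.card (Cfsg.PSp 3 F) * Nat.card (Subgroup.center (Matrix.symplecticGroup (Fin 3) F)) :=
      Subgroup.card_eq_card_quotient_mul_card_subgroup _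
    rw [hcZ, hcG, mul_one] at h6
    exact h6.symm
  have hZ : Subgroup.center (Cfsg.PSp 3 F) = ⊥ := by
    rcases (inferInstance : (Subgroup.center (Cfsg.PSp 3 F)).Normal).eq_bot_or_eq_top with h1 | h1
    · exact h1
    · exfalso
      apply hna
      refine ⟨⟨fun a b => ?_⟩⟩
      have : b ∈ Subgroup.center (Cfsg.PSp 3 F) := by rw [h1]; trivial
      exact Subgroup.mem_center_iff.1 this a
  have hout : Nat.card (Cfsg.Out (Cfsg.PSp 3 F)) = 1 := by
    rw [H163.PG.card_out_psp (f := 1) Nat.prime_two le_rfl (by rw [hF]; rfl) (by norm_num) (fun h => by omega) hZ]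
    norm_num
  have hd : finrank F (Fin 3 ⊕ Fin 3 → F) = 6 := finrank_sum_fin
  set φ := matRep (spHom 3 F) with hφdef
  have hφ : Function.Injective φ := matRep_injective (spHom_injective _ _)
  have hB : Frm (spB 3 F) := frm_sp 3 h2
  have hadd : ∀ x y z, spB 3 F (x + y) z = spB 3 F x z + spB 3 F y z := fun x y z => by
    rw [spB_sym 3 h2 (x + y), spB_sym 3 h2 x, spB_sym 3 h2 y, hB.add]
  have hGB := spB_isom (F := F) 3
  have h5F : ¬ 5 ∣ Fintype.card F := by rw [hF]; norm_num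
  have hord : orderOf ((Fintype.card F : ℕ) : ZMod 5) = 4 := by rw [hF]; exact ord_two_five
  have h2e : finrank F (Fin 3 ⊕ Fin 3 → F) < 2 * orderOf ((Fintype.card F : ℕ) : ZMod 5) := by rw [hord, hd]; norm_num
  -- the element
  let f : ZMod 2 →+* F := ZMod.castHom (dvd_refl 2) F
  have hfinj : Function.Injective (f.mapMatrix : Mt (ZMod 2) →+* Mt F) := by
    intro a b hab
    ext i j
    have h3 : (f.mapMatrix a) i j = (f.mapMatrix b) i j := by rw [hab]
    exact f.injective h3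
  have hyJ : f.mapMatrix Y0 * Matrix.J (Fin 3) F * (f.mapMatrix Y0)ᵀ = Matrix.J (Fin 3) F := by
    have h3 : f.mapMatrix (Matrix.J (Fin 3) (ZMod 2)) = Matrix.J (Fin 3) F := by
      unfold Matrix.J
      rw [RingHom.mapMatrix_apply, Matrix.fromBlocks_map]
      congr 1
      · ext i j; simp
      · ext i j
        simp only [Matrix.map_apply, Matrix.neg_apply, Matrix.one_apply]
        split_ifs
        · rw [map_neg, map_one]
        · rw [map_neg, map_zero]
      · ext i j
        simp [Matrix.one_apply, apply_ite f]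
      · ext i j; simp
    have h4 : f.mapMatrix Y0ᵀ = (f.mapMatrix Y0)ᵀ := by
      rw [RingHom.mapMatrix_apply, RingHom.mapMatrix_apply, Matrix.transpose_map]
    rw [← h3, ← h4, ← map_mul, ← map_mul, symp]
  let y : Matrix.symplecticGroup (Fin 3) F := ⟨f.mapMatrix Y0, by rw [SymplecticGroup.mem_iff]; exact hyJ⟩
  have hyv : (y : Mt F) = f.mapMatrix Y0 := rfl
  have hzv : ((y ^ 3 : Matrix.symplecticGroup (Fin 3) F) : Mt F) = f.mapMatrix Z0 := by
    rw [SubmonoidClass.coe_pow, hyv, ← map_pow, pow_succ, pow_two, yy, yyy]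
  have hwv : ((y ^ 5 : Matrix.symplecticGroup (Fin 3) F) : Mt F) = f.mapMatrix W0 := by
    rw [SubmonoidClass.coe_pow, hyv, ← map_pow, show (5 : ℕ) = 3 + 2 by norm_num, pow_add, pow_two, pow_succ, pow_two,
      yy, yyy, zyy]
  have hz : orderOf (y ^ 3) = 5 := by
    have : Fact (Nat.Prime 5) := ⟨hp5⟩
    apply orderOf_eq_prime
    · apply Subtype.ext
      rw [SubmonoidClass.coe_pow, hzv, ← map_pow, show (5 : ℕ) = 2 + 2 + 1 by norm_num, pow_add, pow_add, pow_one,
        pow_two, zz, zzzzz, map_one]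
      rfl
    · intro h
      have h3 := congrArg Subtype.val h
      rw [hzv] at h3
      exact z_ne (hfinj (h3.trans (map_one _).symm))
  have hw : orderOf (y ^ 5) = 3 := by
    have : Fact (Nat.Prime 3) := ⟨Nat.prime_three⟩
    apply orderOf_eq_prime
    · apply Subtype.ext
      rw [SubmonoidClass.coe_pow, hwv, ← map_pow, pow_succ, pow_two, www, map_one]
      rfl
    · intro h
      have h3 := congrArg Subtype.val h
      rw [hwv] at h3
      exact w_ne (hfinj (h3.trans (map_one _).symm))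
  have hfix1 : ∀ v, φ y v = v → v = 0 := by
    intro v hv
    have h3 : (f.mapMatrix Y0) *ᵥ v = v := hv
    have h4 : (f.mapMatrix (Y0 - 1)) *ᵥ v = 0 := by
      rw [map_sub, map_one, sub_mulVec, one_mulVec, h3, sub_self]
    have h5 : (f.mapMatrix (N0 * (Y0 - 1))) *ᵥ v = 0 := by
      rw [map_mul, ← mulVec_mulVec, h4, mulVec_zero]
    rw [ny, map_one, one_mulVec] at h5
    exact h5
  have hfix : ∀ v, φ (y ^ 3) v = v → φ (y ^ 5) v = v → v = 0 := by
    intro v h3 h5
    apply hfix1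
    have h6 : φ (y ^ 6) v = v := by
      rw [show (6 : ℕ) = 3 + 3 by norm_num, pow_add, map_mul, Module.End.mul_apply, h3, h3]
    have h7 : φ (y ^ 6) v = φ y (φ (y ^ 5) v) := by
      rw [show (6 : ℕ) = 1 + 5 by norm_num, pow_add, pow_one, map_mul, Module.End.mul_apply]
    rw [h5] at h7
    rw [← h7, h6]
  have hfr : ∀ z : Matrix.symplecticGroup (Fin 3) F, orderOf z = 5 → finrank F (fixS (φ z)) = 2 := by
    intro z hz
    have h3 := finrank_fixS hφ hp5 h5F h2e hz
    rw [hord, hd] at h3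
    omega
  -- `SUg`
  have hsu : SUg 5 y := by
    refine sug_of hp5 hz (Subgroup.npow_mem_zpowers y 3) (by rw [hcG]; norm_num) ?_
    intro M hM hyM t ht ht5 T hTM hT hTn
    have hzM : y ^ 3 ∈ M := pow_mem hyM 3
    have hwM : y ^ 5 ∈ M := pow_mem hyM 5
    have hfr2 := hfr _ hz
    have hTG : Nat.card T ∣ 1451520 := hcG ▸ Subgroup.card_subgroup_dvd_card T
    by_cases ht2 : t = 2
    · subst ht2
      have hUinv : ∀ g ∈ M, ∀ v ∈ fixSub φ T, φ g v ∈ fixSub φ T := fun g hg => fixSub_invariant fun n hn => by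
        have := hTn g⁻¹ (inv_mem hg) n hn
        rwa [inv_inv] at this
      have hU0 : fixSub φ T ≠ ⊥ := by
        have h3 := fixSub_inf_ne_bot φ Nat.prime_two (by rw [hF]) hT ⊤ (fun _ _ _ _ => trivial) (by
          intro h
          have h1 : finrank F (⊤ : Submodule F (Fin 3 ⊕ Fin 3 → F)) = 0 := by rw [h, finrank_bot]
          rw [finrank_top, hd] at h1
          omega)
        rwa [top_inf_eq] at h3
      have h3 := inf_cases hF hfr2 (w := y ^ 5) (by rw [← pow_add, ← pow_add]) hfix (fixSub φ T)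
        (hUinv _ hwM)
      have h4 := inv_cases hφ hp5 h5F h2e hz (fixSub φ T) (hUinv _ hzM) h3
      refine cent_char hφ hp5 h5F h2e hz hB hadd hGB Nat.prime_two (by rw [hF]) hT ?_
      rcases h4 with h4 | h4 | h4 | h4
      · exact absurd h4 hU0
      · exact Or.inr (Or.inl h4)
      · exact Or.inr (Or.inr h4)
      · exact Or.inl h4
    · rcases cent_or_dvd hp5 ht ht5 hz T hT (hTn _ hzM) with h3 | h3
      · exact h3
      · exfalso
        have h4 := h3.trans hTG
        have htd : t ∣ 1451520 := by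
          refine dvd_trans (dvd_trans (dvd_pow_self t ?_) (Dvd.intro _ rfl)) h4
          intro h0
          rw [orderOf_eq_zero_iff'] at h0
          have : Fact (Nat.Prime 5) := ⟨hp5⟩
          have h5 : ((t : ℕ) : ZMod 5) ≠ 0 := by
            intro h6
            rw [ZMod.natCast_eq_zero_iff] at h6
            exact ht5 ((Nat.prime_dvd_prime_iff_eq hp5 ht).1 h6).symm
          exact h0 4 (by norm_num) (ZMod.pow_card_sub_one_eq_one h5)
        by_cases ht3 : t = 3
        · subst ht3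
          rw [ord_three_five] at h3 h4
          have hpf3 : Fact (Nat.Prime 3) := ⟨Nat.prime_three⟩
          -- `|T| = 81`
          have hle : ∀ P : Subgroup (Matrix.symplecticGroup (Fin 3) F), IsPGroup 3 P → Nat.card P ≤ 81 := by
            intro P hP
            obtain ⟨k, hk⟩ := IsPGroup.iff_card.1 hP
            have h5 : Nat.card P ∣ 1451520 := hcG ▸ Subgroup.card_subgroup_dvd_card P
            rw [hk] at h5 ⊢
            have h6 : k ≤ 4 := by
              by_contra hcon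
              have h7 : 3 ^ 5 ∣ 1451520 := (pow_dvd_pow 3 (by omega)).trans h5
              norm_num at h7
            calc 3 ^ k ≤ 3 ^ 4 := Nat.pow_le_pow_right (by norm_num) h6
              _ = 81 := by norm_num
          have hT81 : 81 * Nat.card ↥(T ⊓ Subgroup.centralizer {y ^ 3}) ≤ Nat.card T := by
            have h81 : (3 : ℕ) ^ 4 = 81 := by norm_num
            rw [h81] at h3
            exact Nat.le_of_dvd Nat.card_pos h3
          have hTle := hle T hT
          have hc1 : 0 < Nat.card ↥(T ⊓ Subgroup.centralizer {y ^ 3}) := Nat.card_pos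
          have hc : Nat.card ↥(T ⊓ Subgroup.centralizer {y ^ 3}) = 1 := by omega
          -- `y ^ 5 ∈ T`
          have hwn : Subgroup.zpowers (y ^ 5) ≤ Subgroup.normalizer (T : Set (Matrix.symplecticGroup (Fin 3) F)) := by
            rw [Subgroup.zpowers_le, Subgroup.mem_normalizer_iff_map_conj_eq]
            refine Subgroup.eq_of_le_of_card_ge ?_
              (le_of_eq (Subgroup.card_map_of_injective (MulAut.conj (y ^ 5)).injective).symm)
            rintro _ ⟨v, hv, rfl⟩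
            exact hTn _ hwM v hv
          have hP : IsPGroup 3 ↥(T ⊔ Subgroup.zpowers (y ^ 5)) := by
            have h5 : IsPGroup 3 (Subgroup.zpowers (y ^ 5)) :=
              IsPGroup.of_card (n := 1) (by rw [Nat.card_zpowers, hw, pow_one])
            rw [sup_comm]
            exact h5.to_sup_of_normal_right' hT hwn
          have h5 : T = T ⊔ Subgroup.zpowers (y ^ 5) :=
            Subgroup.eq_of_le_of_card_ge le_sup_left ((hle _ hP).trans (by omega))
          have h6 : y ^ 5 ∈ T := by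
            rw [h5]
            exact Subgroup.mem_sup_right (Subgroup.mem_zpowers _)
          have h7 : y ^ 5 ∈ Subgroup.centralizer {y ^ 3} :=
            Subgroup.mem_centralizer_singleton_iff.2 (by rw [← pow_add, ← pow_add])
          have h7' : y ^ 5 ∈ T ⊓ Subgroup.centralizer {y ^ 3} := ⟨h6, h7⟩
          rw [Subgroup.card_eq_one.1 hc] at h7'
          have h8 : y ^ 5 = 1 := Subgroup.mem_bot.1 h7'
          rw [h8, orderOf_one] at hw
          omega
        · have h5 : t = 7 := by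
            have h6 : t ∣ 2 ^ 9 * (3 ^ 4 * (5 * 7)) := by norm_num; exact htd
            rcases (Nat.Prime.dvd_mul ht).1 h6 with h7 | h7
            · exact absurd ((Nat.prime_dvd_prime_iff_eq ht Nat.prime_two).1 (ht.dvd_of_dvd_pow h7)) ht2
            rcases (Nat.Prime.dvd_mul ht).1 h7 with h8 | h8
            · exact absurd ((Nat.prime_dvd_prime_iff_eq ht Nat.prime_three).1 (ht.dvd_of_dvd_pow h8)) ht3
            rcases (Nat.Prime.dvd_mul ht).1 h8 with h9 | h9
            · exact absurd ((Nat.prime_dvd_prime_iff_eq ht hp5).1 h9) ht5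
            · exact (Nat.prime_dvd_prime_iff_eq ht (by norm_num)).1 h9
          subst h5
          rw [ord_seven_five] at h4
          have h6 : 7 ^ 4 ∣ 1451520 := (Dvd.intro _ rfl).trans h4
          norm_num at h6
  -- transport
  have hker : (QuotientGroup.mk' (Subgroup.center (Matrix.symplecticGroup (Fin 3) F))).ker = ⊥ := by
    rw [QuotientGroup.ker_mk']
    exact Subgroup.card_eq_one.1 hcZ
  let e : Matrix.symplecticGroup (Fin 3) F ≃* Cfsg.PSp 3 F :=
    MulEquiv.ofBijective (QuotientGroup.mk' (Subgroup.center (Matrix.symplecticGroup (Fin 3) F)))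
      ⟨(MonoidHom.ker_eq_bot_iff _).1 hker, QuotientGroup.mk'_surjective _⟩
  have hr : GRow (Cfsg.PSp 3 F) 5 (e y) (e (y ^ 3)) :=
    { hp := hp5
      h5 := le_rfl
      ord := by rw [MulEquiv.orderOf_eq, hz]
      mem := by rw [map_pow]; exact Subgroup.npow_mem_zpowers _ 3
      su := hsu.congr e
      full := by rw [hcK]; norm_num
      out := by rw [hout]; norm_num }
  have hcent := cent_quot (G := Matrix.symplecticGroup (Fin 3) F) (p := 5) hp5 (by rw [hcZ]; norm_num) (c := 45)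
    fun z hz => by
      have h3 := cent_le φ hφ hB hadd (RingHom.id F) (fun c x y => by
        rw [spB_sym 3 h2, hB.smul, spB_sym 3 h2 y]; rfl) hGB hp5 h5F h2e hz (Q := 4) (by rw [hord, hF]; norm_num)
      have h4 := card_K1_le_nine hφ hp5 h5F h2e hz hF (hfr z hz)
      omega
  refine of_lt_g hna hr (c := 45) ?_ (fun H hH => (Cfsg.Agent.S2142.result hF 3 le_rfl).1 H hH) (by norm_num)
  have h3 := hcent (e (y ^ 3)) (by
    have := hr.ord
    exact this)
  rw [hcZ, mul_one] at h3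
  exact h3

end

end Cfsg.Agent.H479.AS
end

private theorem dce_622d4a7bbcb5 : _root_.True := by
  try have : _root_.True := by simp only [_root_.Cfsg.POmega.congr_simp]
  exact _root_.True.intro
end

-- part: H479/AS/AntiCnt
section
set_option linter.all false
open scoped Cfsg.Agent.FastGrp

/-!
# Counting antiflags (helper479)
-/

set_option autoImplicit false
set_option linter.unusedSectionVars false

namespace Cfsg.Agent.H479.AS

open Module Matrix Cfsg.Agent.H518.SU

universe u v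

/-- **Frames**: `AS2` by counting in a set of frames. -/
theorem of_frames {S : Type u} [Group S] {Ω : Type v} [Finite Ω] (s : Ω → S)
    (h : ∀ x : MulAut S, x ≠ 1 → ∃ B : Set Ω,
      (∀ ω, Group.IsSolvable (Subgroup.closure ({x, MulAut.conj (s ω)} : Set (MulAut S))) → ω ∈ B) ∧
        2 * B.ncard < Nat.card Ω) : Cfsg.Agent.H965.AS.AS2 S := by
  classical
  intro a b ha hb
  by_contra hcon
  push Not at hcon
  obtain ⟨B, hB, hBc⟩ := h a ha
  obtain ⟨C, hC, hCc⟩ := h b hb
  have h1 : B ∪ C = Set.univ := by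
    rw [Set.eq_univ_iff_forall]
    intro ω
    by_cases hω : Group.IsSolvable (Subgroup.closure ({a, MulAut.conj (s ω)} : Set (MulAut S)))
    · exact Or.inl (hB ω hω)
    · exact Or.inr (hC ω (hcon _ hω))
  have h2 := Set.ncard_union_le B C
  rw [h1, Set.ncard_univ] at h2
  omega

theorem ncard_le_of_fiber {α β : Type*} [Finite α] [Finite β] (B : Set α) (g : α → β) (T : Set β) (m : ℕ)
    (hT : ∀ a ∈ B, g a ∈ T) (hm : ∀ b ∈ T, ({a | a ∈ B ∧ g a = b} : Set α).ncard ≤ m) :
    B.ncard ≤ m * T.ncard := by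
  classical
  have := Fintype.ofFinite α
  have := Fintype.ofFinite β
  rw [Set.ncard_eq_toFinset_card' B, Set.ncard_eq_toFinset_card' T]
  refine Finset.card_le_mul_card_image_of_maps_to (f := g) (fun a ha => ?_) m fun b hb => ?_
  · rw [Set.mem_toFinset] at ha ⊢
    exact hT a ha
  · rw [Set.mem_toFinset] at hb
    refine le_trans (le_of_eq ?_) (hm b hb)
    rw [Set.ncard_eq_toFinset_card']
    congr 1
    ext a
    simp

theorem le_ncard_of_fiber {α β : Type*} [Finite α] [Finite β] (B : Set α) (g : α → β) (T : Set β) (m : ℕ)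
    (hT : ∀ a ∈ B, g a ∈ T) (hm : ∀ b ∈ T, m ≤ ({a | a ∈ B ∧ g a = b} : Set α).ncard) :
    m * T.ncard ≤ B.ncard := by
  classical
  have := Fintype.ofFinite α
  have := Fintype.ofFinite β
  rw [Set.ncard_eq_toFinset_card' B, Set.ncard_eq_toFinset_card' T]
  refine Finset.mul_card_image_le_card_of_maps_to (f := g) (fun a ha => ?_) m fun b hb => ?_
  · rw [Set.mem_toFinset] at ha ⊢
    exact hT a ha
  · rw [Set.mem_toFinset] at hb
    refine le_trans (hm b hb) (le_of_eq ?_)
    rw [Set.ncard_eq_toFinset_card']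
    congr 1
    ext a
    simp

section

variable {F : Type} [Field F] [Fintype F] {n : ℕ}

theorem finrank_ker_dl {a : Fin n → F} (ha : a ≠ 0) : finrank F (LinearMap.ker (dl a)) + 1 = n := by
  classical
  obtain ⟨i, hi⟩ : ∃ i, a i ≠ 0 := by
    by_contra hcon
    push Not at hcon
    exact ha (funext hcon)
  have hv₁ : a ⬝ᵥ Pi.single i 1 ≠ 0 := by simpa using hi
  have h1 := LinearMap.finrank_range_add_finrank_ker (dl a)
  rw [finrank_fin_fun] at h1
  have h2 : LinearMap.range (dl a) = ⊤ := by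
    rw [LinearMap.range_eq_top]
    intro t
    refine ⟨(t / (a ⬝ᵥ Pi.single i 1)) • Pi.single i 1, ?_⟩
    rw [dl_apply, dotProduct_smul, smul_eq_mul, div_mul_cancel₀ _ hv₁]
  rw [h2, finrank_top, finrank_self] at h1
  omega

/-- the number of vectors off a hyperplane -/
theorem ncard_off {a : Fin n → F} (ha : a ≠ 0) :
    ({w | a ⬝ᵥ w ≠ 0} : Set (Fin n → F)).ncard = Fintype.card F ^ n - Fintype.card F ^ (n - 1) := by
  classical
  have h1 : ({w | a ⬝ᵥ w ≠ 0} : Set (Fin n → F)) = ((LinearMap.ker (dl a) : Submodule F (Fin n → F)) : Set _)ᶜ := by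
    ext w
    simp only [Set.mem_ofPred_eq, Set.mem_compl_iff, SetLike.mem_coe, LinearMap.mem_ker, dl_apply, ne_eq]
  have h2 := Set.ncard_add_ncard_compl ((LinearMap.ker (dl a) : Submodule F (Fin n → F)) : Set (Fin n → F))
  have h3 : (((LinearMap.ker (dl a) : Submodule F (Fin n → F)) : Set (Fin n → F))).ncard =
      Fintype.card F ^ (n - 1) := by
    have h4 := Module.natCard_eq_pow_finrank (K := F) (V := LinearMap.ker (dl a))
    have h5 := finrank_ker_dl ha
    rw [show finrank F (LinearMap.ker (dl a)) = n - 1 by omega, Nat.card_eq_fintype_card (α := F)] at h4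
    exact h4
  have h4 : Nat.card (Fin n → F) = Fintype.card F ^ n := by
    rw [Module.natCard_eq_pow_finrank (K := F), Nat.card_eq_fintype_card, finrank_fin_fun]
  rw [h1]
  omega

/-- antiflags: pairs of a vector `v` and a form `f` with `f v ≠ 0` -/
def AF (n : ℕ) (F : Type) [Field F] : Type := {p : (Fin n → F) × (Fin n → F) // p.2 ⬝ᵥ p.1 ≠ 0}

noncomputable instance finite_AF : Finite (AF n F) := by
  unfold AF
  infer_instance

theorem AF.v_ne (ω : AF n F) : ω.1.1 ≠ 0 := fun h => ω.2 (by rw [h, dotProduct_zero])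

theorem AF.f_ne (ω : AF n F) : ω.1.2 ≠ 0 := fun h => ω.2 (by rw [h, zero_dotProduct])

theorem ncard_ne_zero : ({v | v ≠ 0} : Set (Fin n → F)).ncard = Fintype.card F ^ n - 1 := by
  classical
  have h1 : ({v | v ≠ 0} : Set (Fin n → F)) = ({0} : Set (Fin n → F))ᶜ := by
    ext w
    simp
  have h2 := Set.ncard_add_ncard_compl ({0} : Set (Fin n → F))
  have h4 : Nat.card (Fin n → F) = Fintype.card F ^ n := by
    rw [Module.natCard_eq_pow_finrank (K := F), Nat.card_eq_fintype_card, finrank_fin_fun]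
  rw [Set.ncard_singleton] at h2
  rw [h1]
  omega

theorem ncard_fiber_v {v : Fin n → F} (hv : v ≠ 0) :
    ({ω | ω.1.1 = v} : Set (AF n F)).ncard = Fintype.card F ^ n - Fintype.card F ^ (n - 1) := by
  rw [← ncard_off hv]
  have h1 : (fun ω : AF n F => ω.1.2) '' {ω | ω.1.1 = v} = {w | v ⬝ᵥ w ≠ 0} := by
    ext f
    constructor
    · rintro ⟨ω, hω, rfl⟩
      have h2 := ω.2
      rw [show ω.1.1 = v from hω, dotProduct_comm] at h2
      exact h2
    · intro hf
      exact ⟨⟨(v, f), by rw [dotProduct_comm]; exact hf⟩, rfl, rfl⟩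
  rw [← h1, Set.InjOn.ncard_image]
  intro a ha b hb hab
  exact Subtype.ext (Prod.ext ((show a.1.1 = v from ha).trans (show b.1.1 = v from hb).symm) hab)

theorem ncard_fiber_f {f : Fin n → F} (hf : f ≠ 0) :
    ({ω | ω.1.2 = f} : Set (AF n F)).ncard = Fintype.card F ^ n - Fintype.card F ^ (n - 1) := by
  rw [← ncard_off hf]
  have h1 : (fun ω : AF n F => ω.1.1) '' {ω | ω.1.2 = f} = {w | f ⬝ᵥ w ≠ 0} := by
    ext v
    constructor
    · rintro ⟨ω, hω, rfl⟩
      have h2 := ω.2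
      rw [show ω.1.2 = f from hω] at h2
      exact h2
    · intro hv
      exact ⟨⟨(v, f), hv⟩, rfl, rfl⟩
  rw [← h1, Set.InjOn.ncard_image]
  intro a ha b hb hab
  exact Subtype.ext (Prod.ext hab ((show a.1.2 = f from ha).trans (show b.1.2 = f from hb).symm))

theorem card_AF : (Fintype.card F ^ n - Fintype.card F ^ (n - 1)) * (Fintype.card F ^ n - 1) ≤ Nat.card (AF n F) := by
  rw [← Set.ncard_univ, ← ncard_ne_zero]
  refine le_ncard_of_fiber Set.univ (fun ω : AF n F => ω.1.1) _ _ (fun ω _ => ω.v_ne) fun v hv => ?_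
  rw [← ncard_fiber_v hv]
  apply le_of_eq
  congr 1
  ext ω
  simp

theorem ncard_B (V1 F1 : Set (Fin n → F)) :
    ({ω | ω.1.1 ∈ V1 ∨ ω.1.2 ∈ F1} : Set (AF n F)).ncard ≤
      (Fintype.card F ^ n - Fintype.card F ^ (n - 1)) * (V1.ncard + F1.ncard) := by
  have h1 : ({ω | ω.1.1 ∈ V1 ∨ ω.1.2 ∈ F1} : Set (AF n F)) = {ω | ω.1.1 ∈ V1} ∪ {ω | ω.1.2 ∈ F1} := rfl
  rw [h1, Nat.mul_add]
  refine (Set.ncard_union_le _ _).trans (Nat.add_le_add ?_ ?_)
  · refine ncard_le_of_fiber _ (fun ω : AF n F => ω.1.1) _ _ (fun ω h => h) fun v hv => ?_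
    by_cases h0 : v = 0
    · have h2 : ({a | a ∈ {ω : AF n F | ω.1.1 ∈ V1} ∧ a.1.1 = v} : Set (AF n F)) = ∅ := by
        rw [Set.eq_empty_iff_forall_notMem]
        rintro ω ⟨-, h⟩
        exact ω.v_ne (h.trans h0)
      rw [h2, Set.ncard_empty]
      exact Nat.zero_le _
    · rw [← ncard_fiber_v h0]
      exact Set.ncard_le_ncard (fun ω h => h.2) (Set.toFinite _)
  · refine ncard_le_of_fiber _ (fun ω : AF n F => ω.1.2) _ _ (fun ω h => h) fun v hv => ?_
    by_cases h0 : v = 0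
    · have h2 : ({a | a ∈ {ω : AF n F | ω.1.2 ∈ F1} ∧ a.1.2 = v} : Set (AF n F)) = ∅ := by
        rw [Set.eq_empty_iff_forall_notMem]
        rintro ω ⟨-, h⟩
        exact ω.f_ne (h.trans h0)
      rw [h2, Set.ncard_empty]
      exact Nat.zero_le _
    · rw [← ncard_fiber_f h0]
      exact Set.ncard_le_ncard (fun ω h => h.2) (Set.toFinite _)

theorem ncard_C (X : (Fin n → F) → Set (Fin n → F)) (k : ℕ) (hX : ∀ f, (X f).ncard ≤ k) :
    ({ω | ω.1.1 ∈ X ω.1.2} : Set (AF n F)).ncard ≤ k * (Fintype.card F ^ n - 1) := by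
  rw [← ncard_ne_zero]
  refine ncard_le_of_fiber _ (fun ω : AF n F => ω.1.2) _ _ (fun ω _ => ω.f_ne) fun f hf => ?_
  refine le_trans ?_ (hX f)
  have h1 : (fun ω : AF n F => ω.1.1) '' {a | a ∈ {ω : AF n F | ω.1.1 ∈ X ω.1.2} ∧ a.1.2 = f} ⊆ X f := by
    rintro _ ⟨ω, ⟨h1, h2⟩, rfl⟩
    rw [← h2]
    exact h1
  refine le_trans (le_of_eq ?_) (Set.ncard_le_ncard h1 (Set.toFinite _))
  rw [Set.InjOn.ncard_image]
  intro a ha b hb hab
  exact Subtype.ext (Prod.ext hab ((show a.1.2 = f from ha.2).trans (show b.1.2 = f from hb.2).symm))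

end

end Cfsg.Agent.H479.AS
end

-- part: H489/AS/TableB_mg
section
prune_inst 0x4004010000280020000000584410000100400000000008c00440102000200a00009000000000000014020010000040008100000800040000004000400000101000080040000000008820008000000000000000000000000000000000000000000000000000
set_option linter.all false
open scoped Cfsg.Agent.FastGrp

-- part: H489/AS/Wrap
section
/-!
# From the counting data to `AS2` (helper489)
-/

set_option autoImplicit false

universe u v w

namespace Cfsg.Agent.H489.AS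

open Module Cfsg.Agent.H518.SU Cfsg.Agent.H965.AS Cfsg.Agent.H965.SU

/-- `El` gives `SUel`. -/
theorem suel_of_el {K : Type u} [Group K] {p a : ℕ} (hp : p.Prime) (ha : 1 ≤ a) {y : K} (hy : orderOf y = p ^ a)
    (h : El p y) : Cfsg.Agent.H465.SU.SUel p y :=
  ⟨fun h1 => by
    rw [h1, orderOf_one] at hy
    exact (Nat.one_lt_pow (by omega) hp.one_lt).ne hy, ⟨a, hy⟩,
    fun M hM hyM A B hA hB hAc hBc => El.eq_of_card hp ha hy h M hM hyM A B hA hB hAc hBc⟩

/-- **The counting criterion.** -/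
theorem Cnt.as2 {K : Type u} [Group K] [Finite K] [IsSimpleGroup K] (hna : ¬ IsMulCommutative K) {g : ℕ}
    (h : Cnt g K) (hg : Nat.card (Cfsg.Out K) ∣ g) : AS2 K := by
  obtain ⟨p, a, b, hp, hp5, ha, hpg, hfull, ⟨y, hy, hel⟩, hb, hcent⟩ := h
  have hr : SURow K p a y :=
    { hp := hp
      odd := by omega
      ha := ha
      ord := hy
      su := suel_of_el hp ha hy hel
      full := hfull
      inn := fun β hβ => inner_of_card hp (fun h1 => hpg (h1.trans hg)) β hβ }
  have hz : orderOf (y ^ p ^ (a - 1)) = p := by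
    rw [orderOf_pow' _ (pow_pos hp.pos _).ne', hy]
    have h1 : p ^ a = p ^ (a - 1) * p := by rw [← pow_succ, Nat.sub_add_cancel ha]
    rw [h1, Nat.gcd_eq_right (Dvd.intro _ rfl), Nat.mul_div_cancel_left _ (pow_pos hp.pos _)]
  exact AS2.of_row hna hr hp5 (c := Nat.card (Subgroup.centralizer ({y ^ p ^ (a - 1)} : Set K))) le_rfl hb
    (hcent _ hz)

end Cfsg.Agent.H489.AS
end

-- part: H490/AS/PSp
section
/-!
# S3943, the counting data for `PSp_{2m}(q)` (helper490)
-/

set_option autoImplicit false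

namespace Cfsg.Agent.H490.AS

open Module Cfsg.Agent.H518.DghpFix Cfsg.Agent.H518.DghpPrim Cfsg.Agent.H518.DghpMat Cfsg.Agent.H518.SU
  Cfsg.Agent.H489.AS

universe u v w

/-- The symplectic form, in any characteristic. -/
theorem frm_sp' {F : Type} [Field F] (m : ℕ) : Frm (spB m F) where
  add x y z := by
    unfold spB
    rw [Matrix.mulVec_add, dotProduct_add]
  smul c x y := by
    unfold spB
    rw [Matrix.mulVec_smul, dotProduct_smul, smul_eq_mul]
  symm x y h := by
    have h1 : spB m F y x = - spB m F x y := by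
      rw [spB_eq, spB_eq, ← Finset.sum_neg_distrib]
      refine Finset.sum_congr rfl fun i _ => ?_
      ring
    rw [h1, h, neg_zero]
  nondeg x h := by
    funext i
    rcases i with i | i
    · have h1 := h (Pi.single (Sum.inr i) 1)
      rw [spB_eq] at h1
      simpa only [Pi.single_apply, _root_.Pi.zero_apply, _root_.ne_eq, _root_.reduceCtorEq, _root_.not_false_eq_true, _root_.Pi.single_eq_of_ne, _root_.MulZeroClass.mul_zero, _root_.Sum.inr.injEq, _root_.mul_ite, _root_.mul_one, _root_.zero_sub, _root_.Finset.sum_neg_distrib, _root_.Finset.sum_ite_eq', _root_.Finset.mem_univ, ↓ _root_.reduceIte, _root_.neg_eq_zero] using h1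
    · have h1 := h (Pi.single (Sum.inl i) 1)
      rw [spB_eq] at h1
      simpa only [Pi.single_apply, _root_.Pi.zero_apply, _root_.Sum.inl.injEq, _root_.mul_ite, _root_.mul_one, _root_.MulZeroClass.mul_zero, _root_.ne_eq, _root_.reduceCtorEq, _root_.not_false_eq_true, _root_.Pi.single_eq_of_ne, _root_.sub_zero, _root_.Finset.sum_ite_eq', _root_.Finset.mem_univ, ↓ _root_.reduceIte] using h1

/-- `K1` is trivial if the order of the field modulo `p` is the dimension. -/
theorem K1_irred {F : Type u} [Field F] [Fintype F] {V : Type v} [AddCommGroup V] [Module F V]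
    [FiniteDimensional F V] {G : Type w} [Group G] (φ : G →* (V →ₗ[F] V)) (hφ : Function.Injective φ) {p : ℕ}
    (hp : p.Prime) (hpF : ¬ p ∣ Fintype.card F)
    (he : orderOf ((Fintype.card F : ℕ) : ZMod p) = finrank F V) {z : G}
    (hz : orderOf z = p) : K1 φ z = ⊥ := by
  have hx : φ z ^ p ^ 1 = 1 := by rw [pow_one, ← map_pow, ← hz, pow_orderOf_eq_one, map_one]
  have hx1 : φ z ≠ 1 := by
    intro h
    have h1 : z = 1 := hφ (by rw [h, map_one])
    rw [h1, orderOf_one] at hz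
    exact hp.one_lt.ne hz
  have hcx : finrank F (fixS (φ z)) < finrank F V := by
    refine lt_of_le_of_ne (Submodule.finrank_le _) fun h => hx1 ?_
    exact fixS_eq_top_iff.1 (Submodule.eq_top_of_finrank_eq h)
  have h1 := finrank_fix hp hpF hx ⊤ (fun _ _ => trivial)
  rw [top_inf_eq, finrank_top, he] at h1
  have h2 := Nat.le_of_dvd (by omega) h1
  have h3 : fixS (φ z) = ⊥ := Submodule.finrank_eq_zero.1 (by omega)
  have hinj : Function.Injective (φ z - (1 : V →ₗ[F] V) : V →ₗ[F] V) := by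
    rw [injective_iff_map_eq_zero]
    intro v hv
    have h4 : v ∈ fixS (φ z) := by
      rw [mem_fixS]
      exact sub_eq_zero.1 hv
    rw [h3, Submodule.mem_bot] at h4
    exact h4
  have hsurj : Function.Surjective (φ z - (1 : V →ₗ[F] V) : V →ₗ[F] V) := LinearMap.injective_iff_surjective.1 hinj
  rw [Subgroup.eq_bot_iff_forall]
  intro g hg
  apply hφ
  rw [map_one]
  ext v
  obtain ⟨w, rfl⟩ := hsurj v
  exact (mem_K1.1 hg).2 w

/-- The counting data for the symplectic groups. -/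
theorem cnt_psp {F : Type} [Field F] [Fintype F] {m q p₀ f g : ℕ} (hg : Cond q f g) (hp₀ : p₀.Prime) (hf : 1 ≤ f)
    (hq : q = p₀ ^ f) (hF : Fintype.card F = q) (hm : 2 ≤ m) (h22 : ¬ (q = 2 ∧ m = 2)) (h26 : ¬ (q = 2 ∧ m = 3))
    (h34 : ¬ (q = 3 ∧ m = 2)) : Cnt g (Cfsg.PSp m F) := by
  have hq1 : 1 < q := hF ▸ Fintype.one_lt_card
  obtain ⟨p, a, ⟨hp, hp5, ha, hord, hdvd, hdvd', hpf⟩, hs⟩ := exists_pack_irred (e := 2 * m) hp₀ hf hq
    (by omega) (by omega) (by omega)
  have hpg : ¬ p ∣ g := hg p hp hp5 hpf (by omega)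
  have hd : finrank F (Fin m ⊕ Fin m → F) = 2 * m := finrank_sum_fin
  have hpq : ¬ p ∣ q := not_dvd_of_orderOf hp hord (by omega)
  obtain ⟨y, hy, hel⟩ := exists_el_irred (matRep (spHom m F)) (matRep_injective (spHom_injective _ _)) hp
    (by omega) ha (by rwa [hF]) (by rw [hF, hord, hd]) (by rw [hd]; omega)
    (by rw [hF, hd]; exact hs) (hdvd.trans (pow_sub_one_dvd_card_Sp hF (by omega) le_rfl))
  have hc : Nat.card (Subgroup.center (Matrix.symplecticGroup (Fin m) F)) = Nat.gcd 2 (q - 1) :=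
    Cfsg.Agent.S0246.result hF m (by omega)
  have hcp : ¬ p ∣ Nat.card (Subgroup.center (Matrix.symplecticGroup (Fin m) F)) := by
    rw [hc]
    exact fun h => not_dvd_pred (by omega) hord (by omega) (h.trans (Nat.gcd_dvd_right _ _))
  have hG : ¬ p ^ (a + 1) ∣ Nat.card (Matrix.symplecticGroup (Fin m) F) := by
    rw [Cfsg.Agent.S0245.result hF m]
    refine not_pow_dvd_mul_of_not_dvd hp (not_dvd_pow hp hpq) ?_
    refine not_pow_dvd_prod hp (Finset.range m) _ (m - 1) ?_ ?_ (Finset.mem_range.2 (by omega))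
    · have : m - 1 + 1 = m := by omega
      rw [this]
      exact hdvd'
    · intro i hi hi'
      have := Finset.mem_range.1 hi
      exact not_dvd_of_lt (by omega) hord (by omega) (by (clear * - hi' this; omega))
  -- the element
  have hk : (QuotientGroup.mk' (Subgroup.center (Matrix.symplecticGroup (Fin m) F))).ker =
      Subgroup.center (Matrix.symplecticGroup (Fin m) F) := QuotientGroup.ker_mk' _
  have hk' : ¬ p ∣ Nat.card (QuotientGroup.mk' (Subgroup.center (Matrix.symplecticGroup (Fin m) F))).ker := by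
    rwa [hk]
  have hel' : ∃ y : Cfsg.PSp m F, orderOf y = p ^ a ∧ El p y := by
    refine ⟨QuotientGroup.mk' (Subgroup.center (Matrix.symplecticGroup (Fin m) F)) y, orderOf_map hp hy _ hk',
      hel.map hp _ (QuotientGroup.mk'_surjective _) ?_ hk'⟩
    rw [hk]
    exact Group.isSolvable_of_comm fun a b => Subtype.ext ((Subgroup.mem_center_iff.1 b.2) a)
  have hG' : ¬ p ^ (a + 1) ∣ Nat.card (Cfsg.PSp m F) := by
    intro h
    apply hG
    rw [Subgroup.card_eq_card_quotient_mul_card_subgroup (Subgroup.center (Matrix.symplecticGroup (Fin m) F))]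
    exact Dvd.dvd.mul_right h _
  -- the centralizers
  have hcent : ∀ u : Cfsg.PSp m F, orderOf u = p → Nat.card (Subgroup.centralizer ({u} : Set (Cfsg.PSp m F))) ≤
      q ^ m + 1 := by
    intro u hu
    have h1 := cent_quot (G := Matrix.symplecticGroup (Fin m) F) hp hcp (c := q ^ m + 1) (fun z hz => ?_) u hu
    · rw [hc] at h1
      have h2 : 0 < Nat.gcd 2 (q - 1) := Nat.gcd_pos_of_pos_left _ (by norm_num)
      exact (Nat.le_mul_of_pos_right _ h2).trans h1
    · have h1 := cent_le (matRep (spHom m F)) (matRep_injective (spHom_injective _ _)) (frm_sp' (F := F) m)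
        (fun x y z => by unfold spB; rw [add_dotProduct]) (RingHom.id F)
        (fun c x y => by unfold spB; rw [smul_dotProduct]; rfl) (spB_isom m) hp (by rwa [hF])
        (by rw [hF, hord, hd]; omega) hz (Q := q ^ m) (by rw [hF, hord, ← pow_mul, mul_comm 2 m])
      rw [K1_irred (matRep (spHom m F)) (matRep_injective (spHom_injective _ _)) hp (by rwa [hF])
        (by rw [hF, hord, hd]) hz, Subgroup.card_bot, mul_one] at h1
      exact h1
  by_cases hq2 : q = 2
  · subst hq2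
    refine ⟨p, a, 2 ^ (m - 1) * (2 ^ m - 1), hp, hp5, ha, hpg, hG', hel', (Cfsg.Agent.S2142.result hF m (by omega)).1,
      fun u hu => (Nat.mul_le_mul_left 2 (hcent u hu)).trans ?_⟩
    obtain ⟨k, rfl⟩ : ∃ k, m = k + 4 := ⟨m - 4, by (clear * - hm h22 h26; omega)⟩
    have h1 : k + 4 - 1 = k + 3 := by omega
    have h2 : 1 ≤ 2 ^ k := Nat.one_le_pow _ _ (by omega)
    rw [h1]
    have h3 : 2 ^ (k + 4) - 1 ≥ 15 * 2 ^ k := by
      have : 2 ^ (k + 4) = 16 * 2 ^ k := by ring
      omega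
    calc 2 * (2 ^ (k + 4) + 1) ≤ 34 * 2 ^ k := by
          have : 2 ^ (k + 4) = 16 * 2 ^ k := by ring
          omega
      _ ≤ 2 ^ (k + 3) * (15 * 2 ^ k) := by
          have : 2 ^ (k + 3) = 8 * 2 ^ k := by ring
          rw [this]
          nlinarith only [h2]
      _ ≤ _ := Nat.mul_le_mul_left _ h3
  · refine ⟨p, a, (q ^ (2 * m) - 1) / (q - 1), hp, hp5, ha, hpg, hG', hel',
      (Cfsg.Agent.S2141.result hF m hm (by omega) (by omega)).1,
      fun u hu => (Nat.mul_le_mul_left 2 (hcent u hu)).trans ?_⟩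
    rw [Nat.le_div_iff_mul_le (by omega)]
    have h3 : q ^ (2 * m) - 1 = (q ^ m - 1) * (q ^ m + 1) := by
      have := Nat.sq_sub_sq (q ^ m) 1
      rw [one_pow, ← pow_mul, mul_comm m 2] at this
      rw [this, mul_comm]
    have h4 : 2 * (q - 1) ≤ q ^ m - 1 := by
      have h5 : q ^ 2 ≤ q ^ m := Nat.pow_le_pow_right (by omega) hm
      have h6 : 2 * (q - 1) + 1 ≤ q ^ 2 := by
        obtain ⟨k, rfl⟩ : ∃ k, q = k + 1 := ⟨q - 1, by omega⟩
        rw [Nat.add_sub_cancel]
        nlinarith only []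
      omega
    rw [h3]
    calc 2 * (q ^ m + 1) * (q - 1) = (2 * (q - 1)) * (q ^ m + 1) := by ring
      _ ≤ _ := Nat.mul_le_mul_right _ h4

end Cfsg.Agent.H490.AS
end

-- part: H230/AS/IrrCent
section
/-!
# Centralizers and normalizers of irreducible elements (helper230)

`T` an irreducible linear transformation of the `n`-dimensional space `V` over `F_q`. Then the centralizer of `T` in a
group of linear transformations of determinant one is abelian, of order dividing `q ^ n - 1` and at most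
`(q ^ n - 1) / (q - 1)`; at most `n` powers of `T` are conjugate to `T`.
-/

set_option autoImplicit false
set_option linter.unusedSectionVars false

namespace Cfsg.Agent.H230.AS

open Module Polynomial

universe u v w

section

variable {F : Type u} [Field F] {V : Type v} [AddCommGroup V] [Module F V]

/-- no invariant subspaces -/
def Irr (T : V →ₗ[F] V) : Prop := ∀ U : Submodule F V, (∀ v ∈ U, T v ∈ U) → U = ⊥ ∨ U = ⊤

theorem ker_eq_bot_of_comm {T S : V →ₗ[F] V} (hT : Irr T) (hc : S * T = T * S) (hS : S ≠ 0) : LinearMap.ker S = ⊥ := by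
  refine (hT _ fun v hv => ?_).resolve_right fun h => hS (LinearMap.ker_eq_top.1 h)
  rw [LinearMap.mem_ker] at hv ⊢
  have h1 := LinearMap.congr_fun hc v
  rw [Module.End.mul_apply, Module.End.mul_apply, hv, map_zero] at h1
  exact h1

theorem comm_aeval {T S : Module.End F V} (hc : S * T = T * S) (f : F[X]) : S * aeval T f = aeval T f * S := by
  have h1 : Commute S T := hc
  have h2 : Commute S (aeval T f) := by
    induction f using Polynomial.induction_on' with
    | add p q hp hq =>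
      rw [map_add]
      exact hp.add_right hq
    | monomial k c =>
      rw [aeval_monomial]
      have h3 : Commute S (algebraMap F (Module.End F V) c) := (Algebra.commutes c S).symm
      exact h3.mul_right (h1.pow_right k)
  exact h2

variable [FiniteDimensional F V]

theorem Irr.irreducible [Nontrivial V] {T : Module.End F V} (hT : Irr T) : Irreducible (minpoly F T) := by
  have hint : IsIntegral F T := Algebra.IsIntegral.isIntegral T
  refine ⟨minpoly.not_isUnit F T, fun {f g} hfg => ?_⟩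
  have h0 : aeval T f * aeval T g = 0 := by rw [← map_mul, ← hfg, minpoly.aeval]
  have hm := minpoly.ne_zero hint
  by_cases hf : aeval T f = 0
  · right
    obtain ⟨h, hh⟩ := minpoly.dvd F T hf
    have hf0 : f ≠ 0 := by
      rintro rfl
      rw [zero_mul] at hfg
      exact hm hfg
    have h1 : f * (g * h) = f * 1 := by
      rw [← mul_assoc, ← hfg, ← hh, mul_one]
    exact IsUnit.of_mul_eq_one h (mul_left_cancel₀ hf0 h1)
  · left
    have h1 := ker_eq_bot_of_comm hT (comm_aeval (S := T) rfl f).symm hf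
    have hg : aeval T g = 0 := by
      ext v
      have h2 := LinearMap.congr_fun h0 v
      rw [Module.End.mul_apply] at h2
      have h3 : aeval T g v ∈ LinearMap.ker (aeval T f) := h2
      rw [h1, Submodule.mem_bot] at h3
      exact h3
    obtain ⟨h, hh⟩ := minpoly.dvd F T hg
    have hg0 : g ≠ 0 := by
      rintro rfl
      rw [mul_zero] at hfg
      exact hm hfg
    have h1 : g * (f * h) = g * 1 := by
      rw [← mul_assoc, mul_comm g f, ← hfg, ← hh, mul_one]
    exact IsUnit.of_mul_eq_one h (mul_left_cancel₀ hg0 h1)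

/-- the field generated by `T` -/
noncomputable def chi (T : Module.End F V) : AdjoinRoot (minpoly F T) →ₐ[F] Module.End F V :=
  Ideal.Quotient.liftₐ (Ideal.span {minpoly F T}) (aeval T) (by
    intro a ha
    obtain ⟨b, rfl⟩ := Ideal.mem_span_singleton.1 ha
    rw [map_mul, minpoly.aeval, zero_mul])

theorem chi_mk (T : Module.End F V) (f : F[X]) : chi T (AdjoinRoot.mk _ f) = aeval T f := rfl

theorem chi_root (T : Module.End F V) : chi T (AdjoinRoot.root _) = T := by
  have h1 := chi_mk T X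
  rw [aeval_X] at h1
  exact h1

variable [Nontrivial V] {T : Module.End F V}

theorem chi_injective (hT : Irr T) : Function.Injective (chi T) := by
  have : Fact (Irreducible (minpoly F T)) := ⟨hT.irreducible⟩
  exact (chi T).toRingHom.injective

/-- the evaluation at a vector is bijective -/
theorem eval_bijective (hT : Irr T) {v : V} (hv : v ≠ 0) :
    Function.Bijective (fun k : AdjoinRoot (minpoly F T) => chi T k v) := by
  have hfac : Fact (Irreducible (minpoly F T)) := ⟨hT.irreducible⟩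
  let e : AdjoinRoot (minpoly F T) →ₗ[F] V := (LinearMap.applyₗ v).comp (chi T).toLinearMap
  have he : ∀ k, e k = chi T k v := fun k => rfl
  constructor
  · have h1 : Function.Injective e := by
      rw [injective_iff_map_eq_zero]
      intro k hk
      by_contra hk0
      rw [he] at hk
      apply hv
      have h2 : chi T (k⁻¹ * k) v = 0 := by rw [map_mul, Module.End.mul_apply, hk, map_zero]
      rw [inv_mul_cancel₀ hk0, map_one] at h2
      exact h2
    exact h1
  · have h1 : LinearMap.range e = ⊤ := by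
      refine (hT _ ?_).resolve_left ?_
      · rintro _ ⟨k, rfl⟩
        refine ⟨AdjoinRoot.root _ * k, ?_⟩
        rw [he, map_mul, chi_root, Module.End.mul_apply, he]
      · intro h
        have h2 : e 1 ∈ LinearMap.range e := ⟨1, rfl⟩
        rw [h, Submodule.mem_bot, he, map_one] at h2
        exact hv h2
    exact LinearMap.range_eq_top.1 h1

/-- the centralizer of `T` is the field -/
theorem mem_range_chi (hT : Irr T) {S : Module.End F V} (hc : S * T = T * S) : ∃ k, chi T k = S := by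
  obtain ⟨v, hv⟩ := exists_ne (0 : V)
  obtain ⟨k, hk⟩ := (eval_bijective hT hv).2 (S v)
  refine ⟨k, ?_⟩
  by_contra hne
  have h1 : (chi T k - S) * T = T * (chi T k - S) := by
    have h2 : chi T k * T = T * chi T k := by
      have h3 : chi T (k * AdjoinRoot.root _) = chi T (AdjoinRoot.root _ * k) := by rw [mul_comm]
      rwa [map_mul, map_mul, chi_root] at h3
    rw [sub_mul, mul_sub, hc, h2]
  have h2 := ker_eq_bot_of_comm hT h1 (sub_ne_zero.2 hne)
  have h3 : v ∈ LinearMap.ker (chi T k - S) := by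
    rw [LinearMap.mem_ker, LinearMap.sub_apply, sub_eq_zero]
    exact hk
  rw [h2, Submodule.mem_bot] at h3
  exact hv h3

theorem finrank_adjoin (hT : Irr T) : finrank F (AdjoinRoot (minpoly F T)) = finrank F V := by
  obtain ⟨v, hv⟩ := exists_ne (0 : V)
  let e : AdjoinRoot (minpoly F T) →ₗ[F] V := (LinearMap.applyₗ v).comp (chi T).toLinearMap
  exact (LinearEquiv.ofBijective e (eval_bijective hT hv)).finrank_eq

theorem det_chi (hT : Irr T) (k : AdjoinRoot (minpoly F T)) : LinearMap.det (chi T k) = Algebra.norm F k := by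
  obtain ⟨v, hv⟩ := exists_ne (0 : V)
  let e : AdjoinRoot (minpoly F T) →ₗ[F] V := (LinearMap.applyₗ v).comp (chi T).toLinearMap
  let e' : AdjoinRoot (minpoly F T) ≃ₗ[F] V := LinearEquiv.ofBijective e (eval_bijective hT hv)
  have he : ∀ k, e' k = chi T k v := fun k => rfl
  rw [Algebra.norm_apply, ← LinearMap.det_conj _ e']
  congr 1
  ext w
  obtain ⟨l, rfl⟩ := e'.surjective w
  simp only [LinearMap.comp_apply, LinearEquiv.coe_coe, e'.symm_apply_apply]
  rw [Algebra.coe_lmul_eq_mul, LinearMap.mul_apply', he, he, map_mul, Module.End.mul_apply]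

end

section

variable {F : Type u} [Field F] [Fintype F] {V : Type v} [AddCommGroup V] [Module F V] [FiniteDimensional F V]
  [Nontrivial V] {G : Type w} [Group G] [Finite G]

omit [Fintype F] [Finite G] in
theorem exists_hom (φ : G →* Module.End F V) (hφ : Function.Injective φ) {z : G} (hz : Irr (φ z)) :
    ∃ ψ : Subgroup.centralizer ({z} : Set G) →* (AdjoinRoot (minpoly F (φ z)))ˣ, Function.Injective ψ ∧
      ∀ g, chi (φ z) (ψ g : AdjoinRoot (minpoly F (φ z))) = φ g := by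
  classical
  have hex : ∀ g : Subgroup.centralizer ({z} : Set G), ∃ k, chi (φ z) k = φ g := by
    intro g
    apply mem_range_chi hz
    rw [← map_mul, ← map_mul, Subgroup.mem_centralizer_singleton_iff.1 g.2]
  have hinj := chi_injective hz
  choose f hf using hex
  let ψ₀ : Subgroup.centralizer ({z} : Set G) →* AdjoinRoot (minpoly F (φ z)) :=
    { toFun := f
      map_one' := hinj (by rw [hf, map_one, Subgroup.coe_one, map_one])
      map_mul' := fun a b => hinj (by rw [map_mul, hf, hf, hf, Subgroup.coe_mul, map_mul]) }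
  refine ⟨ψ₀.toHomUnits, ?_, fun g => hf g⟩
  intro a b hab
  have h1 : f a = f b := congrArg Units.val hab
  apply Subtype.ext
  apply hφ
  rw [← hf a, ← hf b, h1]

omit [Fintype F] [Finite G] in
/-- the centralizer is abelian -/
theorem comm_of_irr (φ : G →* Module.End F V) (hφ : Function.Injective φ) {z : G} (hz : Irr (φ z)) :
    ∀ u ∈ Subgroup.centralizer ({z} : Set G), ∀ v ∈ Subgroup.centralizer ({z} : Set G), u * v = v * u := by
  obtain ⟨ψ, hψ, -⟩ := exists_hom φ hφ hz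
  intro u hu v hv
  have h1 : (⟨u, hu⟩ : Subgroup.centralizer ({z} : Set G)) * ⟨v, hv⟩ = ⟨v, hv⟩ * ⟨u, hu⟩ :=
    hψ (by rw [map_mul, map_mul, mul_comm])
  exact congrArg Subtype.val h1

theorem finite_adjoin {z : Module.End F V} (hz : Irr z) : Finite (AdjoinRoot (minpoly F z)) := by
  obtain ⟨v, hv⟩ := exists_ne (0 : V)
  have : Finite F := Finite.of_fintype F
  have : Finite V := Module.finite_of_finite F
  exact Finite.of_injective _ (eval_bijective hz hv).1

theorem card_adjoin {z : Module.End F V} (hz : Irr z) :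
    Nat.card (AdjoinRoot (minpoly F z)) = Fintype.card F ^ finrank F V := by
  obtain ⟨v, hv⟩ := exists_ne (0 : V)
  rw [Nat.card_congr (Equiv.ofBijective _ (eval_bijective hz hv)), Module.natCard_eq_pow_finrank (K := F) (V := V),
    Nat.card_eq_fintype_card]

/-- the order of the centralizer divides `q ^ n - 1` -/
theorem card_cent_dvd (φ : G →* Module.End F V) (hφ : Function.Injective φ) {z : G} (hz : Irr (φ z)) :
    Nat.card (Subgroup.centralizer ({z} : Set G)) ∣ Fintype.card F ^ finrank F V - 1 := by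
  have : Fact (Irreducible (minpoly F (φ z))) := ⟨hz.irreducible⟩
  have := finite_adjoin hz
  obtain ⟨ψ, hψ, -⟩ := exists_hom φ hφ hz
  have h1 := Subgroup.card_dvd_of_injective ψ hψ
  rwa [Nat.card_units, card_adjoin hz] at h1

/-- the order of the centralizer is at most `(q ^ n - 1) / (q - 1)` -/
theorem card_cent_le (φ : G →* Module.End F V) (hφ : Function.Injective φ) (hdet : ∀ g, LinearMap.det (φ g) = 1)
    {z : G} (hz : Irr (φ z)) :
    Nat.card (Subgroup.centralizer ({z} : Set G)) ≤ (Fintype.card F ^ finrank F V - 1) / (Fintype.card F - 1) := by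
  classical
  have : Fact (Irreducible (minpoly F (φ z))) := ⟨hz.irreducible⟩
  have := finite_adjoin hz
  obtain ⟨ψ, hψ, hc⟩ := exists_hom φ hφ hz
  set m := (Fintype.card F ^ finrank F V - 1) / (Fintype.card F - 1) with hm
  have hpow : ∀ g, ψ g ^ m = 1 := by
    intro g
    have h1 : Algebra.norm F (ψ g : AdjoinRoot (minpoly F (φ z))) = 1 := by
      rw [← det_chi hz, hc, hdet]
    have h2 := FiniteField.algebraMap_norm_eq_pow (K := F) (K' := AdjoinRoot (minpoly F (φ z)))
      (x := (ψ g : AdjoinRoot (minpoly F (φ z))))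
    rw [h1, map_one, card_adjoin hz, Nat.card_eq_fintype_card, ← hm] at h2
    exact Units.ext (by rw [Units.val_pow_eq_pow_val, ← h2, Units.val_one])
  have hm0 : 0 < m := by
    have hq : 1 < Fintype.card F := Fintype.one_lt_card
    have hn : 0 < finrank F V := finrank_pos
    have h1 : Fintype.card F ^ 1 ≤ Fintype.card F ^ finrank F V := Nat.pow_le_pow_right (by omega) hn
    rw [pow_one] at h1
    exact Nat.div_pos (by omega) (by omega)
  have := Fintype.ofFinite (AdjoinRoot (minpoly F (φ z)))ˣ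
  have := Fintype.ofFinite (Subgroup.centralizer ({z} : Set G))
  calc Nat.card (Subgroup.centralizer ({z} : Set G)) = (Finset.univ.image ψ).card := by
        rw [Finset.card_image_of_injective _ hψ, Finset.card_univ, Nat.card_eq_fintype_card]
    _ ≤ (Finset.univ.filter fun x : (AdjoinRoot (minpoly F (φ z)))ˣ => x ^ m = 1).card := by
        apply Finset.card_le_card
        intro x hx
        obtain ⟨g, -, rfl⟩ := Finset.mem_image.1 hx
        exact Finset.mem_filter.2 ⟨Finset.mem_univ _, hpow g⟩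
    _ ≤ m := IsCyclic.card_pow_eq_one_le hm0

/-- at most `n` powers of `z` are conjugate to `z` -/
theorem card_norm_le (φ : G →* Module.End F V) (hφ : Function.Injective φ) {z : G} (hz : Irr (φ z)) :
    Nat.card (Subgroup.normalizer ((Subgroup.zpowers z : Subgroup G) : Set G)) ≤
      finrank F V * Nat.card (Subgroup.centralizer ({z} : Set G)) := by
  classical
  have : Fact (Irreducible (minpoly F (φ z))) := ⟨hz.irreducible⟩
  have hinj := chi_injective hz
  set N := Subgroup.normalizer ((Subgroup.zpowers z : Subgroup G) : Set G) with hN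
  have hex : ∀ g : N, ∃ k, chi (φ z) k = φ (g * z * (g : G)⁻¹) := by
    intro g
    apply mem_range_chi hz
    have h1 : (g : G) * z * (g : G)⁻¹ ∈ Subgroup.zpowers z :=
      (Subgroup.mem_normalizer_iff.1 g.2 z).1 (Subgroup.mem_zpowers z)
    obtain ⟨i, hi⟩ := Subgroup.mem_zpowers_iff.1 h1
    rw [← map_mul, ← map_mul, ← hi, ← zpow_add_one, ← zpow_one_add, add_comm]
  choose f hf using hex
  have hroot : ∀ g, f g ∈ ((minpoly F (φ z)).map (algebraMap F (AdjoinRoot (minpoly F (φ z))))).roots.toFinset := by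
    intro g
    rw [Multiset.mem_toFinset, mem_roots', IsRoot.def, eval_map_algebraMap]
    refine ⟨(Polynomial.map_ne_zero_iff (algebraMap F _).injective).2
      (minpoly.ne_zero (Algebra.IsIntegral.isIntegral _)), hinj ?_⟩
    rw [← aeval_algHom_apply, hf, map_zero]
    -- conjugation
    have h1 : ∀ P : F[X], aeval (φ (g * z * (g : G)⁻¹)) P = φ g * aeval (φ z) P * φ (g : G)⁻¹ := by
      intro P
      induction P using Polynomial.induction_on' with
      | add p q hp hq => rw [map_add, map_add, hp, hq, mul_add, add_mul]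
      | monomial k c =>
        rw [aeval_monomial, aeval_monomial]
        have h2 : φ (g * z * (g : G)⁻¹) ^ k = φ g * φ z ^ k * φ (g : G)⁻¹ := by
          rw [← map_pow, conj_pow, map_mul, map_mul, map_pow]
        rw [h2, ← mul_assoc (φ g) _ (φ z ^ k), ← Algebra.commutes c (φ (g : G))]
        simp only [mul_assoc]
    rw [h1, minpoly.aeval, mul_zero, zero_mul]
  have := Fintype.ofFinite N
  have h1 : (Finset.univ : Finset N).card ≤
      Nat.card (Subgroup.centralizer ({z} : Set G)) * (Finset.univ.image f).card := by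
    apply Finset.card_le_mul_card_image
    intro b hb
    obtain ⟨g₀, -, rfl⟩ := Finset.mem_image.1 hb
    have := Fintype.ofFinite (Subgroup.centralizer ({z} : Set G))
    rw [Nat.card_eq_fintype_card, ← Finset.card_univ]
    have hmem : ∀ g : N, f g = f g₀ → (g₀ : G)⁻¹ * g ∈ Subgroup.centralizer ({z} : Set G) := by
      intro g hg
      have h2 : (g : G) * z * (g : G)⁻¹ = g₀ * z * (g₀ : G)⁻¹ := hφ (by rw [← hf, ← hf, hg])
      rw [Subgroup.mem_centralizer_singleton_iff]
      have h3 : (g₀ : G)⁻¹ * (g * z * (g : G)⁻¹) * g = (g₀ : G)⁻¹ * (g₀ * z * (g₀ : G)⁻¹) * g := by rw [h2]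
      calc (g₀ : G)⁻¹ * g * z = (g₀ : G)⁻¹ * (g * z * (g : G)⁻¹) * g := by group
        _ = (g₀ : G)⁻¹ * (g₀ * z * (g₀ : G)⁻¹) * g := h3
        _ = z * ((g₀ : G)⁻¹ * g) := by group
    refine Finset.card_le_card_of_injOn (fun g => if h : f g = f g₀ then ⟨(g₀ : G)⁻¹ * g, hmem g h⟩ else 1)
      (fun _ _ => Finset.mem_coe.2 (Finset.mem_univ _)) ?_
    intro a ha b hb hab
    have ha' : f a = f g₀ := (Finset.mem_filter.1 ha).2
    have hb' : f b = f g₀ := (Finset.mem_filter.1 hb).2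
    simp only [ha', hb', dif_pos] at hab
    have h2 : (g₀ : G)⁻¹ * a = (g₀ : G)⁻¹ * b := congrArg Subtype.val hab
    exact Subtype.ext (mul_left_cancel h2)
  have h2 : (Finset.univ.image f).card ≤ finrank F V := by
    calc (Finset.univ.image f).card
        ≤ ((minpoly F (φ z)).map (algebraMap F (AdjoinRoot (minpoly F (φ z))))).roots.toFinset.card := by
          apply Finset.card_le_card
          intro x hx
          obtain ⟨g, -, rfl⟩ := Finset.mem_image.1 hx
          exact hroot g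
      _ ≤ Multiset.card ((minpoly F (φ z)).map (algebraMap F (AdjoinRoot (minpoly F (φ z))))).roots :=
          Multiset.toFinset_card_le _
      _ ≤ ((minpoly F (φ z)).map (algebraMap F (AdjoinRoot (minpoly F (φ z))))).natDegree := card_roots' _
      _ = (minpoly F (φ z)).natDegree := natDegree_map _
      _ = finrank F (AdjoinRoot (minpoly F (φ z))) := (finrank_quotient_span_eq_natDegree).symm
      _ = finrank F V := finrank_adjoin hz
  rw [Nat.card_eq_fintype_card, ← Finset.card_univ, mul_comm]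
  exact h1.trans (Nat.mul_le_mul_left _ h2)

end

end Cfsg.Agent.H230.AS
end

-- part: H230/AS/Quot
section
/-!
# Centralizers and normalizers of elements of prime order in central quotients (helper230)
-/

set_option autoImplicit false

namespace Cfsg.Agent.H230.AS

open Subgroup

universe u

variable {G : Type u} [Group G] [Finite G]

omit [Finite G] in
theorem card_comap_center (H : Subgroup (G ⧸ center G)) [Finite G] :
    Nat.card (H.comap (QuotientGroup.mk' (center G))) = Nat.card H * Nat.card (center G) := by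
  have hπs : Function.Surjective (QuotientGroup.mk' (center G)) := QuotientGroup.mk'_surjective _
  have h1 := card_mul_index (H.comap (QuotientGroup.mk' (center G)))
  have h2 := card_mul_index H
  have h3 : (H.comap (QuotientGroup.mk' (center G))).index = H.index := index_comap_of_surjective _ hπs
  have h4 : Nat.card G = Nat.card (G ⧸ center G) * Nat.card (center G) := card_eq_card_quotient_mul_card_subgroup _
  have h5 : 0 < H.index := Nat.pos_of_ne_zero index_ne_zero_of_finite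
  rw [h3, h4, ← h2] at h1
  refine Nat.eq_of_mul_eq_mul_right h5 ?_
  rw [h1]
  ring

/-- elements of order `p` congruent modulo the centre are equal -/
theorem eq_of_map_eq {p : ℕ} (hp : p.Prime) (hc : ¬ p ∣ Nat.card (center G)) {a b : G} (ha : a ^ p = 1) (hb : b ^ p = 1)
    (h : QuotientGroup.mk' (center G) a = QuotientGroup.mk' (center G) b) : a = b := by
  have h1 : a * b⁻¹ ∈ center G := by
    have h2 : QuotientGroup.mk' (center G) (a * b⁻¹) = 1 := by rw [map_mul, map_inv, h, mul_inv_cancel]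
    rwa [← MonoidHom.mem_ker, QuotientGroup.ker_mk'] at h2
  set c := a * b⁻¹ with hcd
  have h2 : a = c * b := by rw [hcd]; group
  have h3 : c ^ p = 1 := by
    have h5 : Commute c b := (mem_center_iff.1 h1 b).symm
    rw [h2, h5.mul_pow, hb, mul_one] at ha
    exact ha
  have h4 : orderOf (⟨c, h1⟩ : center G) ∣ Nat.gcd p (Nat.card (center G)) :=
    Nat.dvd_gcd (orderOf_dvd_of_pow_eq_one (Subtype.ext h3)) (_root_.orderOf_dvd_natCard _)
  rw [Nat.Coprime.gcd_eq_one ((Nat.Prime.coprime_iff_not_dvd hp).2 hc), Nat.dvd_one, orderOf_eq_one_iff] at h4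
  have h5 : c = 1 := congrArg Subtype.val h4
  rw [h2, h5, one_mul]

variable {p : ℕ} {z : G}

theorem comap_centralizer (hp : p.Prime) (hc : ¬ p ∣ Nat.card (center G)) (hz : orderOf z = p) :
    (centralizer ({QuotientGroup.mk' (center G) z} : Set (G ⧸ center G))).comap (QuotientGroup.mk' (center G)) =
      centralizer ({z} : Set G) := by
  have hzp : z ^ p = 1 := by rw [← hz, pow_orderOf_eq_one]
  ext x
  rw [mem_comap, mem_centralizer_singleton_iff, mem_centralizer_singleton_iff]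
  constructor
  · intro hx
    have h1 : x * z * x⁻¹ = z := by
      refine eq_of_map_eq hp hc (by rw [conj_pow, hzp]; group) hzp ?_
      rw [map_mul, map_mul, hx, map_inv]
      group
    exact mul_inv_eq_iff_eq_mul.1 h1
  · intro hx
    rw [← map_mul, hx, map_mul]

theorem comap_normalizer (hp : p.Prime) (hc : ¬ p ∣ Nat.card (center G)) (hz : orderOf z = p) :
    (normalizer ((zpowers (QuotientGroup.mk' (center G) z) : Subgroup (G ⧸ center G)) : Set (G ⧸ center G))).comap
      (QuotientGroup.mk' (center G)) = normalizer ((zpowers z : Subgroup G) : Set G) := by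
  have hzp : z ^ p = 1 := by rw [← hz, pow_orderOf_eq_one]
  have key : ∀ x : G, x ∈ normalizer ((zpowers z : Subgroup G) : Set G) ↔ x * z * x⁻¹ ∈ zpowers z := by
    intro x
    constructor
    · intro h
      exact (mem_normalizer_iff.1 h z).1 (mem_zpowers z)
    · intro h
      rw [mem_normalizer_iff_map_conj_eq]
      refine eq_of_le_of_card_ge ?_ (le_of_eq (card_map_of_injective (MulAut.conj x).injective).symm)
      rintro _ ⟨_, ⟨i, rfl⟩, rfl⟩
      have h1 : (MulAut.conj x).toMonoidHom (z ^ i) = (x * z * x⁻¹) ^ i := by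
        rw [map_zpow]
        rfl
      show (MulAut.conj x).toMonoidHom (z ^ i) ∈ zpowers z
      rw [h1]
      exact zpow_mem h i
  have key' : ∀ x : G ⧸ center G,
      x ∈ normalizer ((zpowers (QuotientGroup.mk' (center G) z) : Subgroup (G ⧸ center G)) : Set (G ⧸ center G)) ↔
        x * QuotientGroup.mk' (center G) z * x⁻¹ ∈ zpowers (QuotientGroup.mk' (center G) z) := by
    intro x
    constructor
    · intro h
      exact (mem_normalizer_iff.1 h _).1 (mem_zpowers _)
    · intro h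
      rw [mem_normalizer_iff_map_conj_eq]
      refine eq_of_le_of_card_ge ?_ (le_of_eq (card_map_of_injective (MulAut.conj x).injective).symm)
      rintro _ ⟨_, ⟨i, rfl⟩, rfl⟩
      have h1 : (MulAut.conj x).toMonoidHom (QuotientGroup.mk' (center G) z ^ i) =
          (x * QuotientGroup.mk' (center G) z * x⁻¹) ^ i := by
        rw [map_zpow]
        rfl
      show (MulAut.conj x).toMonoidHom (QuotientGroup.mk' (center G) z ^ i) ∈ _
      rw [h1]
      exact zpow_mem h i
  ext x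
  rw [mem_comap, key, key']
  constructor
  · intro hx
    obtain ⟨i, hi⟩ := mem_zpowers_iff.1 hx
    rw [mem_zpowers_iff]
    refine ⟨i, eq_of_map_eq hp hc ?_ (by rw [conj_pow, hzp]; group) ?_⟩
    · rw [← zpow_natCast, ← zpow_mul, mul_comm, zpow_mul, zpow_natCast, hzp, one_zpow]
    · rw [map_zpow, hi, map_mul, map_mul, map_inv]
  · intro hx
    obtain ⟨i, hi⟩ := mem_zpowers_iff.1 hx
    rw [mem_zpowers_iff]
    refine ⟨i, ?_⟩
    rw [← map_zpow, hi, map_mul, map_mul, map_inv]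

end Cfsg.Agent.H230.AS
end

-- part: H230/AS/PslRow
section
/-!
# S3943: `AS2` for `PSL_n(q)`, `n ≥ 3` (helper230)
-/

set_option autoImplicit false

namespace Cfsg.Agent.H230.AS

open Subgroup Module Cfsg.Agent.H518.DghpFix Cfsg.Agent.H518.DghpPrim Cfsg.Agent.H518.DghpMat Cfsg.Agent.H518.SU
open Cfsg.Agent.H965.AS Cfsg.Agent.H965.SU Cfsg.Agent.H465.SU

/-- the primes used, with one more inequality -/
theorem exists_pack_irred' {p₀ f q e : ℕ} (hp₀ : p₀.Prime) (hf : 1 ≤ f) (hq : q = p₀ ^ f) (he : 3 ≤ e)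
    (h26 : ¬ (q = 2 ∧ e = 6)) (h34 : ¬ (q = 3 ∧ e = 4)) :
    ∃ p a, Pack q e f p a ∧ Size q e p a ∧ (2 * e < p ^ a * Nat.gcd e (q - 1) ∨ (q = 2 ∧ f = 1)) := by
  by_cases hexc : Exc q e
  · have hf1 : f = 1 := by
      by_contra hcon
      have hpr : q.Prime := by
        rcases hexc with ⟨rfl, _⟩ | ⟨rfl, _⟩ | ⟨rfl, _⟩ <;> norm_num
      rw [hq] at hpr
      exact hcon (hpr.eq_one_of_pow)
    obtain ⟨p, a, hP, hS⟩ := exists_pack_irred hp₀ hf hq he h26 h34
    refine ⟨p, a, hP, hS, ?_⟩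
    obtain ⟨hp, hp5, ha, hord, hdvd, hdvd', hpf⟩ := hP
    have h1 : e + 1 ≤ p := by
      have := lt_prime hp hord (by omega)
      omega
    have h2 : p ≤ p ^ a := by
      have : p ^ 1 ≤ p ^ a := Nat.pow_le_pow_right hp.pos ha
      rwa [pow_one] at this
    rcases hexc with ⟨rfl, h⟩ | ⟨rfl, h⟩ | ⟨rfl, h⟩
    · exact Or.inr ⟨rfl, hf1⟩
    · rcases h with rfl | rfl
      · exact absurd ⟨rfl, rfl⟩ h34
      · left
        have : Nat.gcd 6 (3 - 1) = 2 := by norm_num
        rw [this]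
        omega
    · subst h
      left
      have : Nat.gcd 6 (5 - 1) = 2 := by norm_num
      rw [this]
      omega
  · obtain ⟨p, a, h1, h2⟩ := exists_pack hp₀ hf hq he hexc
    refine ⟨p, a, h1, Or.inl (h2 e (by omega)), Or.inl ?_⟩
    have h3 := h2 (2 * e - 1) (by omega)
    have h4 : 1 ≤ p ^ (a - 1) := Nat.one_le_pow _ _ h1.1.pos
    have h5 : 1 ≤ Nat.gcd e (q - 1) := Nat.gcd_pos_of_pos_left _ (by omega)
    have h6 : p ^ a * 1 ≤ p ^ a * Nat.gcd e (q - 1) := Nat.mul_le_mul_left _ h5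
    omega

theorem center_bot {S : Type*} [Group S] [IsSimpleGroup S] (hna : ¬ IsMulCommutative S) : center S = ⊥ := by
  rcases (inferInstance : (center S).Normal).eq_bot_or_eq_top with h1 | h1
  · exact h1
  · exfalso
    apply hna
    refine ⟨⟨fun a b => ?_⟩⟩
    have : b ∈ center S := by rw [h1]; trivial
    exact mem_center_iff.1 this a

variable {F : Type} [Field F] [Fintype F] {n : ℕ}

theorem card_psl_index (hn : 3 ≤ n) : 2 * n < (Fintype.card F ^ n - 1) / (Fintype.card F - 1) := by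
  have hq : 2 ≤ Fintype.card F := Fintype.one_lt_card
  set q := Fintype.card F with hqd
  have h1 : ∀ m, 3 ≤ m → 2 * m < 2 ^ m - 1 := by
    intro m hm
    induction m, hm using Nat.le_induction with
    | base => norm_num
    | succ m hm ih =>
      rw [pow_succ]
      omega
  have h2 : ∀ m, 1 ≤ m → (2 ^ m - 1) * (q - 1) ≤ q ^ m - 1 := by
    intro m hm
    have h0 := Nat.geomSum_eq hq m
    have h3 : (2 ^ m - 1) ≤ (q ^ m - 1) / (q - 1) := by
      rw [← h0]
      have h5 := Nat.geomSum_eq (m := 2) le_rfl m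
      have h6 : (2 ^ m - 1) / (2 - 1) = 2 ^ m - 1 := by norm_num
      rw [← h6, ← h5]
      exact Finset.sum_le_sum fun i _ => Nat.pow_le_pow_left hq i
    calc (2 ^ m - 1) * (q - 1) ≤ (q ^ m - 1) / (q - 1) * (q - 1) := Nat.mul_le_mul_right _ h3
      _ ≤ q ^ m - 1 := Nat.div_mul_le_self _ _
  refine (h1 n hn).trans_le ?_
  rw [Nat.le_div_iff_mul_le (by omega)]
  exact h2 n (by omega)

/-- **`AS2` for `PSL_n(q)`, `n ≥ 3`.** -/
theorem as2_psl (hn : 3 ≤ n) (h26 : ¬ (Fintype.card F = 2 ∧ n = 6)) (h34 : ¬ (Fintype.card F = 3 ∧ n = 4))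
    (h42 : ¬ (Fintype.card F = 2 ∧ n = 4)) [IsSimpleGroup (Matrix.ProjectiveSpecialLinearGroup (Fin n) F)]
    (hna : ¬ IsMulCommutative (Matrix.ProjectiveSpecialLinearGroup (Fin n) F)) :
    AS2 (Matrix.ProjectiveSpecialLinearGroup (Fin n) F) := by
  obtain ⟨p₀, f, hp₀, hf, hq⟩ := exists_pf F rfl
  obtain ⟨q, hF⟩ : ∃ q, Fintype.card F = q := ⟨_, rfl⟩
  rw [hF] at h26 h34 h42 hq
  have hq1 : 1 < q := hF ▸ Fintype.one_lt_card
  have hfin : Finite (Matrix.ProjectiveSpecialLinearGroup (Fin n) F) :=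
    inferInstanceAs (Finite (Matrix.SpecialLinearGroup (Fin n) F ⧸ center (Matrix.SpecialLinearGroup (Fin n) F)))
  obtain ⟨p, a, ⟨hp, hp5, ha, hord, hdvd, hdvd', hpf⟩, hs, hineq⟩ := exists_pack_irred' hp₀ hf hq hn h26 h34
  have hd : finrank F (Fin n → F) = n := by rw [finrank_pi_fin, Fintype.card_fin]
  have hpq : ¬ p ∣ q := not_dvd_of_orderOf hp hord (by omega)
  set! φ := matRep (slHom (Fin n) F) with hφd
  have hφ : Function.Injective φ := matRep_injective (slHom_injective _ _)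
  obtain ⟨y, hy, hel⟩ := exists_el_irred φ hφ hp
    (by omega) ha (by rwa [hF]) (by rw [hF, hord, hd]) (by rw [hd]; omega)
    (by rw [hF, hd]; exact hs) (hdvd.trans (pow_sub_one_dvd_card_SL hF (by omega) le_rfl))
  have hcardSL : ¬ p ^ (a + 1) ∣ Nat.card (Matrix.SpecialLinearGroup (Fin n) F) := by
    obtain ⟨m, rfl⟩ : ∃ m, n = m + 1 := ⟨n - 1, by omega⟩
    rw [card_SL_succ hF, mul_comm]
    refine not_pow_dvd_mul_of_not_dvd hp (not_dvd_pow hp hpq) ?_
    have hm : 0 < m := by omega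
    refine not_pow_dvd_prod hp Finset.univ _ (⟨0, hm⟩ : Fin m) (by simpa only [_root_.pow_zero] using hdvd') ?_ (Finset.mem_univ _)
    intro i _ hi
    have hi0 : (i : ℕ) ≠ 0 := fun h => hi (Fin.ext h)
    have h1 : q ^ (m + 1) - q ^ (i : ℕ) = q ^ (i : ℕ) * (q ^ (m + 1 - i) - 1) := by
      rw [Nat.mul_sub, mul_one, ← pow_add]
      congr 2
      have := i.2
      omega
    rw [h1]
    intro h2
    rcases (Nat.Prime.dvd_mul hp).1 h2 with h3 | h3
    · exact not_dvd_pow hp hpq h3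
    · have := i.2
      exact not_dvd_of_lt (by omega) hord (by omega) (by omega) h3
  -- the centre
  have hZcard : Nat.card (center (Matrix.SpecialLinearGroup (Fin n) F)) = Nat.gcd n (q - 1) := by
    have h2 := Cfsg.Agent.S0243.result hF n (by omega)
    have h3 := Cfsg.Agent.S0242.result hF n (by omega)
    have h4 : (q - 1) * (Nat.gcd n (q - 1) * Nat.card (Matrix.ProjectiveSpecialLinearGroup (Fin n) F)) =
        (q - 1) * Nat.card (Matrix.SpecialLinearGroup (Fin n) F) := by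
      rw [h3, ← h2]
      ring
    have h5 := Nat.eq_of_mul_eq_mul_left (by omega) h4
    have h6 : Nat.card (Matrix.SpecialLinearGroup (Fin n) F) =
        Nat.card (Matrix.ProjectiveSpecialLinearGroup (Fin n) F) *
          Nat.card (Subgroup.center (Matrix.SpecialLinearGroup (Fin n) F)) :=
      Subgroup.card_eq_card_quotient_mul_card_subgroup _
    rw [h6, mul_comm] at h5
    exact (Nat.eq_of_mul_eq_mul_left Nat.card_pos h5).symm
  have hpq1 : ¬ p ∣ q - 1 := by
    have h8 := not_dvd_of_lt (j := 1) (by omega) hord one_pos (by omega)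
    rwa [pow_one] at h8
  have hZ : ¬ p ∣ Nat.card (center (Matrix.SpecialLinearGroup (Fin n) F)) := by
    rw [hZcard]
    exact fun h => hpq1 (h.trans (Nat.gcd_dvd_right _ _))
  -- the outer automorphism group
  have hcb : center (Matrix.ProjectiveSpecialLinearGroup (Fin n) F) = ⊥ := center_bot hna
  have hout : Nat.card (Cfsg.Out (Matrix.ProjectiveSpecialLinearGroup (Fin n) F)) = 2 * f * Nat.gcd n (q - 1) := by
    have h1 := H163.PG.card_out_psl (F := F) hp₀ hf (hF.trans hq) hn hcb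
    rwa [hF] at h1
  have hpout : ¬ p ∣ Nat.card (Cfsg.Out (Matrix.ProjectiveSpecialLinearGroup (Fin n) F)) := by
    rw [hout]
    intro h
    rcases (Nat.Prime.dvd_mul hp).1 h with h1 | h1
    · rcases (Nat.Prime.dvd_mul hp).1 h1 with h2 | h2
      · have := Nat.le_of_dvd (by norm_num) h2
        omega
      · exact hpf h2
    · exact hpq1 (h1.trans (Nat.gcd_dvd_right _ _))
  -- the row
  set! π := QuotientGroup.mk' (center (Matrix.SpecialLinearGroup (Fin n) F)) with hπ
  have hker : π.ker = center _ := QuotientGroup.ker_mk' _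
  have hker' : ¬ p ∣ Nat.card π.ker := by rwa [hker]
  have hordy : orderOf (π y) = p ^ a := orderOf_map hp hy _ hker'
  have hely : El p (π y) := by
    refine hel.map hp _ (QuotientGroup.mk'_surjective _) ?_ hker'
    rw [hker]
    exact Group.isSolvable_of_comm fun a b => Subtype.ext ((Subgroup.mem_center_iff.1 b.2) a)
  have hfull : ¬ p ^ (a + 1) ∣ Nat.card (Matrix.ProjectiveSpecialLinearGroup (Fin n) F) := by
    intro h
    apply hcardSL
    rw [Subgroup.card_eq_card_quotient_mul_card_subgroup (center (Matrix.SpecialLinearGroup (Fin n) F))]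
    exact Dvd.dvd.mul_right h _
  have hrow : SURow (Matrix.ProjectiveSpecialLinearGroup (Fin n) F) p a (π y) :=
    { hp := hp
      odd := by omega
      ha := ha
      ord := hordy
      su := by
        refine ⟨fun h => ?_, ⟨a, hordy⟩, fun M hM hyM A B hA hB hA' hB' =>
          hely.eq_of_card hp ha hordy M hM hyM A B hA hB hA' hB'⟩
        rw [h, orderOf_one] at hordy
        exact (Nat.one_lt_pow (by omega) hp.one_lt).ne hordy
      full := hfull
      inn := fun b hb => inner_of_card hp hpout b hb }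
  -- the element of order `p`
  set! z := y ^ p ^ (a - 1) with hzd
  have hz : orderOf z = p := orderOf_pow_pred hp ha hy
  have hπz : π y ^ p ^ (a - 1) = π z := (map_pow π y _).symm
  have hirr : Irr (φ z) := by
    intro U hU
    refine invariant_eq (r := p) (k := 1) hp (by rwa [hF]) ?_ ?_ (by rw [hF, hord, hd]) U hU
    · rw [pow_one, ← map_pow, ← hz, pow_orderOf_eq_one, map_one]
    · intro h
      have h1 : z = 1 := hφ (by rw [h, map_one])
      rw [h1, orderOf_one] at hz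
      exact hp.one_lt.ne hz
  have : Nontrivial (Fin n → F) := by
    have : Nonempty (Fin n) := ⟨⟨0, by omega⟩⟩
    infer_instance
  have hdet : ∀ g, LinearMap.det (φ g) = 1 := by
    intro g
    have h1 : φ g = Matrix.toLin' (g : Matrix (Fin n) (Fin n) F) := rfl
    rw [h1, LinearMap.det_toLin']
    exact g.2
  have hab := comm_of_irr φ hφ hirr
  have hc1 := card_cent_dvd φ hφ hirr
  have hc2 := card_cent_le φ hφ hdet hirr
  have hc3 := card_norm_le φ hφ hirr
  rw [hF, hd] at hc1 hc2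
  rw [hd] at hc3
  -- in the quotient
  have hC := comap_centralizer hp hZ hz
  have hN := comap_normalizer hp hZ hz
  have hcC := card_comap_center (G := Matrix.SpecialLinearGroup (Fin n) F) (centralizer {π z})
  have hcN := card_comap_center (G := Matrix.SpecialLinearGroup (Fin n) F)
    (normalizer ((zpowers (π z) : Subgroup _) : Set (Matrix.SpecialLinearGroup (Fin n) F ⧸ center _)))
  rw [← hπ] at hC hN hcC hcN
  rw [hC] at hcC
  rw [hN] at hcN
  have hZpos : 0 < Nat.card (center (Matrix.SpecialLinearGroup (Fin n) F)) := Nat.card_pos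
  have hmin := (Cfsg.Agent.S2140.result hF n hn (fun h => h42 ⟨h.2, h.1⟩)).1
  have h2n : 2 * n < (q ^ n - 1) / (q - 1) := by
    rw [← hF]
    exact card_psl_index hn
  set! m := (q ^ n - 1) / (q - 1) with hm; rewrite [← hm] at h2n hmin hc2
  refine AS2.of_row_ab (c := Nat.card (centralizer ({π z} : Set _))) (b := m) (e := n) hna hrow hp5 ?_ ?_ ?_ hmin h2n ?_
  · rw [hπz]
    intro u hu v hv
    obtain ⟨u', rfl⟩ := QuotientGroup.mk'_surjective _ u
    obtain ⟨v', rfl⟩ := QuotientGroup.mk'_surjective _ v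
    have hu' : u' ∈ centralizer ({z} : Set _) := by rw [← hC]; exact hu
    have hv' : v' ∈ centralizer ({z} : Set _) := by rw [← hC]; exact hv
    rw [← map_mul, ← map_mul, hab u' hu' v' hv']
  · rw [hπz]
  · rw [hπz]
    refine Nat.le_of_mul_le_mul_right (c := Nat.card (center (Matrix.SpecialLinearGroup (Fin n) F))) ?_ hZpos
    rw [mul_assoc, ← hcN, ← hcC]
    exact hc3
  · rw [hπz]
    intro s hs hsd hsp
    have hcpos : 0 < Nat.card (centralizer ({π z} : Set (Matrix.ProjectiveSpecialLinearGroup (Fin n) F))) := Nat.card_pos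
    have hle : Nat.card (centralizer ({π z} : Set (Matrix.ProjectiveSpecialLinearGroup (Fin n) F))) *
        Nat.gcd n (q - 1) ≤ m := by
      rw [← hZcard]
      exact hcC ▸ hc2
    set! c := Nat.card (centralizer ({π z} : Set (Matrix.ProjectiveSpecialLinearGroup (Fin n) F))) with hcd; rewrite [← hcd] at hle hcpos hcC ⊢
    rcases hineq with h | ⟨hq2, hf1⟩
    · left
      calc 2 * (n * c) = 2 * n * c := by ring
        _ < p ^ a * Nat.gcd n (q - 1) * c := Nat.mul_lt_mul_of_pos_right h hcpos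
        _ = p ^ a * (c * Nat.gcd n (q - 1)) := by ring
        _ ≤ p ^ a * m := Nat.mul_le_mul_left _ hle
    · right
      have hs2 : s = 2 := by
        rw [hout, hf1, hq2] at hsd
        have h1 : 2 * 1 * Nat.gcd n (2 - 1) = 2 := by simp
        rw [h1] at hsd
        exact (Nat.prime_dvd_prime_iff_eq hs Nat.prime_two).1 hsd
      constructor
      · rw [hs2]
        intro h2
        have h3 : 2 ∣ q ^ n - 1 := (h2.trans (hcC ▸ Dvd.intro _ rfl)).trans hc1
        rw [hq2] at h3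
        have h4 : 2 ∣ 2 ^ n := dvd_pow_self 2 (by omega)
        have h5 : 1 ≤ 2 ^ n := Nat.one_le_pow _ _ (by omega)
        omega
      · have h1 : c * 1 ≤ c * Nat.gcd n (q - 1) := Nat.mul_le_mul_left _ (Nat.gcd_pos_of_pos_left _ (by omega))
        have h2 : p ^ 1 ≤ p ^ a := Nat.pow_le_pow_right hp.pos ha
        rw [pow_one] at h2
        have h3 : 5 * m ≤ p ^ a * m := Nat.mul_le_mul_right _ (by omega)
        omega

end Cfsg.Agent.H230.AS
end

-- part: H489/AS/Table
section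
/-!
# S3943: the classical groups (helper489)

The rows `cnt_psp` (helper490), `cnt_psu` (helper541), `cnt_odd`, `cnt_minus`, `cnt_plus` (helper500), `as2_psl`
(helper230) put together: `as2_classical`.
-/

set_option autoImplicit false

universe u v w

namespace Cfsg.Agent.H489.AS

open Module Cfsg.Agent.H518.SU Cfsg.Agent.H965.AS Cfsg.Agent.H518.DghpMat

section

variable {F : Type} [Field F] [Fintype F]

/-- `K` satisfies the counting criterion with `g = |Out K|`. -/
def CntOut (K : Type*) [Group K] : Prop := ∃ g, Cnt g K ∧ Nat.card (Cfsg.Out K) ∣ g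

theorem CntOut.congr {G : Type u} {K : Type v} [Group G] [Group K] (h : CntOut G) (e : G ≃* K) : CntOut K := by
  obtain ⟨g, h1, h2⟩ := h
  exact ⟨g, h1.congr e, by rwa [← card_out_dvd_congr e]⟩

theorem cntOut_psp {m : ℕ} (hm : 2 ≤ m) (h3 : m = 2 → 3 ≤ Fintype.card F) (h26 : ¬ (Fintype.card F = 2 ∧ m = 3))
    (h34 : ¬ (Fintype.card F = 3 ∧ m = 2)) (hZ : Subgroup.center (Cfsg.PSp m F) = ⊥) : CntOut (Cfsg.PSp m F) := by
  obtain ⟨p, f, hp, hf, hq⟩ := exists_pf F rfl
  refine ⟨_, H490.AS.cnt_psp (cond_mul Fintype.one_lt_card _ (Or.inl rfl)) hp hf hq rfl hm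
    (fun h => by have := h3 h.2; omega) h26 h34, ?_⟩
  rw [H163.PG.card_out_psp hp hf hq hm h3 hZ]
  have h1 : (if m = 2 ∧ p = 2 then 2 else 1) * Nat.gcd 2 (p ^ f - 1) ∣ 24 := by
    have h2 : (if m = 2 ∧ p = 2 then 2 else 1) ∣ 2 := by
      split_ifs
      · exact dvd_rfl
      · exact one_dvd _
    exact (Nat.mul_dvd_mul h2 (Nat.gcd_dvd_left _ _)).trans (by norm_num)
  exact Dvd.dvd.mul_right (Nat.mul_dvd_mul_right h1 f) _

theorem cntOut_psu {n q : ℕ} (hF : Fintype.card F = q ^ 2) (hn : 3 ≤ n) (h32 : ¬ (n = 3 ∧ q = 2))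
    (h42 : ¬ (n = 4 ∧ q = 2)) (hZ : Subgroup.center (Cfsg.PSU n F q) = ⊥) : CntOut (Cfsg.PSU n F q) := by
  have hq1 : 1 < q := one_lt_of_sq hF
  obtain ⟨p, k, hp, hk, hqk⟩ := exists_pf F hF
  obtain ⟨f, hf⟩ : ∃ f, q = p ^ f := by
    have h1 : q ∣ p ^ k := by
      rw [← hqk, pow_two]
      exact Dvd.intro _ rfl
    obtain ⟨f, -, hf⟩ := (Nat.dvd_prime_pow hp).1 h1
    exact ⟨f, hf⟩
  have hf1 : 1 ≤ f := by
    rcases Nat.eq_zero_or_pos f with rfl | h
    · rw [pow_zero] at hf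
      omega
    · exact h
  refine ⟨_, H541.CntPsu.cnt_psu (cond_mul (by omega) _ (Or.inr rfl)) hp hf1 hf hF hn h32 h42, ?_⟩
  rw [H163.PG.card_out_psu hp hf1 hf hF hn h32 hZ, mul_comm]
  exact Nat.mul_dvd_mul (Nat.mul_dvd_mul_right (by norm_num) f) (Nat.gcd_dvd_right _ _)

theorem cntOut_odd {m : ℕ} (hm : 3 ≤ m) (hodd : Odd (Fintype.card F)) (h36 : ¬ (Fintype.card F = 3 ∧ m = 3))
    (h56 : ¬ (Fintype.card F = 5 ∧ m = 3)) (hZ : Subgroup.center (Cfsg.POmega F (Cfsg.quadFormOdd m F)) = ⊥) :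
    CntOut (Cfsg.POmega F (Cfsg.quadFormOdd m F)) := by
  obtain ⟨p, f, hp, hf, hq⟩ := exists_pf F rfl
  refine ⟨_, H500.AS.cnt_odd (cond_mul Fintype.one_lt_card _ (Or.inl rfl)) hp hf hq rfl hm hodd h36 h56, ?_⟩
  rw [H163.PG.card_out_oodd hp hf hq hodd hm hZ]
  exact Dvd.dvd.mul_right (Nat.mul_dvd_mul_right (by norm_num) f) _

theorem cntOut_minus {m : ℕ} (hm : 4 ≤ m) (a b : F)
    (hab : ∀ z₁ z₂ : F, z₁ ^ 2 + a * z₁ * z₂ + b * z₂ ^ 2 = 0 → z₁ = 0 ∧ z₂ = 0) :
    CntOut (Cfsg.POmega F (Cfsg.quadFormMinus (m - 1) F a b)) := by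
  obtain ⟨p, f, hp, hf, hq⟩ := exists_pf F rfl
  have := Fact.mk hp
  refine ⟨_, H500.AS.cnt_minus (cond_mul Fintype.one_lt_card _ (Or.inl rfl)) hp hf hq rfl hm a b hab, ?_⟩
  exact Dvd.dvd.mul_right (H149.PGO.card_out_minus hf hq hm a b hab) _

theorem cntOut_plus {m : ℕ} (hm : 4 ≤ m) (h2 : ¬ (Fintype.card F = 2 ∧ m = 4)) (h3 : ¬ (Fintype.card F = 3 ∧ m = 4))
    (h5 : ¬ (Fintype.card F = 5 ∧ m = 4)) : CntOut (Cfsg.POmega F (Cfsg.quadFormPlus m F)) := by
  obtain ⟨p, f, hp, hf, hq⟩ := exists_pf F rfl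
  have := Fact.mk hp
  refine ⟨_, H500.AS.cnt_plus (cond_mul Fintype.one_lt_card _ (Or.inl rfl)) hp hf hq rfl hm h2 h3 h5, ?_⟩
  exact Dvd.dvd.mul_right (H149.PGO.card_out_plus hf hq hm) _

end

/-- **The table of the classical groups.** -/
theorem as2_classical {K : Type u} [Group K] [Finite K] [IsSimpleGroup K] (hna : ¬ IsMulCommutative K)
    (h : Cfsg.IsPSL K ∨ Cfsg.IsPSp K ∨ Cfsg.IsPSU K ∨ Cfsg.IsPOmegaOdd K ∨ Cfsg.IsPOmegaPlus K ∨
      Cfsg.IsPOmegaMinus K) :
    (∃ (F : Type) (_ : Field F) (_ : Fintype F), 4 ≤ Fintype.card F ∧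
      Nonempty (K ≃* Matrix.ProjectiveSpecialLinearGroup (Fin 2) F)) ∨
    (∃ (F : Type) (_ : Field F) (_ : Fintype F), Fintype.card F = 2 ∧
      Nonempty (K ≃* Matrix.ProjectiveSpecialLinearGroup (Fin 4) F)) ∨ Exceptions K ∨ AS2 K := by
  have hZ : Subgroup.center K = ⊥ := by
    rcases Subgroup.Normal.eq_bot_or_eq_top (H := Subgroup.center K) inferInstance with h1 | h1
    · exact h1
    · exfalso
      apply hna
      exact ⟨⟨fun a b => (Subgroup.mem_center_iff.1 (show b ∈ Subgroup.center K by rw [h1]; trivial) a)⟩⟩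
  have key : CntOut K → AS2 K := fun ⟨g, h1, h2⟩ => Cnt.as2 hna h1 h2
  rcases h with ⟨F, hF, hF', n, hn, h2, ⟨e⟩⟩ | ⟨F, hF, hF', m, hm, h3, ⟨e⟩⟩ | ⟨F, hF, hF', n, q, hFq, hn, h32, ⟨e⟩⟩ |
    ⟨F, hF, hF', m, hm, hodd, ⟨e⟩⟩ | ⟨F, hF, hF', m, hm, ⟨e⟩⟩ | ⟨F, hF, hF', m, a, b, hm, hab, ⟨e⟩⟩
  · by_cases hn2 : n = 2
    · subst hn2
      exact Or.inl ⟨F, hF, hF', h2 rfl, ⟨e⟩⟩
    right
    by_cases h42 : Fintype.card F = 2 ∧ n = 4
    · obtain ⟨h1, rfl⟩ := h42
      exact Or.inl ⟨F, hF, hF', h1, ⟨e⟩⟩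
    right
    by_cases h26 : Fintype.card F = 2 ∧ n = 6
    · obtain ⟨h1, rfl⟩ := h26
      exact Or.inl ⟨F, hF, hF', Or.inl ⟨h1, ⟨e⟩⟩⟩
    by_cases h34 : Fintype.card F = 3 ∧ n = 4
    · obtain ⟨h1, rfl⟩ := h34
      exact Or.inl ⟨F, hF, hF', Or.inr (Or.inl ⟨h1, ⟨e⟩⟩)⟩
    have hs : IsSimpleGroup (Matrix.ProjectiveSpecialLinearGroup (Fin n) F) := e.symm.isSimpleGroup
    have hna' : ¬ IsMulCommutative (Matrix.ProjectiveSpecialLinearGroup (Fin n) F) := fun h => hna
      ⟨⟨fun a b => e.injective (by rw [map_mul, map_mul]; exact h.1.1 _ _)⟩⟩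
    exact Or.inr ((H230.AS.as2_psl (by (clear * - hn hn2; omega)) h26 h34 h42 hna').congr e.symm)
  · right; right
    by_cases h26 : Fintype.card F = 2 ∧ m = 3
    · obtain ⟨h1, rfl⟩ := h26
      exact Or.inl ⟨F, hF, hF', Or.inr (Or.inr (Or.inl ⟨h1, ⟨e⟩⟩))⟩
    by_cases h34 : Fintype.card F = 3 ∧ m = 2
    · obtain ⟨h1, rfl⟩ := h34
      exact Or.inl ⟨F, hF, hF', Or.inr (Or.inr (Or.inr (Or.inl ⟨h1, ⟨e⟩⟩)))⟩
    exact Or.inr (key ((cntOut_psp hm h3 h26 h34 (center_eq_bot_of e hZ)).congr e.symm))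
  · right; right
    by_cases h42 : n = 4 ∧ q = 2
    · obtain ⟨rfl, rfl⟩ := h42
      exact Or.inl ⟨F, hF, hF', Or.inr (Or.inr (Or.inr (Or.inr (Or.inl ⟨hFq, ⟨e⟩⟩))))⟩
    exact Or.inr (key ((cntOut_psu hFq hn h32 h42 (center_eq_bot_of e hZ)).congr e.symm))
  · right; right
    by_cases h36 : Fintype.card F = 3 ∧ m = 3
    · obtain ⟨h1, rfl⟩ := h36
      exact Or.inl ⟨F, hF, hF', Or.inr (Or.inr (Or.inr (Or.inr (Or.inr (Or.inl ⟨h1, ⟨e⟩⟩)))))⟩
    by_cases h56 : Fintype.card F = 5 ∧ m = 3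
    · obtain ⟨h1, rfl⟩ := h56
      exact Or.inl ⟨F, hF, hF', Or.inr (Or.inr (Or.inr (Or.inr (Or.inr (Or.inr (Or.inl ⟨h1, ⟨e⟩⟩))))))⟩
    exact Or.inr (key ((cntOut_odd hm hodd h36 h56 (center_eq_bot_of e hZ)).congr e.symm))
  · right; right
    by_cases h2 : Fintype.card F = 2 ∧ m = 4
    · obtain ⟨h1, rfl⟩ := h2
      exact Or.inl ⟨F, hF, hF', Or.inr (Or.inr (Or.inr (Or.inr (Or.inr (Or.inr (Or.inr (Or.inl ⟨h1, ⟨e⟩⟩)))))))⟩
    by_cases h3 : Fintype.card F = 3 ∧ m = 4
    · obtain ⟨h1, rfl⟩ := h3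
      exact Or.inl ⟨F, hF, hF', Or.inr (Or.inr (Or.inr (Or.inr (Or.inr (Or.inr (Or.inr (Or.inr (Or.inl
        ⟨h1, ⟨e⟩⟩))))))))⟩
    by_cases h5 : Fintype.card F = 5 ∧ m = 4
    · obtain ⟨h1, rfl⟩ := h5
      exact Or.inl ⟨F, hF, hF', Or.inr (Or.inr (Or.inr (Or.inr (Or.inr (Or.inr (Or.inr (Or.inr (Or.inr
        ⟨h1, ⟨e⟩⟩))))))))⟩
    exact Or.inr (key ((cntOut_plus hm h2 h3 h5).congr e.symm))
  · exact Or.inr (Or.inr (Or.inr (key ((cntOut_minus hm a b hab).congr e.symm))))

end Cfsg.Agent.H489.AS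
end

-- part: H489/AS/TableB
section
/-!
# S3943: all classical groups but the nine exceptions (helper489)

`as2_classical'` : `as2_classical` together with the rows of `PSL_2(q)` (helper791) and `PSL_4(2) ≅ A_8` (helper495).
-/

set_option autoImplicit false

universe u

namespace Cfsg.Agent.H489.AS

open Cfsg.Agent.H518.SU Cfsg.Agent.H965.AS

/-- **The classical groups are exceptions or `AS2`.** -/
theorem as2_classical' {K : Type u} [Group K] [Finite K] [IsSimpleGroup K] (hna : ¬ IsMulCommutative K)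
    (h : Cfsg.IsPSL K ∨ Cfsg.IsPSp K ∨ Cfsg.IsPSU K ∨ Cfsg.IsPOmegaOdd K ∨ Cfsg.IsPOmegaPlus K ∨
      Cfsg.IsPOmegaMinus K) : Exceptions K ∨ AS2 K := by
  rcases as2_classical hna h with ⟨F, hF, hF', hq, ⟨e⟩⟩ | ⟨F, hF, hF', hq, ⟨e⟩⟩ | h1 | h1
  · exact Or.inr (H791.AS.row hna e hq)
  · obtain ⟨f⟩ := Cfsg.Agent.S0256.result (F := F) hq
    exact Or.inr (H495.AS.row_ge (by norm_num) (e.trans f))
  · exact Or.inl h1
  · exact Or.inr h1

end Cfsg.Agent.H489.AS
end

-- part: H479/AS/SpFourMat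
section
/-!
# An element of order 9 of `Sp_4(3)` (helper479)
-/

set_option autoImplicit false

namespace Cfsg.Agent.H479.AS.SpFour

open Matrix

abbrev Ix := Fin 2 ⊕ Fin 2

abbrev Mt := Matrix Ix Ix (ZMod 3)

abbrev V4 := Ix → ZMod 3

def Y0 : Mt := fromBlocks !![1, 1; 0, 1] !![0, 1; 0, 1] 0 !![1, 0; 2, 1]

def Z0 : Mt := fromBlocks 1 !![2, 0; 0, 0] 0 1

/-- the elements moving the line -/
def R0 : Fin 4 → Mt :=
  ![1, fromBlocks !![1, 0; 0, 0] !![0, 0; 0, 2] !![0, 0; 0, 1] !![1, 0; 0, 0],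
    fromBlocks 1 0 !![0, 0; 0, 1] 1, fromBlocks 1 0 !![0, 0; 0, 2] 1]

set_option maxRecDepth 10000

theorem y_three : Y0 ^ 3 = Z0 := by decide +kernel
theorem z_three : Z0 ^ 3 = 1 := by decide +kernel
theorem z_ne : Z0 ≠ 1 := by decide
theorem symp_y : Y0 * J (Fin 2) (ZMod 3) * Y0ᵀ = J (Fin 2) (ZMod 3) := by decide +kernel
theorem symp_r : ∀ i, R0 i * J (Fin 2) (ZMod 3) * (R0 i)ᵀ = J (Fin 2) (ZMod 3) := by decide +kernel
/-- the vector `e_0` -/
def c0 : V4 := Pi.single (Sum.inl 0) 1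

theorem r_c : ∀ i, R0 i *ᵥ c0 = c0 := by decide +kernel

theorem n_four : (Y0 - 1) ^ 4 = 0 := by decide +kernel
theorem n_three : (Y0 - 1) ^ 3 = fromBlocks 0 !![2, 0; 0, 0] 0 0 := by decide +kernel
theorem n_two : (Y0 - 1) ^ 2 = fromBlocks 0 !![2, 1; 2, 0] 0 0 := by decide +kernel

theorem ker_one (v : V4) (h : (Y0 - 1) *ᵥ v = 0) : v (Sum.inl 1) = 0 ∧ v (Sum.inr 0) = 0 ∧ v (Sum.inr 1) = 0 := by
  have h1 := congrFun h (Sum.inl 0)
  have h2 := congrFun h (Sum.inl 1)
  have h3 := congrFun h (Sum.inr 0)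
  have h4 := congrFun h (Sum.inr 1)
  revert h1 h2 h3 h4
  simp only [mulVec, dotProduct, Fintype.sum_sum_type, Fin.sum_univ_two]
  generalize v (Sum.inl 0) = a
  generalize v (Sum.inl 1) = b
  generalize v (Sum.inr 0) = c
  generalize v (Sum.inr 1) = d
  revert a b c d
  decide +kernel

end Cfsg.Agent.H479.AS.SpFour
end

-- part: H479/AS/SpFour
section
/-!
# `AS2` for `PSp_4(3)` (helper479)

`y` regular unipotent of order 9: a solvable subgroup containing `y` fixes the point or the line of `y`.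
-/

set_option autoImplicit false
set_option linter.unusedSectionVars false

namespace Cfsg.Agent.H479.AS.SpFour

open Module Matrix Cfsg.Agent.H518.DghpFix Cfsg.Agent.H518.DghpMat Cfsg.Agent.H518.SU Cfsg.Agent.Lib.Cores

abbrev F3 := ZMod 3

abbrev Gp := Matrix.symplecticGroup (Fin 2) (ZMod 3)

instance factThree : Fact (Nat.Prime 3) := ⟨Nat.prime_three⟩

/-- the point -/
def W1 : Submodule F3 V4 where
  carrier := {v | v (Sum.inl 1) = 0 ∧ v (Sum.inr 0) = 0 ∧ v (Sum.inr 1) = 0}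
  zero_mem' := ⟨rfl, rfl, rfl⟩
  add_mem' := fun {a b} ha hb => by
    refine ⟨?_, ?_, ?_⟩
    · rw [Pi.add_apply, ha.1, hb.1, add_zero]
    · rw [Pi.add_apply, ha.2.1, hb.2.1, add_zero]
    · rw [Pi.add_apply, ha.2.2, hb.2.2, add_zero]
  smul_mem' := fun c a ha => by
    refine ⟨?_, ?_, ?_⟩
    · rw [Pi.smul_apply, ha.1, smul_zero]
    · rw [Pi.smul_apply, ha.2.1, smul_zero]
    · rw [Pi.smul_apply, ha.2.2, smul_zero]

/-- the line -/
def W2 : Submodule F3 V4 where
  carrier := {v | v (Sum.inr 0) = 0 ∧ v (Sum.inr 1) = 0}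
  zero_mem' := ⟨rfl, rfl⟩
  add_mem' := fun {a b} ha hb => by
    refine ⟨?_, ?_⟩
    · rw [Pi.add_apply, ha.1, hb.1, add_zero]
    · rw [Pi.add_apply, ha.2, hb.2, add_zero]
  smul_mem' := fun c a ha => by
    refine ⟨?_, ?_⟩
    · rw [Pi.smul_apply, ha.1, smul_zero]
    · rw [Pi.smul_apply, ha.2, smul_zero]

/-- the plane -/
def W3 : Submodule F3 V4 where
  carrier := {v | v (Sum.inr 0) = 0}
  zero_mem' := rfl
  add_mem' := fun {a b} ha hb => by
    show (a + b) (Sum.inr 0) = 0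
    rw [Pi.add_apply, show a (Sum.inr 0) = 0 from ha, show b (Sum.inr 0) = 0 from hb, add_zero]
  smul_mem' := fun c a ha => by
    show (c • a) (Sum.inr 0) = 0
    rw [Pi.smul_apply, show a (Sum.inr 0) = 0 from ha, smul_zero]

theorem finrank_le_of {k : ℕ} (W : Submodule F3 V4) (g : Fin k → Ix)
    (h : ∀ v ∈ W, (∀ i, v (g i) = 0) → v = 0) : finrank F3 W ≤ k := by
  let f : W →ₗ[F3] (Fin k → F3) := (LinearMap.funLeft F3 F3 g).comp W.subtype
  have hf : Function.Injective f := by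
    rw [← LinearMap.ker_eq_bot, LinearMap.ker_eq_bot']
    intro v hv
    exact Subtype.ext ((h v v.2 fun i => congrFun hv i :))
  have h1 := LinearMap.finrank_le_finrank_of_injective hf
  rwa [finrank_fin_fun] at h1

theorem vec_ext {v : V4} (h1 : v (Sum.inl 0) = 0) (h2 : v (Sum.inl 1) = 0) (h3 : v (Sum.inr 0) = 0)
    (h4 : v (Sum.inr 1) = 0) : v = 0 := by
  funext i
  rcases i with i | i
  · fin_cases i
    · exact h1
    · exact h2
  · fin_cases i
    · exact h3
    · exact h4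

theorem finrank_W1 : finrank F3 W1 ≤ 1 := finrank_le_of W1 ![Sum.inl 0] fun _ hv h =>
  vec_ext (h 0) hv.1 hv.2.1 hv.2.2

theorem finrank_W2 : finrank F3 W2 ≤ 2 := finrank_le_of W2 ![Sum.inl 0, Sum.inl 1] fun _ hv h =>
  vec_ext (h 0) (h 1) hv.1 hv.2

theorem finrank_W3 : finrank F3 W3 ≤ 3 := finrank_le_of W3 ![Sum.inl 0, Sum.inl 1, Sum.inr 1] fun _ hv h =>
  vec_ext (h 0) (h 1) hv (h 2)

theorem ker_two (v : V4) (h : (Y0 - 1) ^ 2 *ᵥ v = 0) : v ∈ W2 := by
  rw [n_two] at h
  have h1 := congrFun h (Sum.inl 0)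
  have h2 := congrFun h (Sum.inl 1)
  show v (Sum.inr 0) = 0 ∧ v (Sum.inr 1) = 0
  revert h1 h2
  simp only [mulVec, dotProduct, Fintype.sum_sum_type, Fin.sum_univ_two]
  generalize v (Sum.inl 0) = a
  generalize v (Sum.inl 1) = b
  generalize v (Sum.inr 0) = c
  generalize v (Sum.inr 1) = d
  revert a b c d
  decide +kernel

theorem ker_three (v : V4) (h : (Y0 - 1) ^ 3 *ᵥ v = 0) : v ∈ W3 := by
  rw [n_three] at h
  have h1 := congrFun h (Sum.inl 0)
  show v (Sum.inr 0) = 0
  revert h1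
  simp only [mulVec, dotProduct, Fintype.sum_sum_type, Fin.sum_univ_two]
  generalize v (Sum.inl 0) = a
  generalize v (Sum.inl 1) = b
  generalize v (Sum.inr 0) = c
  generalize v (Sum.inr 1) = d
  revert a b c d
  decide +kernel

/-- `(y - 1) ^ dim U = 0` on an invariant subspace `U` -/
theorem pow_ker {U : Submodule F3 V4} (hU : ∀ v ∈ U, Y0 *ᵥ v ∈ U) :
    ∀ v ∈ U, (Y0 - 1) ^ finrank F3 U *ᵥ v = 0 := by
  let n : V4 →ₗ[F3] V4 := Matrix.toLin' (Y0 - 1)
  have hn : ∀ v ∈ U, n v ∈ U := by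
    intro v hv
    show (Y0 - 1) *ᵥ v ∈ U
    rw [sub_mulVec, one_mulVec]
    exact U.sub_mem (hU v hv) hv
  let n' : U →ₗ[F3] U := n.restrict hn
  have hpow : ∀ (k : ℕ) (v : U), ((n' ^ k) v : V4) = (Y0 - 1) ^ k *ᵥ (v : V4) := by
    intro k
    induction k with
    | zero => intro v; simp only [_root_.pow_zero, _root_.Module.End.one_apply, _root_.Matrix.one_mulVec]
    | succ k ih =>
      intro v
      rw [pow_succ, Module.End.mul_apply, ih, pow_succ, ← mulVec_mulVec]
      rfl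
  have h1 : n'.charpoly = Polynomial.X ^ finrank F3 U := by
    rw [LinearMap.charpoly_eq_X_pow_iff]
    intro m
    refine ⟨4, Subtype.ext ?_⟩
    rw [hpow, n_four, zero_mulVec]
    rfl
  have h2 := n'.aeval_self_charpoly
  rw [h1, map_pow, Polynomial.aeval_X] at h2
  intro v hv
  rw [← hpow _ ⟨v, hv⟩, h2]
  rfl

theorem sp_eq (u v : V4) : spB 2 F3 u v = (u (Sum.inr 0) * v (Sum.inl 0) - u (Sum.inl 0) * v (Sum.inr 0)) +
    (u (Sum.inr 1) * v (Sum.inl 1) - u (Sum.inl 1) * v (Sum.inr 1)) := by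
  rw [spB_eq, Fin.sum_univ_two]

theorem sp_isom (g : Gp) (u v : V4) : spB 2 F3 (g.1 *ᵥ u) (g.1 *ᵥ v) = spB 2 F3 u v := spB_isom 2 g u v

theorem mulVec_inv_cancel (g : Gp) (v : V4) : g.1 *ᵥ (g⁻¹.1 *ᵥ v) = v := by
  rw [mulVec_mulVec]
  have : g.1 * g⁻¹.1 = (g * g⁻¹).1 := rfl
  rw [this, mul_inv_cancel]
  exact one_mulVec v

theorem inv_mulVec_cancel (g : Gp) (v : V4) : g⁻¹.1 *ᵥ (g.1 *ᵥ v) = v := by
  rw [mulVec_mulVec]
  have : g⁻¹.1 * g.1 = (g⁻¹ * g).1 := rfl
  rw [this, inv_mul_cancel]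
  exact one_mulVec v

/-- a subgroup fixing the plane fixes the point -/
theorem fix_one_of_three {M : Subgroup Gp} (h : ∀ m ∈ M, ∀ v ∈ W3, m.1 *ᵥ v ∈ W3) :
    ∀ m ∈ M, ∀ v ∈ W1, m.1 *ᵥ v ∈ W1 := by
  intro m hm v hv
  have key : ∀ u ∈ W3, spB 2 F3 (m.1 *ᵥ v) u = 0 := by
    intro u hu
    rw [← mulVec_inv_cancel m u, sp_isom]
    have h1 : (m⁻¹.1 *ᵥ u) (Sum.inr 0) = 0 := h m⁻¹ (inv_mem hm) u hu
    rw [sp_eq, h1, hv.2.1, hv.2.2, hv.1]
    ring
  refine ⟨?_, ?_, ?_⟩
  · have h1 := key (Pi.single (Sum.inr 1) 1) (by show (Pi.single (Sum.inr 1) 1 : V4) (Sum.inr 0) = 0; decide)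
    rw [sp_eq] at h1
    simpa [Pi.single_apply] using h1
  · have h1 := key (Pi.single (Sum.inl 0) 1) (by show (Pi.single (Sum.inl 0) 1 : V4) (Sum.inr 0) = 0; decide)
    rw [sp_eq] at h1
    simpa [Pi.single_apply] using h1
  · have h1 := key (Pi.single (Sum.inl 1) 1) (by show (Pi.single (Sum.inl 1) 1 : V4) (Sum.inr 0) = 0; decide)
    rw [sp_eq] at h1
    simpa [Pi.single_apply] using h1

/-- `y` -/
def y : Gp := ⟨Y0, by rw [SymplecticGroup.mem_iff]; exact symp_y⟩

/-- invariant subspaces of `y` -/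
theorem inv_sub {U : Submodule F3 V4} (hU : ∀ v ∈ U, Y0 *ᵥ v ∈ U) :
    U = ⊥ ∨ U = W1 ∨ U = W2 ∨ U = W3 ∨ U = ⊤ := by
  have h1 : finrank F3 U ≤ finrank F3 V4 := Submodule.finrank_le U
  have h4 : finrank F3 V4 = 4 := finrank_sum_fin
  rw [h4] at h1
  have h2 := pow_ker hU
  have h3 : finrank F3 U = 0 ∨ finrank F3 U = 1 ∨ finrank F3 U = 2 ∨ finrank F3 U = 3 ∨ finrank F3 U = 4 := by
    omega
  rcases h3 with h | h | h | h | h
  · exact Or.inl (Submodule.finrank_eq_zero.1 h)
  · right; left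
    rw [h, pow_one] at h2
    exact Submodule.eq_of_le_of_finrank_le (fun v hv => ker_one v (h2 v hv)) (by rw [h]; exact finrank_W1)
  · right; right; left
    rw [h] at h2
    exact Submodule.eq_of_le_of_finrank_le (fun v hv => ker_two v (h2 v hv)) (by rw [h]; exact finrank_W2)
  · right; right; right; left
    rw [h] at h2
    exact Submodule.eq_of_le_of_finrank_le (fun v hv => ker_three v (h2 v hv)) (by rw [h]; exact finrank_W3)
  · right; right; right; right
    exact Submodule.eq_top_of_finrank_eq (by rw [h, h4])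

/-- a subgroup containing `y` is irreducible or fixes the point or the line -/
theorem inv_cases4 {M : Subgroup Gp} (hy : y ∈ M) {U : Submodule F3 V4} (hU : ∀ m ∈ M, ∀ v ∈ U, m.1 *ᵥ v ∈ U) :
    U = ⊥ ∨ U = ⊤ ∨ (∀ m ∈ M, ∀ v ∈ W1, m.1 *ᵥ v ∈ W1) ∨ (∀ m ∈ M, ∀ v ∈ W2, m.1 *ᵥ v ∈ W2) := by
  rcases inv_sub (U := U) (fun v hv => hU y hy v hv) with h | h | h | h | h
  · exact Or.inl h
  · right; right; left
    rwa [h] at hU
  · right; right; right
    rwa [h] at hU
  · right; right; left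
    rw [h] at hU
    exact fix_one_of_three hU
  · exact Or.inr (Or.inl h)

theorem z_val : (y ^ 3 : Gp).1 = Z0 := by
  rw [SubmonoidClass.coe_pow]
  exact y_three

theorem ord_z : orderOf (y ^ 3 : Gp) = 3 := by
  apply orderOf_eq_prime
  · apply Subtype.ext
    rw [SubmonoidClass.coe_pow, z_val]
    exact z_three
  · intro h
    exact z_ne (z_val.symm.trans (congrArg Subtype.val h))

theorem ord_y : orderOf (y : Gp) = 3 ^ 2 := by
  apply orderOf_eq_prime_pow
  · intro h
    rw [pow_one] at h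
    have := ord_z
    rw [h, orderOf_one] at this
    omega
  · rw [show 3 ^ (1 + 1) = 3 * 3 by norm_num, pow_mul]
    have h := pow_orderOf_eq_one (y ^ 3 : Gp)
    rw [ord_z] at h
    exact h

theorem c0_apply (i : Ix) : c0 i = if i = Sum.inl 0 then 1 else 0 := by
  unfold c0
  rw [Pi.single_apply]

theorem sp_c0 (v : V4) : spB 2 F3 v c0 = v (Sum.inr 0) := by
  rw [sp_eq]
  simp [c0_apply]

theorem z_mulVec (v : V4) : Z0 *ᵥ v = v + (2 * v (Sum.inr 0)) • c0 := by
  funext i
  unfold Z0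
  simp only [mulVec, dotProduct, Fintype.sum_sum_type, Fin.sum_univ_two, Pi.add_apply, Pi.smul_apply, smul_eq_mul,
    c0_apply]
  rcases i with i | i <;> fin_cases i <;> simp

/-- the stabiliser of the vector `e_0` -/
def P0 : Subgroup Gp where
  carrier := {g | g.1 *ᵥ c0 = c0}
  one_mem' := one_mulVec _
  mul_mem' := fun {a b} ha hb => by
    show (a.1 * b.1) *ᵥ c0 = c0
    rw [← mulVec_mulVec, show b.1 *ᵥ c0 = c0 from hb, show a.1 *ᵥ c0 = c0 from ha]
  inv_mem' := fun {a} ha => by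
    show a⁻¹.1 *ᵥ c0 = c0
    conv_lhs => rw [← show a.1 *ᵥ c0 = c0 from ha]
    exact inv_mulVec_cancel a c0

theorem gp_ext {g h : Gp} (H : ∀ v, g.1 *ᵥ v = h.1 *ᵥ v) : g = h := by
  apply Subtype.ext
  exact Matrix.ext_of_mulVec_single fun i => H _

theorem P0_le : P0 ≤ Subgroup.centralizer {y ^ 3} := by
  intro g hg
  have hg' : g.1 *ᵥ c0 = c0 := hg
  rw [Subgroup.mem_centralizer_singleton_iff]
  apply gp_ext
  intro v
  show (g.1 * (y ^ 3 : Gp).1) *ᵥ v = ((y ^ 3 : Gp).1 * g.1) *ᵥ v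
  rw [← mulVec_mulVec, ← mulVec_mulVec, z_val, z_mulVec, z_mulVec, mulVec_add, mulVec_smul, hg']
  have h1 : (g.1 *ᵥ v) (Sum.inr 0) = v (Sum.inr 0) := by
    have h2 := sp_isom g v c0
    rwa [hg', sp_c0, sp_c0] at h2
  rw [h1]

/-- the action on vectors -/
@[reducible] def actV : MulAction Gp V4 where
  smul g v := g.1 *ᵥ v
  one_smul v := one_mulVec v
  mul_smul a b v := (mulVec_mulVec v a.1 b.1).symm

theorem card_V4 : Nat.card V4 = 81 := by
  rw [Nat.card_eq_fintype_card, Fintype.card_fun, Fintype.card_sum, Fintype.card_fin, ZMod.card]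
  norm_num

theorem P0_index : P0.index = 80 := by
  let act := actV
  have h1 : MulAction.stabilizer Gp c0 = P0 := rfl
  have h2 : MulAction.orbit Gp c0 = {v | v ≠ 0} := by
    ext v
    constructor
    · rintro ⟨g, rfl⟩ h
      have h3 : g.1 *ᵥ c0 = 0 := h
      have h4 := inv_mulVec_cancel g c0
      rw [h3, mulVec_zero] at h4
      have h5 := congrFun h4 (Sum.inl 0)
      rw [c0_apply, if_pos rfl] at h5
      exact absurd h5 (by decide)
    · intro h
      obtain ⟨g, hg⟩ := Cfsg.Agent.S0271.result 2 c0 v (fun h4 => by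
        have h5 := congrFun h4 (Sum.inl 0)
        rw [c0_apply, if_pos rfl] at h5
        exact absurd h5 (by decide)) h
      exact ⟨g, hg⟩
  rw [← h1, MulAction.index_stabilizer, h2]
  have h3 : ({v | v ≠ 0} : Set V4) = {0}ᶜ := rfl
  have h4 := Set.ncard_add_ncard_compl ({0} : Set V4)
  rw [Set.ncard_singleton, card_V4] at h4
  rw [h3]
  omega

theorem card_Gp : Nat.card Gp = 51840 := by
  rw [Cfsg.Agent.S0245.result (ZMod.card 3) 2]
  simp only [Finset.prod_range_succ, Finset.prod_range_zero]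
  norm_num

section

variable {G : Type*} [Group G] [Finite G]

theorem nine_aux : ∀ k < 9, k ≠ 0 → ∃ m, (k * m) % 9 = 3 := by
  intro k hk hk0
  have : k = 1 ∨ k = 2 ∨ k = 3 ∨ k = 4 ∨ k = 5 ∨ k = 6 ∨ k = 7 ∨ k = 8 := by omega
  rcases this with rfl | rfl | rfl | rfl | rfl | rfl | rfl | rfl
  · exact ⟨3, rfl⟩
  · exact ⟨6, rfl⟩
  · exact ⟨1, rfl⟩
  · exact ⟨3, rfl⟩
  · exact ⟨6, rfl⟩
  · exact ⟨2, rfl⟩
  · exact ⟨3, rfl⟩
  · exact ⟨6, rfl⟩

/-- orbits of an element of order 9 -/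
theorem card_modEq_nine {y : G} (hy : orderOf y = 9) (T : Subgroup G) (hyT : ∀ n ∈ T, y * n * y⁻¹ ∈ T) :
    Nat.card T ≡ Nat.card ↥(T ⊓ Subgroup.centralizer {y ^ 3}) [MOD 9] := by
  classical
  have h1 : y ∈ Subgroup.normalizer (T : Set G) := by
    rw [Subgroup.mem_normalizer_iff_map_conj_eq]
    refine Subgroup.eq_of_le_of_card_ge ?_ (le_of_eq (Subgroup.card_map_of_injective (MulAut.conj y).injective).symm)
    rintro _ ⟨v, hv, rfl⟩
    exact hyT v hv
  let X := {n : G // n ∈ T ∧ n ∉ Subgroup.centralizer {y ^ 3}}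
  have hcomm : ∀ g : Subgroup.zpowers y, (g : G) * y ^ 3 = y ^ 3 * g := by
    rintro ⟨_, i, rfl⟩
    exact ((Commute.refl y).zpow_left i).pow_right 3
  have hn : ∀ g : Subgroup.zpowers y, ∀ n : X, (g : G) * n * (g : G)⁻¹ ∈ T ∧
      (g : G) * n * (g : G)⁻¹ ∉ Subgroup.centralizer {y ^ 3} := by
    intro g n
    refine ⟨(Subgroup.mem_normalizer_iff.1 ((Subgroup.zpowers_le.2 h1) g.2) n).1 n.2.1, fun h => n.2.2 ?_⟩
    rw [Subgroup.mem_centralizer_singleton_iff] at h ⊢
    have h2 := hcomm g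
    have h3 : (g : G)⁻¹ * y ^ 3 = y ^ 3 * (g : G)⁻¹ := by
      rw [inv_mul_eq_iff_eq_mul, ← mul_assoc, h2, mul_inv_cancel_right]
    have h4 : (g : G) * (n.1 * y ^ 3) * (g : G)⁻¹ = (g : G) * (y ^ 3 * n.1) * (g : G)⁻¹ := by
      calc (g : G) * (n.1 * y ^ 3) * (g : G)⁻¹ = (g : G) * n.1 * (y ^ 3 * (g : G)⁻¹) := by group
        _ = (g : G) * n.1 * ((g : G)⁻¹ * y ^ 3) := by rw [h3]
        _ = (g : G) * n.1 * (g : G)⁻¹ * y ^ 3 := by group
        _ = y ^ 3 * ((g : G) * n.1 * (g : G)⁻¹) := h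
        _ = (y ^ 3 * (g : G)) * n.1 * (g : G)⁻¹ := by group
        _ = ((g : G) * y ^ 3) * n.1 * (g : G)⁻¹ := by rw [h2]
        _ = (g : G) * (y ^ 3 * n.1) * (g : G)⁻¹ := by group
    exact mul_left_cancel (mul_right_cancel h4)
  let act : MulAction (Subgroup.zpowers y) X :=
    { smul := fun g n => ⟨(g : G) * n * (g : G)⁻¹, hn g n⟩
      one_smul := fun n => Subtype.ext (by
        show (1 : G) * n * (1 : G)⁻¹ = n
        group)
      mul_smul := fun g g' n => Subtype.ext (by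
        show ((g : G) * g') * n * ((g : G) * g')⁻¹ = g * (g' * n * (g' : G)⁻¹) * (g : G)⁻¹
        group) }
  have hfree : ∀ (g : Subgroup.zpowers y) (n : X), g • n = n → g = 1 := by
    intro g n hgn
    by_contra hne
    have h2 : (g : G) * n.1 * (g : G)⁻¹ = n.1 := congrArg Subtype.val hgn
    have h3 : Commute (g : G) n.1 := mul_inv_eq_iff_eq_mul.1 h2
    obtain ⟨k, hk, hk'⟩ := Finset.mem_image.1 ((mem_zpowers_iff_mem_range_orderOf).1 g.2)
    rw [Finset.mem_range, hy] at hk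
    have hk0 : k ≠ 0 := by
      rintro rfl
      apply hne
      apply Subtype.ext
      rw [← hk', pow_zero]
      rfl
    obtain ⟨m, hm⟩ := nine_aux k hk hk0
    have h4 : (g : G) ^ m = y ^ 3 := by
      rw [← hk', ← pow_mul, ← Nat.div_add_mod (k * m) 9, hm, pow_add, pow_mul]
      rw [← hy, pow_orderOf_eq_one, one_pow, one_mul]
    apply n.2.2
    rw [Subgroup.mem_centralizer_singleton_iff]
    have h5 := (h3.pow_left m).symm
    rw [h4] at h5
    exact h5
  have h2 := Cfsg.Agent.TwoFusion.StarLemma.card_dvd_of_free hfree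
  rw [Nat.card_zpowers, hy] at h2
  have h3 : Nat.card T = Nat.card ↥(T ⊓ Subgroup.centralizer {y ^ 3}) + Nat.card X := by
    have h4 := Set.ncard_inter_add_ncard_sdiff_eq_ncard (T : Set G) (Subgroup.centralizer {y ^ 3} : Set G)
    rw [← Nat.card_coe_set_eq, ← Nat.card_coe_set_eq, ← Nat.card_coe_set_eq] at h4
    exact h4.symm
  rw [h3]
  exact ((Nat.modEq_zero_iff_dvd.2 h2).add_left _)

end

/-- the central involution -/
def mz : Gp := ⟨-1, SymplecticGroup.neg_mem (Submonoid.one_mem _)⟩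

theorem mz_comm (g : Gp) : mz * g = g * mz := by
  apply Subtype.ext
  show (-1 : Mt) * g.1 = g.1 * (-1 : Mt)
  rw [neg_one_mul, mul_neg_one]

/-- normal 2-subgroups are centralised by the transvection -/
theorem two_core {T : Subgroup Gp} (hT : IsPGroup 2 T) (hyT : ∀ n ∈ T, y * n * y⁻¹ ∈ T) (hneg : mz ∈ T) :
    ∀ u ∈ T, (y ^ 3 : Gp) * u = u * y ^ 3 := by
  have : Fact (Nat.Prime 2) := ⟨Nat.prime_two⟩
  have h1 := card_modEq_nine ord_y T hyT
  obtain ⟨k, hk⟩ := IsPGroup.iff_card.1 hT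
  obtain ⟨j, hj⟩ := IsPGroup.iff_card.1 (hT.to_le (inf_le_left : T ⊓ Subgroup.centralizer {(y ^ 3 : Gp)} ≤ T))
  have hk7 : k ≤ 7 := by
    by_contra hcon
    have h2 : 2 ^ k ∣ 51840 := by rw [← hk, ← card_Gp]; exact Subgroup.card_subgroup_dvd_card T
    have h3 : 2 ^ 8 ∣ 51840 := (pow_dvd_pow 2 (by omega)).trans h2
    norm_num at h3
  have hjk : j ≤ k := by
    have h2 := Subgroup.card_dvd_of_le (inf_le_left : T ⊓ Subgroup.centralizer {(y ^ 3 : Gp)} ≤ T)
    rw [hk, hj] at h2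
    exact (Nat.pow_dvd_pow_iff_le_right (by norm_num)).1 h2
  rw [hk, hj] at h1
  have h2 : j = k ∨ 64 * 2 ^ j ≤ 2 ^ k := by
    have hj7 : j ≤ 7 := hjk.trans hk7
    clear hk hj
    interval_cases k <;> interval_cases j <;> first | exact Or.inl rfl | (right; norm_num; done) |
      (exfalso; revert h1; decide)
  rcases h2 with h2 | h2
  · have h3 : T ⊓ Subgroup.centralizer {(y ^ 3 : Gp)} = T :=
      Subgroup.eq_of_le_of_card_ge inf_le_left (by rw [hk, hj, h2])
    intro u hu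
    rw [← h3] at hu
    exact (Subgroup.mem_centralizer_singleton_iff.1 hu.2).symm
  · exfalso
    have h3 : T ⊓ P0 ≤ T ⊓ Subgroup.centralizer {(y ^ 3 : Gp)} := inf_le_inf_left _ P0_le
    have h4 : 2 * Nat.card ↥(T ⊓ P0) ≤ Nat.card ↥(T ⊓ Subgroup.centralizer {(y ^ 3 : Gp)}) := by
      obtain ⟨c, hc⟩ := Subgroup.card_dvd_of_le h3
      have hc0 : 0 < Nat.card ↥(T ⊓ Subgroup.centralizer {(y ^ 3 : Gp)}) := Nat.card_pos
      have hc1 : c ≠ 1 := by
        rintro rfl
        rw [mul_one] at hc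
        have h5 := Subgroup.eq_of_le_of_card_ge h3 (le_of_eq hc)
        have h6 : mz ∈ T ⊓ Subgroup.centralizer {(y ^ 3 : Gp)} :=
          ⟨hneg, Subgroup.mem_centralizer_singleton_iff.2 (mz_comm _)⟩
        rw [← h5] at h6
        have h7 : (-1 : Mt) *ᵥ c0 = c0 := h6.2
        exact absurd h7 (by decide)
      have hc2 : c ≠ 0 := by
        rintro rfl
        rw [mul_zero] at hc
        omega
      rw [hc, mul_comm]
      exact Nat.mul_le_mul_left _ (by omega)
    have h5 : Nat.card ↥(T ⊓ P0) * (T ⊓ P0).relIndex T = Nat.card T := by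
      rw [← Subgroup.relIndex_bot_left, ← Subgroup.relIndex_bot_left T]
      exact Subgroup.relIndex_mul_relIndex _ _ _ bot_le inf_le_left
    have h6 : (T ⊓ P0).relIndex T ≤ 80 := by
      rw [Subgroup.inf_relIndex_left, ← P0_index, ← Subgroup.relIndex_top_right]
      exact Subgroup.relIndex_le_of_le_right le_top (by
        rw [Subgroup.relIndex_top_right, P0_index]; norm_num)
    have h7 : 0 < Nat.card ↥(T ⊓ P0) := Nat.card_pos
    rw [hj] at h4
    rw [hk] at h5
    have h8 : Nat.card ↥(T ⊓ P0) * (T ⊓ P0).relIndex T ≤ Nat.card ↥(T ⊓ P0) * 80 := Nat.mul_le_mul_left _ h6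
    omega

section

variable {G : Type*} [Group G] [Finite G]

/-- the Fitting argument -/
theorem exists_core {M : Subgroup G} (hM : Group.IsSolvable M) {p : ℕ} (hp : p.Prime) {z : G} (hz : orderOf z = p)
    (hzM : z ∈ M)
    (h : ∀ t : ℕ, t.Prime → t ≠ p → ∀ T : Subgroup G, IsPGroup t T → (∀ g ∈ M, ∀ n ∈ T, g * n * g⁻¹ ∈ T) →
      (∀ N : Subgroup G, N ≤ M → IsPGroup t N → (∀ g ∈ M, ∀ n ∈ N, g * n * g⁻¹ ∈ N) → N ≤ T) → ∀ u ∈ T, z * u = u * z) :
    ∃ T : Subgroup G, IsPGroup p T ∧ (∀ g ∈ M, ∀ n ∈ T, g * n * g⁻¹ ∈ T) ∧ T ≠ ⊥ := by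
  have hpf : Fact p.Prime := ⟨hp⟩
  have hTM : ∀ t : ℕ, ∀ g ∈ M, ∀ n ∈ (Cfsg.pCore t M).map M.subtype, g * n * g⁻¹ ∈ (Cfsg.pCore t M).map M.subtype := by
    rintro t g hg _ ⟨u, hu, rfl⟩
    exact ⟨(⟨g, hg⟩ * u * ⟨g, hg⟩⁻¹ :), (Cfsg.Agent.Lib.Cores.pCore_normal t).conj_mem u hu _, rfl⟩
  have hTP : ∀ t : ℕ, t.Prime → IsPGroup t ((Cfsg.pCore t M).map M.subtype) := fun t ht =>
    (pCore_isPGroup t).map _
  refine ⟨(Cfsg.pCore p M).map M.subtype, hTP p hp, hTM p, fun hbot => ?_⟩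
  have h3 : Cfsg.pCore p M = ⊥ := (Subgroup.map_eq_bot_iff_of_injective _ M.subtype_injective).1 hbot
  have hz' : (⟨z, hzM⟩ : M) ∈ Cfsg.fittingSubgroup M := by
    apply Cfsg.Agent.S0044.result
    rw [fittingSubgroup_eq_iSup_pCore, Subgroup.mem_centralizer_iff]
    intro u hu
    have hle : (⨆ t : Nat.Primes, Cfsg.pCore (t : ℕ) M) ≤ Subgroup.centralizer {(⟨z, hzM⟩ : M)} := by
      refine iSup_le fun t => ?_
      intro u hu
      rw [Subgroup.mem_centralizer_singleton_iff]
      by_cases htp : (t : ℕ) = p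
      · rw [htp, h3, Subgroup.mem_bot] at hu
        rw [hu, one_mul, mul_one]
      · refine Subtype.ext (h t t.2 htp _ (hTP t t.2) (hTM t) (fun N hNM hN hNn => ?_) u ⟨u, hu, rfl⟩).symm
        have h4 : (N.subgroupOf M).Normal := ⟨fun n hn g => hNn g g.2 n hn⟩
        have h5 := Subgroup.map_mono (f := M.subtype) (le_pCore h4 (hN.comap_subtype))
        rwa [Subgroup.subgroupOf_map_subtype, inf_eq_left.2 hNM] at h5
    exact (Subgroup.mem_centralizer_singleton_iff.1 (hle hu))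
  have h4 := mem_pCore_of_mem_fitting (p := p) (k := 1) (by
    rw [pow_one]
    apply Subtype.ext
    show z ^ p = 1
    rw [← hz, pow_orderOf_eq_one]) hz'
  rw [h3, Subgroup.mem_bot] at h4
  rw [show z = 1 from congrArg Subtype.val h4, orderOf_one] at hz
  exact hp.one_lt.ne hz

theorem zpowers_invol {w : G} (hw : w ^ 2 = 1) : IsPGroup 2 (Subgroup.zpowers w) := by
  intro g
  refine ⟨1, ?_⟩
  obtain ⟨i, hi⟩ := Subgroup.mem_zpowers_iff.1 g.2
  apply Subtype.ext
  rw [pow_one, Subgroup.coe_pow, ← hi, ← zpow_natCast, ← _root_.zpow_mul, mul_comm,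
    _root_.zpow_mul, zpow_natCast]
  rw [hw, _root_.one_zpow]
  rfl

end

theorem mz_sq : mz ^ 2 = 1 := by
  apply Subtype.ext
  show (-1 : Mt) ^ 2 = 1
  rw [neg_one_sq]

/-- **a solvable subgroup containing `y` fixes the point or the line of `y`** -/
theorem solv_fix {M : Subgroup Gp} (hM : Group.IsSolvable M) (hy : y ∈ M) (hmz : mz ∈ M) :
    (∀ m ∈ M, ∀ v ∈ W1, m.1 *ᵥ v ∈ W1) ∨ (∀ m ∈ M, ∀ v ∈ W2, m.1 *ᵥ v ∈ W2) := by
  by_contra hcon
  have hirr : ∀ U : Submodule F3 V4, (∀ m ∈ M, ∀ v ∈ U, m.1 *ᵥ v ∈ U) → U = ⊥ ∨ U = ⊤ := by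
    intro U hU
    rcases inv_cases4 hy hU with h | h | h | h
    · exact Or.inl h
    · exact Or.inr h
    · exact absurd (Or.inl h) hcon
    · exact absurd (Or.inr h) hcon
  have hφ : Function.Injective (matRep (spHom 2 F3)) := matRep_injective (spHom_injective _ _)
  have hzM : (y ^ 3 : Gp) ∈ M := pow_mem hy 3
  obtain ⟨T, hTP, hTM, hT0⟩ := exists_core hM Nat.prime_three ord_z hzM (by
    intro t ht ht3 T hT hTM hmax
    by_cases ht2 : t = 2
    · subst ht2
      refine fun u hu => two_core hT (hTM y hy) ?_ u hu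
      refine hmax (Subgroup.zpowers mz) (Subgroup.zpowers_le.2 hmz) (zpowers_invol mz_sq) ?_
        (Subgroup.mem_zpowers _)
      rintro g - _ ⟨i, rfl⟩
      have h7 : Commute g mz := (mz_comm _).symm
      have h8 : g * mz ^ i * g⁻¹ = mz ^ i := by rw [(h7.zpow_right i).eq, mul_inv_cancel_right]
      exact ⟨i, h8.symm⟩
    · rcases cent_or_dvd Nat.prime_three ht ht3 ord_z T hT (hTM _ hzM) with h5 | h5
      · exact h5
      · exfalso
        have h6 := h5.trans (Subgroup.card_subgroup_dvd_card _)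
        rw [card_Gp] at h6
        have h3 : ((t : ℕ) : ZMod 3) ≠ 0 := by
          intro h
          rw [ZMod.natCast_eq_zero_iff] at h
          exact ht3 ((Nat.prime_dvd_prime_iff_eq Nat.prime_three ht).1 h).symm
        have h0 : orderOf ((t : ℕ) : ZMod 3) ≠ 0 := by
          intro h
          rw [orderOf_eq_zero_iff'] at h
          exact h 2 (by norm_num) (ZMod.pow_card_sub_one_eq_one h3)
        have h7 : t ∣ 51840 := (dvd_pow_self t h0).trans ((Dvd.intro _ rfl).trans h6)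
        have h8 : t = 5 := by
          have h9 : t ∣ 2 ^ 7 * (3 ^ 4 * 5) := by norm_num; exact h7
          rcases (Nat.Prime.dvd_mul ht).1 h9 with h | h
          · exact absurd ((Nat.prime_dvd_prime_iff_eq ht Nat.prime_two).1 (ht.dvd_of_dvd_pow h)) ht2
          rcases (Nat.Prime.dvd_mul ht).1 h with h | h
          · exact absurd ((Nat.prime_dvd_prime_iff_eq ht Nat.prime_three).1 (ht.dvd_of_dvd_pow h)) ht3
          · exact (Nat.prime_dvd_prime_iff_eq ht (by norm_num)).1 h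
        subst h8
        have h9 : orderOf ((5 : ℕ) : ZMod 3) = 2 := by
          have : Fact (Nat.Prime 2) := ⟨Nat.prime_two⟩
          exact orderOf_eq_prime (by decide) (by decide)
        rw [h9] at h6
        have h10 : 5 ^ 2 ∣ 51840 := (Dvd.intro _ rfl).trans h6
        norm_num at h10)
  have h1 := fixSub_inf_ne_bot (matRep (spHom 2 F3)) Nat.prime_three (by rw [ZMod.card]) hTP ⊤
    (fun _ _ _ _ => trivial) (by
    intro h
    have h1 : finrank F3 (⊤ : Submodule F3 V4) = 0 := by rw [h, finrank_bot]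
    rw [finrank_top, show finrank F3 V4 = 4 from finrank_sum_fin] at h1
    omega)
  rw [top_inf_eq] at h1
  have h2 : fixSub (matRep (spHom 2 F3)) T = ⊤ := by
    refine (hirr (fixSub (matRep (spHom 2 F3)) T) fun m hm => fixSub_invariant fun n hn => ?_).resolve_left h1
    have := hTM m⁻¹ (inv_mem hm) n hn
    rwa [inv_inv] at this
  apply hT0
  rw [eq_bot_iff]
  intro u hu
  rw [Subgroup.mem_bot]
  apply gp_ext
  intro v
  have h4 : v ∈ fixSub (matRep (spHom 2 F3)) T := by rw [h2]; trivial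
  exact (h4 u hu).trans (one_mulVec v).symm

end Cfsg.Agent.H479.AS.SpFour
end

-- part: H479/AS/SpFourCnt
section
/-!
# Counting flags of `Sp_4(3)` (helper479)
-/

set_option autoImplicit false
set_option linter.unusedSectionVars false

namespace Cfsg.Agent.H479.AS.SpFour

open Module Matrix Cfsg.Agent.H518.DghpFix Cfsg.Agent.H518.DghpMat Cfsg.Agent.H518.SU

section Count

theorem sp_nondeg {x : V4} (h : ∀ v, spB 2 F3 x v = 0) : x = 0 := by
  have h1 := h (Pi.single (Sum.inl 0) 1)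
  have h2 := h (Pi.single (Sum.inl 1) 1)
  have h3 := h (Pi.single (Sum.inr 0) 1)
  have h4 := h (Pi.single (Sum.inr 1) 1)
  rw [sp_eq] at h1 h2 h3 h4
  apply vec_ext
  · simpa [Pi.single_apply] using h3
  · simpa [Pi.single_apply] using h4
  · simpa [Pi.single_apply] using h1
  · simpa [Pi.single_apply] using h2

/-- eigenspaces -/
def Eg (A : Mt) (ε : F3) : Submodule F3 V4 where
  carrier := {v | A *ᵥ v = ε • v}
  zero_mem' := by
    show A *ᵥ 0 = ε • 0
    rw [mulVec_zero, smul_zero]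
  add_mem' := fun {a b} ha hb => by
    show A *ᵥ (a + b) = ε • (a + b)
    rw [mulVec_add, show A *ᵥ a = ε • a from ha, show A *ᵥ b = ε • b from hb, smul_add]
  smul_mem' := fun c a ha => by
    show A *ᵥ (c • a) = ε • (c • a)
    rw [mulVec_smul, show A *ᵥ a = ε • a from ha, smul_comm]

theorem finrank_V4 : finrank F3 V4 = 4 := finrank_sum_fin

theorem f3_cases : ∀ a : F3, a = 0 ∨ a = 1 ∨ a = -1 := by decide

theorem f3_two : ∀ a : F3, a = -a → a = 0 := by decide

theorem Eg_inf (A : Mt) {ε : F3} (hε : ε ≠ 0) : Eg A ε ⊓ Eg A (-ε) = ⊥ := by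
  rw [eq_bot_iff]
  rintro v ⟨h1, h2⟩
  have h1' : A *ᵥ v = ε • v := h1
  have h2' : A *ᵥ v = (-ε) • v := h2
  rw [h1'] at h2'
  rw [Submodule.mem_bot]
  funext i
  have h3 := congrFun h2' i
  rw [Pi.smul_apply, Pi.smul_apply, smul_eq_mul, smul_eq_mul, neg_mul] at h3
  exact (mul_eq_zero.1 (f3_two _ h3)).resolve_left hε

/-- a similitude with a three-dimensional eigenspace has no other eigenvectors -/
theorem Eg_three {A : Mt} {μ : F3} (hμ : μ ≠ 0) (hA : ∀ u v, spB 2 F3 (A *ᵥ u) (A *ᵥ v) = μ * spB 2 F3 u v) {ε : F3}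
    (hε : ε ≠ 0) (h3 : finrank F3 (Eg A ε) = 3) : Eg A (-ε) = ⊥ := by
  rw [eq_bot_iff]
  intro w hw
  rw [Submodule.mem_bot]
  by_contra hw0
  have hwE : w ∉ Eg A ε := by
    intro h
    have h1 : w ∈ Eg A ε ⊓ Eg A (-ε) := ⟨h, hw⟩
    rw [Eg_inf A hε, Submodule.mem_bot] at h1
    exact hw0 h1
  have htop : Eg A ε ⊔ Submodule.span F3 {w} = ⊤ := by
    apply Submodule.eq_top_of_finrank_eq
    have h1 : finrank F3 (Eg A ε) < finrank F3 ↥(Eg A ε ⊔ Submodule.span F3 {w}) := by
      apply Submodule.finrank_lt_finrank_of_lt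
      refine lt_of_le_of_ne le_sup_left fun h => hwE ?_
      rw [h]
      exact Submodule.mem_sup_right (Submodule.mem_span_singleton_self w)
    have h2 : finrank F3 ↥(Eg A ε ⊔ Submodule.span F3 {w}) ≤ finrank F3 V4 := Submodule.finrank_le _
    rw [finrank_V4] at h2 ⊢
    omega
  have hperp : ∀ x : V4, (∀ u ∈ Eg A ε, spB 2 F3 x u = 0) → spB 2 F3 x w = 0 → x = 0 := by
    intro x h1 h2
    apply sp_nondeg
    intro v
    obtain ⟨u, hu, t, ht, rfl⟩ := Submodule.mem_sup.1 (show v ∈ Eg A ε ⊔ Submodule.span F3 {w} by rw [htop]; trivial)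
    obtain ⟨c, rfl⟩ := Submodule.mem_span_singleton.1 ht
    unfold spB at h1 h2 ⊢
    rw [mulVec_add, dotProduct_add, h1 u hu, zero_add, mulVec_smul, dotProduct_smul, h2, smul_zero]
  have hsq : ε * ε = 1 := by
    rcases f3_cases ε with h | h | h
    · exact absurd h hε
    · rw [h]; decide
    · rw [h]; decide
  have hAu : ∀ u ∈ Eg A ε, A *ᵥ u = ε • u := fun u hu => hu
  have hAw : A *ᵥ w = (-ε) • w := hw
  have hsmul : ∀ (a b : F3) (u v : V4), spB 2 F3 (a • u) (b • v) = a * b * spB 2 F3 u v := by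
    intro a b u v
    rw [sp_eq, sp_eq]
    simp only [Pi.smul_apply, smul_eq_mul]
    ring
  rcases f3_cases μ with h | h | h
  · exact hμ h
  · -- `μ = 1`
    apply hw0
    refine hperp w (fun u hu => ?_) (spB_self 2 w)
    have h4 := hA w u
    rw [hAu u hu, hAw, hsmul, neg_mul, hsq, h, one_mul, neg_one_mul] at h4
    exact f3_two _ h4.symm
  · -- `μ = -1`
    have h5 : ∀ u ∈ Eg A ε, ∀ u' ∈ Eg A ε, spB 2 F3 u u' = 0 := by
      intro u hu u' hu'
      have h4 := hA u u'
      rw [hAu u hu, hAu u' hu', hsmul, hsq, h, one_mul, neg_one_mul] at h4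
      exact f3_two _ h4
    let f : Eg A ε →ₗ[F3] F3 :=
      { toFun := fun u => (spB 2 F3 u w :)
        map_add' := fun a b => by
          show spB 2 F3 ((a : V4) + b) w = _
          unfold spB
          rw [add_dotProduct]
        map_smul' := fun c a => by
          show spB 2 F3 (c • (a : V4)) w = _
          unfold spB
          rw [smul_dotProduct, RingHom.id_apply] }
    have h6 := LinearMap.finrank_range_add_finrank_ker f
    have h7 : finrank F3 (LinearMap.range f) ≤ 1 := by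
      have := Submodule.finrank_le (LinearMap.range f)
      rwa [finrank_self] at this
    rw [h3] at h6
    have h8 : LinearMap.ker f ≠ ⊥ := by
      intro h9
      rw [h9, finrank_bot] at h6
      omega
    obtain ⟨u, hu, hu0⟩ := (Submodule.ne_bot_iff _).1 h8
    apply hu0
    exact Subtype.ext ((hperp u (fun u' hu' => h5 u u.2 u' hu') hu :))

/-- the number of eigenvectors -/
theorem ncard_eig {A : Mt} {μ : F3} (hμ : μ ≠ 0) (hA : ∀ u v, spB 2 F3 (A *ᵥ u) (A *ᵥ v) = μ * spB 2 F3 u v)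
    (h1 : A ≠ 1) (h2 : A ≠ -1) : ({v | v ≠ 0 ∧ ∃ c : F3, A *ᵥ v = c • v} : Set V4).ncard ≤ 26 := by
  have hfull : ∀ ε : F3, finrank F3 (Eg A ε) = 4 → A = ε • 1 := by
    intro ε h
    have h3 : Eg A ε = ⊤ := Submodule.eq_top_of_finrank_eq (by rw [h, finrank_V4])
    refine Matrix.ext_of_mulVec_single fun i => ?_
    have h4 : (Pi.single i 1 : V4) ∈ Eg A ε := by rw [h3]; trivial
    rw [show A *ᵥ (Pi.single i 1 : V4) = ε • (Pi.single i 1 : V4) from h4, smul_mulVec, one_mulVec]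
  have ha4 : finrank F3 (Eg A 1) ≠ 4 := fun h => h1 (by rw [hfull 1 h, one_smul])
  have hb4 : finrank F3 (Eg A (-1)) ≠ 4 := fun h => h2 (by rw [hfull (-1) h, neg_one_smul])
  have hle : ∀ ε, finrank F3 (Eg A ε) ≤ 4 := fun ε => by
    have := Submodule.finrank_le (Eg A ε)
    rwa [finrank_V4] at this
  have hab : finrank F3 (Eg A 1) + finrank F3 (Eg A (-1)) ≤ 4 := by
    have h3 := Submodule.finrank_sup_add_finrank_inf_eq (Eg A 1) (Eg A (-1))
    rw [Eg_inf A one_ne_zero, finrank_bot, add_zero] at h3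
    rw [← h3]
    have := Submodule.finrank_le (Eg A 1 ⊔ Eg A (-1))
    rwa [finrank_V4] at this
  have ha3 : finrank F3 (Eg A 1) = 3 → finrank F3 (Eg A (-1)) = 0 := fun h => by
    rw [Eg_three hμ hA one_ne_zero h, finrank_bot]
  have hb3 : finrank F3 (Eg A (-1)) = 3 → finrank F3 (Eg A 1) = 0 := fun h => by
    have h3 := Eg_three hμ hA (ε := -1) (by decide) h
    rw [neg_neg] at h3
    rw [h3, finrank_bot]
  have hcard : ∀ ε, ((Eg A ε : Set V4) \ {0}).ncard = 3 ^ finrank F3 (Eg A ε) - 1 := by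
    intro ε
    have h3 : Nat.card (Eg A ε) = 3 ^ finrank F3 (Eg A ε) := by
      rw [Module.natCard_eq_pow_finrank (K := F3), Nat.card_zmod]
    have h4 : ((Eg A ε : Set V4)).ncard = 3 ^ finrank F3 (Eg A ε) := h3
    rw [Set.ncard_sdiff_singleton_of_mem (Submodule.zero_mem _), h4]
  have hsub : ({v | v ≠ 0 ∧ ∃ c : F3, A *ᵥ v = c • v} : Set V4) ⊆
      (Eg A 0 : Set V4) \ {0} ∪ (((Eg A 1 : Set V4) \ {0}) ∪ ((Eg A (-1) : Set V4) \ {0})) := by
    rintro v ⟨hv, c, hc⟩
    rcases f3_cases c with rfl | rfl | rfl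
    · exact Or.inl ⟨hc, hv⟩
    · exact Or.inr (Or.inl ⟨hc, hv⟩)
    · exact Or.inr (Or.inr ⟨hc, hv⟩)
  have h0 : (Eg A 0 : Set V4) \ {0} = ∅ := by
    rw [Set.eq_empty_iff_forall_notMem]
    rintro v ⟨hv, hv0⟩
    apply hv0
    have h3 : A *ᵥ v = 0 := by
      have h4 : A *ᵥ v = (0 : F3) • v := hv
      rwa [zero_smul] at h4
    apply sp_nondeg
    intro u
    have h4 := hA v u
    rw [h3] at h4
    have h5 : spB 2 F3 0 (A *ᵥ u) = 0 := by unfold spB; rw [zero_dotProduct]
    rw [h5] at h4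
    exact (mul_eq_zero.1 h4.symm).resolve_left hμ
  rw [h0, Set.empty_union] at hsub
  refine (Set.ncard_le_ncard hsub (Set.toFinite _)).trans ((Set.ncard_union_le _ _).trans ?_)
  rw [hcard, hcard]
  generalize finrank F3 (Eg A 1) = a at *
  generalize finrank F3 (Eg A (-1)) = b at *
  have ha : a ≤ 3 := by omega
  have hb : b ≤ 3 := by omega
  interval_cases a <;> interval_cases b <;> first | (norm_num; done) | (exfalso; omega)

/-- the vector `g⁻¹ A g e_0` -/
def vec (A : Mt) (g : Gp) : V4 := g⁻¹.1 *ᵥ (A *ᵥ (g.1 *ᵥ c0))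

theorem mem_W1_iff {v : V4} : v ∈ W1 ↔ ∃ c : F3, v = c • c0 := by
  constructor
  · rintro ⟨h1, h2, h3⟩
    refine ⟨v (Sum.inl 0), ?_⟩
    rw [← sub_eq_zero]
    apply vec_ext
    · simp [c0_apply]
    · simp [c0_apply, h1]
    · simp [c0_apply, h2]
    · simp [c0_apply, h3]
  · rintro ⟨c, rfl⟩
    refine ⟨?_, ?_, ?_⟩ <;> simp [c0_apply]

theorem c0_ne : c0 ≠ 0 := by
  intro h
  have h5 := congrFun h (Sum.inl 0)
  rw [c0_apply, if_pos rfl] at h5
  exact absurd h5 (by decide)

theorem count_one {A : Mt} {μ : F3} (hμ : μ ≠ 0) (hA : ∀ u v, spB 2 F3 (A *ᵥ u) (A *ᵥ v) = μ * spB 2 F3 u v)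
    (h1 : A ≠ 1) (h2 : A ≠ -1) : 3 * ({g | vec A g ∈ W1} : Set Gp).ncard < Nat.card Gp := by
  have hb := ncard_le_of_fiber ({g | vec A g ∈ W1} : Set Gp) (fun g => g.1 *ᵥ c0)
    ({v | v ≠ 0 ∧ ∃ c : F3, A *ᵥ v = c • v} : Set V4) (Nat.card P0) (fun g hg => by
      refine ⟨fun h => ?_, ?_⟩
      · have h4 := inv_mulVec_cancel g c0
        rw [h, mulVec_zero] at h4
        exact c0_ne h4.symm
      · obtain ⟨c, hc⟩ := mem_W1_iff.1 hg
        refine ⟨c, ?_⟩
        have h3 : g.1 *ᵥ (vec A g) = A *ᵥ (g.1 *ᵥ c0) := mulVec_inv_cancel g _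
        rw [← h3, hc, mulVec_smul]) (fun v _ => by
      by_cases hne : ∃ g0 : Gp, g0.1 *ᵥ c0 = v
      · obtain ⟨g0, hg0⟩ := hne
        have h3 : ({a | a ∈ ({g | vec A g ∈ W1} : Set Gp) ∧ a.1 *ᵥ c0 = v} : Set Gp) ⊆ (fun p => g0 * p) '' (P0 : Set Gp) := by
          rintro g ⟨-, hg⟩
          refine ⟨g0⁻¹ * g, ?_, mul_inv_cancel_left _ _⟩
          show (g0⁻¹.1 * g.1) *ᵥ c0 = c0
          rw [← mulVec_mulVec, hg, ← hg0, inv_mulVec_cancel]
        refine (Set.ncard_le_ncard h3 (Set.toFinite _)).trans ?_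
        rw [Set.ncard_image_of_injective _ (mul_right_injective g0)]
        exact le_rfl
      · have h3 : ({a | a ∈ ({g | vec A g ∈ W1} : Set Gp) ∧ a.1 *ᵥ c0 = v} : Set Gp) = ∅ := by
          rw [Set.eq_empty_iff_forall_notMem]
          rintro g ⟨-, hg⟩
          exact hne ⟨g, hg⟩
        rw [h3, Set.ncard_empty]
        exact Nat.zero_le _)
  have h3 := ncard_eig hμ hA h1 h2
  have h4 := P0.card_mul_index
  rw [P0_index] at h4
  have h5 : 0 < Nat.card P0 := Nat.card_pos
  have h6 : Nat.card P0 * ({v | v ≠ 0 ∧ ∃ c : F3, A *ᵥ v = c • v} : Set V4).ncard ≤ Nat.card P0 * 26 :=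
    Nat.mul_le_mul_left _ h3
  omega

/-- the elements moving the line -/
def rr (i : Fin 4) : Gp := ⟨R0 i, by rw [SymplecticGroup.mem_iff]; exact symp_r i⟩

theorem rr_c (i : Fin 4) : (rr i).1 *ᵥ c0 = c0 := r_c i

theorem rri_c (i : Fin 4) : (rr i)⁻¹.1 *ᵥ c0 = c0 := by
  conv_lhs => rw [← rr_c i]
  exact inv_mulVec_cancel _ _

theorem line_coord (i : Fin 4) {v : V4} (hv : v ∈ W2) :
    ((rr i).1 *ᵥ v) (Sum.inl 1) = ![1, 0, 1, 1] i * v (Sum.inl 1) ∧
      ((rr i).1 *ᵥ v) (Sum.inr 1) = ![0, 1, 1, 2] i * v (Sum.inl 1) := by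
  have h1 : (rr i).1 = R0 i := rfl
  rw [h1]
  simp only [mulVec, dotProduct, Fintype.sum_sum_type, Fin.sum_univ_two, hv.1, hv.2]
  generalize v (Sum.inl 0) = a
  generalize v (Sum.inl 1) = b
  revert i a b
  decide +kernel

theorem line_sep : ∀ i j : Fin 4, ∀ b b' : F3, (![1, 0, 1, 1] i : F3) * b = ![1, 0, 1, 1] j * b' →
    (![0, 1, 1, 2] i : F3) * b = ![0, 1, 1, 2] j * b' → i = j ∨ b = 0 := by decide +kernel

theorem count_two (A : Mt) :
    4 * ({g | vec A g ∈ W2 ∧ vec A g ∉ W1} : Set Gp).ncard + ({g | vec A g ∈ W1} : Set Gp).ncard ≤ Nat.card Gp := by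
  have hvec : ∀ (g : Gp) (i : Fin 4), vec A (g * (rr i)⁻¹) = (rr i).1 *ᵥ vec A g := by
    intro g i
    unfold vec
    have h1 : (g * (rr i)⁻¹)⁻¹ = rr i * g⁻¹ := by rw [_root_.mul_inv_rev, inv_inv]
    rw [h1]
    show ((rr i).1 * g⁻¹.1) *ᵥ (A *ᵥ ((g.1 * (rr i)⁻¹.1) *ᵥ c0)) = _
    rw [← mulVec_mulVec, ← mulVec_mulVec, rri_c]
  have hW1 : ∀ (i : Fin 4) (v : V4), (rr i).1 *ᵥ v ∈ W1 → v ∈ W1 := by
    intro i v h
    obtain ⟨c, hc⟩ := mem_W1_iff.1 h
    refine mem_W1_iff.2 ⟨c, ?_⟩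
    rw [← inv_mulVec_cancel (rr i) v, hc, mulVec_smul, rri_c]
  let f : ({g | vec A g ∈ W2 ∧ vec A g ∉ W1} : Set Gp) × Fin 4 → (({g | vec A g ∈ W1} : Set Gp)ᶜ : Set Gp) :=
    fun x => ⟨x.1.1 * (rr x.2)⁻¹, fun h => x.1.2.2 (hW1 x.2 _ (by
      rw [← hvec]
      exact h))⟩
  have hf : Function.Injective f := by
    rintro ⟨g, i⟩ ⟨h, j⟩ hgh
    have h1 : g.1 * (rr i)⁻¹ = h.1 * (rr j)⁻¹ := (congrArg Subtype.val hgh :)
    have h2 : (rr i).1 *ᵥ vec A g = (rr j).1 *ᵥ vec A h := by rw [← hvec, ← hvec, h1]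
    have h3 := line_coord i g.2.1
    have h4 := line_coord j h.2.1
    rw [h2] at h3
    have h5 : i = j := by
      rcases line_sep i j _ _ (h3.1.symm.trans h4.1) (h3.2.symm.trans h4.2) with h6 | h6
      · exact h6
      · exact absurd (show vec A g ∈ W1 from ⟨h6, g.2.1.1, g.2.1.2⟩) g.2.2
    subst h5
    have h6 : g = h := Subtype.ext (mul_right_cancel h1)
    rw [h6]
  have h1 := Nat.card_le_card_of_injective f hf
  rw [Nat.card_prod, Nat.card_fin, Nat.card_coe_set_eq, Nat.card_coe_set_eq] at h1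
  have h2 := Set.ncard_add_ncard_compl ({g | vec A g ∈ W1} : Set Gp)
  omega

theorem W1_le : W1 ≤ W2 := fun _ hv => ⟨hv.2.1, hv.2.2⟩

theorem count_bad {A : Mt} {μ : F3} (hμ : μ ≠ 0) (hA : ∀ u v, spB 2 F3 (A *ᵥ u) (A *ᵥ v) = μ * spB 2 F3 u v)
    (h1 : A ≠ 1) (h2 : A ≠ -1) : 2 * ({g | vec A g ∈ W2} : Set Gp).ncard < Nat.card Gp := by
  have h3 := count_one hμ hA h1 h2
  have h4 := count_two A
  have h5 : ({g | vec A g ∈ W2} : Set Gp) ⊆ {g | vec A g ∈ W2 ∧ vec A g ∉ W1} ∪ {g | vec A g ∈ W1} := by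
    intro g hg
    by_cases h : vec A g ∈ W1
    · exact Or.inr h
    · exact Or.inl ⟨hg, h⟩
  have h6 := (Set.ncard_le_ncard h5 (Set.toFinite _)).trans (Set.ncard_union_le _ _)
  omega

end Count

end Cfsg.Agent.H479.AS.SpFour
end

-- part: H479/AS/SpFourFin
section
/-!
# `AS2` for `PSp_4(3)` (helper479): the end
-/

set_option autoImplicit false
set_option linter.unusedSectionVars false

namespace Cfsg.Agent.H479.AS.SpFour

open Module Matrix Cfsg.Agent.H518.DghpFix Cfsg.Agent.H518.DghpMat Cfsg.Agent.H518.SU Cfsg.Agent.H965.AS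

/-- preimages of solvable subgroups -/
theorem solv_comap {G H : Type*} [Group G] [Group H] (f : G →* H) (hf : f.ker ≤ Subgroup.center G) {M : Subgroup H}
    (hM : Group.IsSolvable M) : Group.IsSolvable (M.comap f) := by
  let g : M.comap f →* M := (f.comp (M.comap f).subtype).codRestrict M fun g => g.2
  have hab : ∀ a b : Subgroup.center G, a * b = b * a := fun a b =>
    Subtype.ext (Subgroup.mem_center_iff.1 b.2 a)
  have h1 : Group.IsSolvable g.ker := by
    let k : g.ker →* Subgroup.center G := ((M.comap f).subtype.comp g.ker.subtype).codRestrict _ fun x =>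
      hf (congrArg Subtype.val (show g x.1 = 1 from x.2))
    have hc : Group.IsSolvable (Subgroup.center G) := Group.isSolvable_of_comm hab
    refine Group.isSolvable_of_isSolvable_injective (f := k) ?_
    intro a b h
    have h2 : ((a : M.comap f) : G) = ((b : M.comap f) : G) :=
      congrArg (fun u : Subgroup.center G => (u : G)) h
    exact Subtype.ext (Subtype.ext h2)
  exact Group.isSolvable_of_ker_le_range g.ker.subtype g (by rw [Subgroup.range_subtype])

theorem sp_invariant {B Bi : Mt} (hB : B * Bi = 1) (hBi : Bi * B = 1) {U : Submodule F3 V4} (hc : c0 ∈ U)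
    (h : ∀ v ∈ U, (B * Y0 * Bi) *ᵥ v ∈ U) : B *ᵥ c0 ∈ U := by
  let U' : Submodule F3 V4 := U.comap (Matrix.toLin' B)
  have hmem : ∀ v, v ∈ U' ↔ B *ᵥ v ∈ U := fun v => Iff.rfl
  have h1 : ∀ v ∈ U', Y0 *ᵥ v ∈ U' := by
    intro v hv
    rw [hmem] at hv ⊢
    have h2 := h _ hv
    rwa [mulVec_mulVec, mul_assoc, hBi, mul_one, ← mulVec_mulVec] at h2
  have h2 : U' ≠ ⊥ := by
    intro h3
    have h4 : Bi *ᵥ c0 ∈ U' := by
      rw [hmem, mulVec_mulVec, hB, one_mulVec]
      exact hc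
    rw [h3, Submodule.mem_bot] at h4
    have h5 : B *ᵥ (Bi *ᵥ c0) = c0 := by rw [mulVec_mulVec, hB, one_mulVec]
    rw [h4, mulVec_zero] at h5
    exact c0_ne h5.symm
  have h3 : c0 ∈ U' := by
    have hW1 : c0 ∈ W1 := mem_W1_iff.2 ⟨1, (one_smul _ _).symm⟩
    rcases inv_sub h1 with h | h | h | h | h
    · exact absurd h h2
    · rw [h]; exact hW1
    · rw [h]; exact W1_le hW1
    · rw [h]; exact hW1.2.1
    · rw [h]; trivial
  exact h3

theorem conj_mem {A Ai : Mt} {μ : F3} (hA : ∀ u v, spB 2 F3 (A *ᵥ u) (A *ᵥ v) = μ * spB 2 F3 u v) (h : A * Ai = 1)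
    (s : Gp) : A * s.1 * Ai ∈ Matrix.symplecticGroup (Fin 2) F3 := by
  obtain ⟨g, hg⟩ := exists_sp 2 (z := Matrix.toLin' (A * s.1 * Ai)) (fun u v => by
    show spB 2 F3 ((A * s.1 * Ai) *ᵥ u) ((A * s.1 * Ai) *ᵥ v) = _
    rw [← mulVec_mulVec, ← mulVec_mulVec, ← mulVec_mulVec, ← mulVec_mulVec, hA, sp_isom, ← hA, mulVec_mulVec,
      mulVec_mulVec, h, one_mulVec, one_mulVec])
  have h1 : g.1 = A * s.1 * Ai := Matrix.toLin'.injective hg
  rw [← h1]
  exact g.2

theorem mz_center : mz ∈ Subgroup.center Gp := Subgroup.mem_center_iff.2 fun g => (mz_comm g).symm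

/-- **`AS2` for `PSp_4(3)`**, over `ZMod 3`. -/
theorem as2_zmod : AS2 (Cfsg.PSp 2 F3) := by
  refine of_frames (Ω := Gp) (fun g => (QuotientGroup.mk (g * y * g⁻¹) : Cfsg.PSp 2 F3)) fun x hx => ?_
  obtain ⟨A, σ, ⟨μ, hA⟩, hind⟩ := Cfsg.Agent.H198.SympGamma.exists_pair (F := F3) (m := 2) le_rfl
    (Or.inr (by decide)) x
  have hσ : σ = RingEquiv.refl _ := Subsingleton.elim _ _
  have hAi : (A : Mt) * (A⁻¹ : GL Ix F3).1 = 1 := by
    rw [← Units.val_mul, mul_inv_cancel, Units.val_one]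
  have hiA : (A⁻¹ : GL Ix F3).1 * (A : Mt) = 1 := by
    rw [← Units.val_mul, inv_mul_cancel, Units.val_one]
  have hind' : ∀ s s' : Gp, s'.1 = (A : Mt) * s.1 * (A⁻¹ : GL Ix F3).1 →
      x (QuotientGroup.mk s) = QuotientGroup.mk s' := by
    intro s s' h
    apply hind
    rw [hσ]
    have h1 : s.1.map (RingEquiv.refl F3) = s.1 := by
      ext i j
      rfl
    rw [h1]
    exact h
  have hscal : ∀ c : F3, c * c = 1 → (A : Mt) ≠ c • 1 := by
    intro c hc h
    apply hx
    ext k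
    obtain ⟨s, rfl⟩ := QuotientGroup.mk_surjective k
    refine hind' s s ?_
    rw [h, smul_mul_assoc, one_mul]
    have h1 : (c • (1 : Mt)) * (A⁻¹ : GL Ix F3).1 = 1 := by rw [← h, hAi]
    rw [smul_mul_assoc, one_mul] at h1
    rw [smul_mul_assoc, ← mul_smul_comm, h1, mul_one]
  refine ⟨{g | vec A g ∈ W2}, fun g hg => ?_, count_bad (μ := (μ : F3)) (Units.ne_zero μ) hA (fun h => ?_) fun h => ?_⟩
  · -- solvable pairs are bad
    set! L := Subgroup.closure ({x, MulAut.conj (QuotientGroup.mk (g * y * g⁻¹) : Cfsg.PSp 2 F3)} :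
      Set (MulAut (Cfsg.PSp 2 F3))) with hL; rewrite [← hL] at hg
    have hxL : x ∈ L := Subgroup.subset_closure (by simp only [_root_.QuotientGroup.mk_mul, _root_.QuotientGroup.mk_inv, _root_.map_mul, _root_.map_inv, _root_.Set.mem_insert_iff, _root_.Set.mem_singleton_iff, _root_.true_or])
    have hyL : MulAut.conj (QuotientGroup.mk (g * y * g⁻¹) : Cfsg.PSp 2 F3) ∈ L := Subgroup.subset_closure (by simp only [_root_.QuotientGroup.mk_mul, _root_.QuotientGroup.mk_inv, _root_.map_mul, _root_.map_inv, _root_.Set.mem_insert_iff, _root_.Set.mem_singleton_iff, _root_.or_true])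
    have hM0 : Group.IsSolvable (L.comap (MulAut.conj : Cfsg.PSp 2 F3 →* MulAut (Cfsg.PSp 2 F3))) := by
      refine solv_comap _ ?_ hg
      intro k hk
      rw [Subgroup.mem_center_iff]
      intro a
      have h1 : MulAut.conj k a = a := by
        rw [show MulAut.conj k = 1 from hk]
        rfl
      rw [MulAut.conj_apply] at h1
      exact (mul_inv_eq_iff_eq_mul.1 h1).symm
    have hM1 := solv_comap (QuotientGroup.mk' (Subgroup.center Gp)) (by rw [QuotientGroup.ker_mk']) hM0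
    have hM2 := solv_comap (MulAut.conj g : MulAut Gp).toMonoidHom (by
      intro k hk
      have h1 : MulAut.conj g k = 1 := hk
      rw [MulAut.conj_apply] at h1
      rw [conj_eq_one_iff.1 h1]
      exact one_mem _) hM1
    set! M := ((L.comap (MulAut.conj : Cfsg.PSp 2 F3 →* MulAut (Cfsg.PSp 2 F3))).comap
      (QuotientGroup.mk' (Subgroup.center Gp))).comap (MulAut.conj g : MulAut Gp).toMonoidHom with hM; rewrite [← hM] at hM2
    have hmem : ∀ m : Gp, m ∈ M ↔ MulAut.conj (QuotientGroup.mk (g * m * g⁻¹) : Cfsg.PSp 2 F3) ∈ L := fun m => Iff.rfl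
    have hyM : y ∈ M := hyL
    have hmzM : mz ∈ M := by
      rw [hmem]
      have h1 : g * mz * g⁻¹ = mz := by rw [← mz_comm, mul_inv_cancel_right]
      rw [h1, (QuotientGroup.eq_one_iff mz).2 mz_center, map_one]
      exact one_mem _
    -- the image of `y`
    have hsymp : (A : Mt) * (g * y * g⁻¹ : Gp).1 * (A⁻¹ : GL Ix F3).1 ∈ Matrix.symplecticGroup (Fin 2) F3 :=
      conj_mem hA hAi _
    have hxy : (MulAut.conj (QuotientGroup.mk (⟨_, hsymp⟩ : Gp) : Cfsg.PSp 2 F3)) ∈ L := by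
      rw [← hind' (g * y * g⁻¹) ⟨_, hsymp⟩ rfl]
      have e : (MulAut.conj (x (QuotientGroup.mk (g * y * g⁻¹))) : MulAut (Cfsg.PSp 2 F3)) =
          x * MulAut.conj (QuotientGroup.mk (g * y * g⁻¹)) * x⁻¹ := by
        ext l
        simp only [_root_.QuotientGroup.mk_mul, _root_.QuotientGroup.mk_inv, _root_.map_mul, _root_.map_inv, _root_.MulAut.mul_apply, _root_.MulAut.inv_apply, _root_.MulAut.conj_symm_apply, _root_.MulAut.conj_apply, _root_.MulEquiv.apply_symm_apply]
      rw [e]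
      exact mul_mem (mul_mem hxL hyL) (inv_mem hxL)
    have hyM2 : g⁻¹ * ⟨_, hsymp⟩ * g ∈ M := by
      rw [hmem]
      have h1 : g * (g⁻¹ * (⟨_, hsymp⟩ : Gp) * g) * g⁻¹ = ⟨_, hsymp⟩ := by group
      rw [h1]
      exact hxy
    have hW1 : c0 ∈ W1 := mem_W1_iff.2 ⟨1, (one_smul _ _).symm⟩
    have hB : (g⁻¹.1 * (A : Mt) * g.1) * (g⁻¹.1 * (A⁻¹ : GL Ix F3).1 * g.1) = 1 := by
      have h1 : g.1 * g⁻¹.1 = 1 := (congrArg Subtype.val (mul_inv_cancel g) :)
      have h2 : g⁻¹.1 * g.1 = 1 := congrArg Subtype.val (inv_mul_cancel g)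
      calc _ = g⁻¹.1 * (A : Mt) * (g.1 * g⁻¹.1) * (A⁻¹ : GL Ix F3).1 * g.1 := by noncomm_ring
        _ = g⁻¹.1 * ((A : Mt) * (A⁻¹ : GL Ix F3).1) * g.1 := by rw [h1, mul_one]; noncomm_ring
        _ = 1 := by rw [hAi, mul_one, h2]
    have hBi : (g⁻¹.1 * (A⁻¹ : GL Ix F3).1 * g.1) * (g⁻¹.1 * (A : Mt) * g.1) = 1 := by
      have h1 : g.1 * g⁻¹.1 = 1 := (congrArg Subtype.val (mul_inv_cancel g) :)
      have h2 : g⁻¹.1 * g.1 = 1 := congrArg Subtype.val (inv_mul_cancel g)
      calc _ = g⁻¹.1 * (A⁻¹ : GL Ix F3).1 * (g.1 * g⁻¹.1) * (A : Mt) * g.1 := by noncomm_ring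
        _ = g⁻¹.1 * ((A⁻¹ : GL Ix F3).1 * (A : Mt)) * g.1 := by rw [h1, mul_one]; noncomm_ring
        _ = 1 := by rw [hiA, mul_one, h2]
    have hmat : (g⁻¹ * (⟨_, hsymp⟩ : Gp) * g).1 =
        (g⁻¹.1 * (A : Mt) * g.1) * Y0 * (g⁻¹.1 * (A⁻¹ : GL Ix F3).1 * g.1) := by
      show g⁻¹.1 * ((A : Mt) * (g.1 * Y0 * g⁻¹.1) * (A⁻¹ : GL Ix F3).1) * g.1 = _
      noncomm_ring
    have hvec : vec A g = (g⁻¹.1 * (A : Mt) * g.1) *ᵥ c0 := by
      unfold vec
      rw [mulVec_mulVec, mulVec_mulVec, mul_assoc]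
    show vec A g ∈ W2
    rw [hvec]
    rcases solv_fix hM2 hyM hmzM with h | h
    · refine W1_le (sp_invariant hB hBi hW1 fun v hv => ?_)
      rw [← hmat]
      exact h _ hyM2 v hv
    · refine sp_invariant hB hBi (W1_le hW1) fun v hv => ?_
      rw [← hmat]
      exact h _ hyM2 v hv
  · exact hscal 1 (by decide) (by rw [one_smul]; exact h)
  · exact hscal (-1) (by decide) (by rw [neg_one_smul]; exact h)

end Cfsg.Agent.H479.AS.SpFour

namespace Cfsg.Agent.H479.AS

/-- **`AS2` for `PSp_4(3)`.** -/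
theorem as2_psp_four_three {F : Type} [Field F] [Fintype F] (hF : Fintype.card F = 3) :
    Cfsg.Agent.H965.AS.AS2 (Cfsg.PSp 2 F) := by
  let σ : F ≃+* ZMod 3 := (ZMod.ringEquivOfPrime F Nat.prime_three hF).symm
  let e : Matrix.symplecticGroup (Fin 2) F ≃* Matrix.symplecticGroup (Fin 2) (ZMod 3) :=
    { toFun := fun A => ⟨A.1.map σ, SymplecticGroup.map_mem A.2 σ⟩
      invFun := fun A => ⟨A.1.map σ.symm, SymplecticGroup.map_mem A.2 σ.symm⟩
      left_inv := fun A => by
        apply Subtype.ext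
        ext i j
        simp
      right_inv := fun A => by
        apply Subtype.ext
        ext i j
        simp
      map_mul' := fun A B => by
        apply Subtype.ext
        exact Matrix.map_mul }
  obtain ⟨e'⟩ : Nonempty (Cfsg.PSp 2 F ≃* Cfsg.PSp 2 (ZMod 3)) := Cfsg.Agent.UGT.U2.Rec.Congr.quot_center e
  exact SpFour.as2_zmod.congr e'.symm

end Cfsg.Agent.H479.AS
end
end
end
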